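import Cfsg.Agent.H24.MHub

/-!
# Recognition of M22 and M23 from coordinates of the automizer
-/

set_option autoImplicit false
set_option maxRecDepth 100000
set_option linter.unusedSectionVars false

namespace Cfsg.Agent.H24.MH

open Cfsg.Agent.H42 hiding gen gen_le
open Cfsg.Agent.H70 Subgroup
open Cfsg.Agent.H44 hiding allL allL_iff fld
open scoped Pointwise

variable {G : Type*} [Group G]

/-- Recognition of `M22`, from coordinates of the automizer. -/
theorem m22_of_aut [Finite G] {A : Subgroup G} {σ : ℕ → G} (X : Aut A σ m6)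
    (hN : ∀ a ∈ A, a ≠ 1 → centralizer ({a} : Set G) ≤ normalizer (A : Set G))
    (hfus : ∃ a ∈ A, ∃ g : G, g * a * g⁻¹ ∈ normalizer (A : Set G) ∧ g * a * g⁻¹ ∉ A) :
    Spor.IsoM22 G := by
  obtain ⟨h, f, k, b, D1⟩ := exists_D1 X xok6
  have D : D2 A σ h f k b m6 BL6 W1 := ⟨D1, X, xok6, hN⟩
  obtain ⟨a, ha, g, h1, h2⟩ := hfus
  obtain ⟨g, hg⟩ := D.fusion ha h1 h2
  obtain ⟨w, aw | aw⟩ := D.exists_w 1
    (fun x hx => D.act1_let 1 1 x ((by decide : ∀ x ∈ BL6, _) x hx)) (D.act2_let 1 1) hg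
  · exact iso22_of D aw
  · exact iso22_of ⟨D1.twist, X, xok6, hN⟩ (D1.twist_act aw)

/-- Recognition of `M23`, from coordinates of the automizer. -/
theorem m23_of_aut [Finite G] {A : Subgroup G} {σ : ℕ → G} (X : Aut A σ m7)
    (hN : ∀ a ∈ A, a ≠ 1 → centralizer ({a} : Set G) ≤ normalizer (A : Set G))
    (hfus : ∃ a ∈ A, ∃ g : G, g * a * g⁻¹ ∈ normalizer (A : Set G) ∧ g * a * g⁻¹ ∉ A) :
    Spor.IsoM23 G := by
  obtain ⟨h, f, k, b, l, D1, al, lh, lb⟩ := exists_D1l X xok7 lM_mem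
  have D : D2 A σ h f k b m7 BL7 W0 := ⟨D1, X, xok7, hN⟩
  obtain ⟨a, ha, g, h1, h2⟩ := hfus
  obtain ⟨g, hg⟩ := D.fusion ha h1 h2
  have lb2 : l * (h * b * h⁻¹) * l⁻¹ = h * b * h⁻¹ := by
    calc _ = (l * h * l⁻¹) * (l * b * l⁻¹) * (l * h * l⁻¹)⁻¹ := by group
      _ = _ := by rw [lh, lb]
  have aL : Act σ l⁻¹ LM := al.inv (by decide +kernel)
  have al2 : Act (tau σ h b) l (μ2 13) :=
    D1.act2 al (by decide +kernel) (lb.trans (tau_4 ..).symm) (lb2.trans (tau_8 ..).symm)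
  have aL2 : Act (tau σ h b) l⁻¹ (μ2 14) := al2.inv (by decide +kernel) (by decide +kernel)
  have a1 : ∀ w, ∀ x ∈ [1, 2, 3, 4, 5, 6, 7, 8, 9, 10, 11, 13, 14],
      Act σ (lt σ h f k b w l x) (μ1 x) := by
    intro w x hx
    rcases (by decide : ∀ x ∈ [1, 2, 3, 4, 5, 6, 7, 8, 9, 10, 11, 13, 14],
      x ∈ [1, 2, 3, 4, 5, 6, 7, 8, 9, 10, 11] ∨ x = 13 ∨ x = 14) x hx with hx | rfl | rfl
    exacts [D.act1_let w l x hx, al, aL]
  obtain ⟨w, aw⟩ := D.exists_w l (fun x hx => a1 1 x ((by decide : ∀ x ∈ BL7, _) x hx))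
    (fun x hx => by
      rcases (by decide : ∀ x ∈ BL7, x ∈ BL6 ∨ x = 13 ∨ x = 14) x hx with hx | rfl | rfl
      exacts [D.act2_let 1 l x hx, al2, aL2]) hg
  obtain ⟨w, aw, wh⟩ := D.adjust_w (aw.elim id id)
  have := D.nontrivial
  have li : l ∈ Inv h := Or.inl lh
  have s : Sat (lt σ h f k b w l) [[13, 14], [13, 13, 13], [13, 7, 14, 8], [9, 13, 9, 13],
      [13, 5, 14, 5], [13, 6, 14, 6], [10, 13, 10, 13], [12, 13, 8, 12, 13, 8]] := by
    intro r hr
    simp only [List.mem_cons, List.not_mem_nil, or_false] at hr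
    rcases hr with rfl | rfl | rfl | rfl | rfl | rfl | rfl | rfl <;>
      simp only [ev_cons, ev_nil, mul_one, lt]
    · exact mul_inv_cancel l
    · exact D.inv1 ((al.mul (al.mul al)).of_eq (by decide +kernel)) (mul_mem li (mul_mem li li))
    · rw [← mul_assoc, ← mul_assoc, lh, mul_inv_cancel]
    · exact D.inv1 ((D.af.mul (al.mul (D.af.mul al))).of_eq (by decide +kernel))
        (mul_mem D.f_inv (mul_mem li (mul_mem D.f_inv li)))
    · rw [← mul_assoc, ← mul_assoc, lb, D.bb]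
    · rw [← mul_assoc, ← mul_assoc, lb2, D.b2b2]
    · exact D.inv1 ((D.ak.mul (al.mul (D.ak.mul al))).of_eq (by decide +kernel))
        (mul_mem D.k_inv (mul_mem li (mul_mem D.k_inv li)))
    · exact D.inv2 ((aw.mul (al2.mul (D.aH2.mul (aw.mul (al2.mul D.aH2))))).of_eq
        (by decide +kernel)) (mul_mem (Or.inl wh) (mul_mem li (mul_mem (inv_mem (self_mem_Inv h))
          (mul_mem (Or.inl wh) (mul_mem li (inv_mem (self_mem_Inv h)))))))
  refine iso23 (((D.sat22 aw wh l).append (s.append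
    (sat_actR D.pre (X := 14) (a1 w 13 (by simp)) (mul_inv_cancel l)))).mono (by decide +kernel))
    (D.eq_top aw (D.le_gen w l (by norm_num))
    (mem_gen (lt σ h f k b w l) (x := 12) (by norm_num) (by norm_num)) fun M hM => ?_)
  exact real_of_walk
    (Act.word fun x hx => a1 w x ((by decide : ∀ x ∈ wx7, _) x hx))
    (Act.word fun x hx => a1 w x ((by decide : ∀ x ∈ wy7, _) x hx))
    (words_mem _ (S := [wx7]) (by decide) _ List.mem_cons_self)
    (words_mem _ (S := [wy7]) (by decide) _ List.mem_cons_self) walk7 hM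

end Cfsg.Agent.H24.MH
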