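import Cfsg.Agent.H24.GhM24
import Cfsg.Agent.H42.Sylow2
import Cfsg.Agent.H6.ZStar

/-! Coordinates on a Sylow 2-subgroup of `M₂₄` modulo its centre. -/

set_option autoImplicit false
set_option linter.unusedSectionVars false
set_option maxRecDepth 100000

namespace Cfsg.Agent.H24.Gh

open Cfsg Cfsg.Agent.H63 Cfsg.Agent.H67 Cfsg.Agent.H8.GD Subgroup
open Cfsg.Agent.H42 (inM toM pmul pid z24 gensP24 gen inP24 P24_eq allB allL nthD force)

open scoped commutatorElement

universe u

def qL : List ℕ := [
    984818244535754528103549039458486304,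
    726115778498356113741946989068750277,
    592296199946057393816269022663022115,
    51163037376999251539632481028440802,
    152053038170404361914225923802776750,
    99492171515713636889053121838898177,
    12433457732606708835523568255566935,
    224823195495725537571316964381472881,
    106856991238447765702516655826459649,
    133063281860353144099650130857936046,
    213681097596010327024722790345390193,
    26413252147263172956105570516403287,
    719478655828935500601923156191546821,
    976448692869377735270425038196672544,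
    67109592923156083314794272629359330,
    596451965903623031614061060831581731,
    92714082135646112396765900023847937,
    135372831066009289616766904528782510,
    234105125056078038159130860842956913,
    5989235823820259689967313196876887,
    727218442632104378814791198188834245,
    968708902336673183175954409307867168,
    57951258058046034908233171905708770,
    608973892794308237616970946034275875,
    981818691054096003685363657089320992,
    712135271031710147258693856465587653,
    591161903969597293218785141257672227,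
    52297349443053196071938776526652130,
    141030542619391721613032278850258094,
    110514662104086119723408036109802497,
    21064801546226450623669850930086999,
    221014351092256400291400771999676529,
    141786972279603261112054985402336430,
    95104957816414677220776724834868225,
    15114812328677791340094776775476311,
    232532371750971738523848882848315505,
    965128854020860192151391391390468128,
    716951872889997810888870055953632709,
    608013841824546179626130125083383331,
    47602323197725890978489344939164386,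
    721269721098967027487300373557874117,
    980224387687010295957922729495201824,
    58708955334971165046248774589121250,
    593561653212765223374665134110676515,
    109530525773637528430013519352093697,
    130685410726474460394586889161262254,
    217450782237381916913217580954597489,
    10798231781151007620950853838898263,
    730994137472705829093238631600033221,
    970499966350631336865513127433832480,
    55269909645630725420886875715044066,
    602562793209024693644789198760187427,
    112424983097229755092343687492459521,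
    144560822035054129117622677688534190,
    218490083647402982823691911264516209,
    9758914281536097782199268080550999,
    136643330176166135103490186048947374,
    100248596190316129319380533109120001,
    28167367375106645565081499637056599,
    223904669966769939106098722710272113,
    979121071158219704299181131031480352,
    714491631718899524215975228346535365,
    587601183606668180861377904574993955,
    68014970278979091883698075695481570]

def rL : List ℕ := [
    726115778498356113741946989068750277,
    133890141549189696074205134281840174,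
    715782092948159007776132653413076421,
    591527770921911839350855452424488099,
    151335004400991472413007864034018478,
    56645584941720414073527033246440450,
    11223110482434808275981567346771031,
    222810477048398451317652540471971281]

def qq (v : Fin 64) : ℕ := qL.getD v.1 0
def rr (i : Fin 8) : ℕ := rL.getD i.1 0
def gi (g : ℕ) : Fin 8 :=
  if g = 135636897215036988499513515094119982 then 1 else
  if g = 21553437447306391113730797094863959 then 4 else 6

noncomputable def eqz (a b : ℕ) : Bool :=
  force a fun a => force b fun b => Nat.beq a b || Nat.beq a (pmul b z24)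

theorem qq_mem : ∀ v, (inM (qq v) && inP24 (qq v)) = true := by decide +kernel
theorem rr_mem : ∀ i, (inM (rr i) && inP24 (rr i)) = true := by decide +kernel
theorem z_mem : inP24 z24 = true := by decide +kernel
theorem qq_mul : ∀ v w, eqz (pmul (qq v) (qq w)) (qq (v ^^^ w)) = true := by decide +kernel
theorem qq_ne : ∀ v, (qq v = pid ∨ qq v = z24) → v = 0 := by decide +kernel
theorem rr_act : ∀ i v, eqz (pmul (rr i) (qq v)) (pmul (qq (M i v)) (rr i)) = true := by
  decide +kernel
theorem gens_act : ∀ g ∈ gensP24, ∀ v, eqz (pmul g (qq v)) (pmul (qq (M (gi g) v)) g) = true := by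
  decide +kernel
theorem gens_z : ∀ g ∈ gensP24, pmul g z24 = pmul z24 g := by decide +kernel
theorem c_four : pmul (pmul (rr 1) (rr 1)) (pmul (rr 1) (rr 1)) = pid := by decide +kernel
theorem z_ne : z24 ≠ pid := by decide +kernel
theorem mulI_inv : ∀ i, ∃ j, mulI i j = 0 := by decide +kernel

noncomputable def PP : Subgroup M24 := gen gensP24

theorem PP_eq : H42.P24 = PP := P24_eq

theorem PP_def : PP = closure (toM '' {g | g ∈ gensP24}) := rfl

theorem mem_PP {g : ℕ} (h : (inM g && inP24 g) = true) : inM g = true ∧ toM g ∈ PP := by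
  rw [Bool.and_eq_true] at h
  exact ⟨h.1, PP_eq.le (H42.mem_of_inP24 g h.1 h.2)⟩

theorem z_mem_PP : toM z24 ∈ PP := PP_eq.le (H42.mem_of_inP24 _ H42.inM_z24 z_mem)

theorem card_PP : Nat.card PP = 1024 := by rw [← PP_eq]; exact H42.card_P24

theorem mem_center_PP (x : PP) : x ∈ center PP ↔ (x : M24) = 1 ∨ (x : M24) = toM z24 := by
  constructor
  · intro hx
    refine H42.center_P24 (PP_eq.ge x.2) fun s hs => ?_
    exact congrArg Subtype.val (mem_center_iff.1 hx ⟨s, PP_eq.le hs⟩)
  · rintro (h | h)
    · rw [show x = 1 from Subtype.ext h]; exact one_mem _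
    · have h1 : PP ≤ C1[toM z24] := by
        refine (closure_le _).2 ?_
        rintro _ ⟨g, hg, rfl⟩
        have h2 := H42.inM_gensP24 g hg
        exact mem_centralizer_singleton_iff.2 (by
          rw [← H42.toM_pmul h2 H42.inM_z24, gens_z g hg, H42.toM_pmul H42.inM_z24 h2])
      exact mem_center_iff.2 fun s => Subtype.ext (by
        show (s : M24) * x = x * s
        rw [h]; exact mem_centralizer_singleton_iff.1 (h1 s.2))

theorem card_center_PP : Nat.card (center PP) = 2 := by
  have e : ((center PP : Subgroup PP) : Set PP) = {1, ⟨toM z24, z_mem_PP⟩} := by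
    ext x
    simp only [SetLike.mem_coe, mem_center_PP, Set.mem_insert_iff, Set.mem_singleton_iff,
      Subtype.ext_iff, OneMemClass.coe_one]
  change Nat.card ((center PP : Subgroup PP) : Set PP) = 2
  rw [Nat.card_coe_set_eq, e, Set.ncard_pair]
  intro h
  exact z_ne ((H42.toM_eq_one_iff H42.inM_z24).1 (congrArg Subtype.val h).symm)

theorem crd_of_hom {G : Type*} [Group G] (π : PP →* G) (hker : π.ker = center PP) :
    ∃ A α c, Crd π.range A α c := by
  have hk : ∀ x : PP, π x = 1 ↔ (x : M24) = 1 ∨ (x : M24) = toM z24 := fun x => by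
    rw [← MonoidHom.mem_ker, hker, mem_center_PP]
  have hz : π ⟨toM z24, z_mem_PP⟩ = 1 := (hk _).2 (Or.inr rfl)
  have heq : ∀ {a b : ℕ} (x y : PP), inM a = true → inM b = true → toM a = x → toM b = y →
      eqz a b = true → π x = π y := by
    intro a b x y ha hb hx hy h
    simp only [eqz, H42.force_eq, Bool.or_eq_true, H42.beq_iff] at h
    rcases h with h | h
    · rw [h] at hx
      exact congrArg π (Subtype.ext (hx.symm.trans hy))
    · have : x = y * ⟨toM z24, z_mem_PP⟩ := Subtype.ext (by
        rw [← hx, h, H42.toM_pmul hb H42.inM_z24, hy, Subgroup.coe_mul])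
      rw [this, map_mul, hz, mul_one]
  let α : Fin 64 → G := fun v => π ⟨toM (qq v), (mem_PP (qq_mem v)).2⟩
  have hq := fun v => (mem_PP (qq_mem v)).1
  have hmul : ∀ v w, α (v ^^^ w) = α v * α w := fun v w => by
    rw [← map_mul]
    exact (heq (⟨_, (mem_PP (qq_mem v)).2⟩ * ⟨_, (mem_PP (qq_mem w)).2⟩) ⟨_, (mem_PP (qq_mem _)).2⟩
      (H42.inM_pmul (hq v) (hq w)) (hq _) (H42.toM_pmul (hq v) (hq w)) rfl (qq_mul v w)).symm
  have hact : ∀ (g : ℕ) (hg : inM g = true) (hP : toM g ∈ PP) (i : Fin 8),
      (∀ v, eqz (pmul g (qq v)) (pmul (qq (M i v)) g) = true) → Act α (π ⟨toM g, hP⟩) i := by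
    intro g hg hP i h v
    rw [mul_inv_eq_iff_eq_mul, ← map_mul, ← map_mul]
    exact heq _ _ (H42.inM_pmul hg (hq v)) (H42.inM_pmul (hq _) hg) (H42.toM_pmul hg (hq v))
      (H42.toM_pmul (hq _) hg) (h v)
  have h0 : α 0 = 1 := by
    have := hmul 0 0
    rw [xor_self64] at this
    exact (mul_eq_left.1 this.symm)
  let A : Subgroup G :=
    { carrier := Set.range α
      one_mem' := ⟨0, h0⟩
      mul_mem' := by
        rintro _ _ ⟨v, rfl⟩ ⟨w, rfl⟩
        exact ⟨_, hmul v w⟩
      inv_mem' := by
        rintro _ ⟨v, rfl⟩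
        exact ⟨v, eq_inv_of_mul_eq_one_left (by rw [← hmul, xor_self64, h0])⟩ }
  have hr := fun i => mem_PP (rr_mem i)
  refine ⟨A, α, π ⟨toM (rr 1), (hr 1).2⟩, hmul, fun v hv => qq_ne v ?_, fun _ => Iff.rfl, ?_, ?_,
    fun i => ⟨_, ⟨_, rfl⟩, hact _ (hr i).1 (hr i).2 i (rr_act i)⟩, ⟨_, rfl⟩, ?_,
    hact _ (hr 1).1 (hr 1).2 1 (rr_act 1), ?_⟩
  · rcases (hk _).1 hv with h | h
    · exact Or.inl ((H42.toM_eq_one_iff (hq v)).1 h)
    · exact Or.inr (H42.toM_inj (hq v) H42.inM_z24 h)
  · rintro _ ⟨v, rfl⟩
    exact ⟨_, rfl⟩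
  · rintro _ ⟨⟨x, hx⟩, rfl⟩
    change x ∈ closure (toM '' {g | g ∈ gensP24}) at hx
    induction hx using closure_induction with
    | mem x hx =>
      obtain ⟨g, hg, rfl⟩ := hx
      exact ⟨_, hact g (H42.inM_gensP24 g hg) _ _ (gens_act g hg)⟩
    | one => exact ⟨0, (map_one π).symm ▸ act_one α⟩
    | mul x y hx hy ihx ihy =>
      obtain ⟨i, hi⟩ := ihx
      obtain ⟨j, hj⟩ := ihy
      exact ⟨_, by have := hi.mul hj; rwa [← map_mul] at this⟩
    | inv x hx ih =>
      obtain ⟨i, hi⟩ := ih
      obtain ⟨j, hj⟩ := mulI_inv i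
      refine ⟨j, fun v => ?_⟩
      have h1 := hi (M j v)
      rw [M_mul, hj, M_zero] at h1
      have h2 : π ⟨x⁻¹, inv_mem hx⟩ = (π ⟨x, hx⟩)⁻¹ := by rw [← map_inv]; rfl
      rw [h2, ← h1]; group
  · rw [← map_pow, ← map_one π]
    refine congrArg π (Subtype.ext ?_)
    have h1 := H42.inM_pmul (hr 1).1 (hr 1).1
    have h2 := congrArg toM c_four
    rw [H42.toM_pmul h1 h1, H42.toM_pmul (hr 1).1 (hr 1).1, H42.toM_pid] at h2
    show toM (rr 1) ^ 4 = 1
    rw [← h2]; simp only [pow_succ, pow_zero, one_mul, mul_assoc]
  · have h1 := π.ker.index_mul_card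
    rw [Subgroup.index_ker, hker, card_center_PP, card_PP] at h1
    omega

theorem exists_equiv_PP (P : Sylow 2 M24) : Nonempty (PP ≃* (P : Subgroup M24)) := by
  have h : Nat.card PP = 2 ^ (Nat.card M24).factorization 2 := by
    rw [card_PP, H42.card_M24, show 244823040 = 2 ^ 10 * 239085 by norm_num,
      Nat.factorization_mul (by norm_num) (by norm_num), Nat.Prime.factorization_pow Nat.prime_two]
    have : (239085 : ℕ).factorization 2 = 0 := Nat.factorization_eq_zero_of_not_dvd (by norm_num)
    simp [this]
  exact ⟨Sylow.equiv (Sylow.ofCard PP h) P⟩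

theorem ker_eq_center {P Q G : Type*} [Group P] [Group Q] [Group G] (e : P ≃* Q) (π : Q →* G)
    (h : π.ker = center Q) : (π.comp e.toMonoidHom).ker = center P := by
  ext x
  rw [MonoidHom.mem_ker]
  show π (e x) = 1 ↔ _
  rw [← MonoidHom.mem_ker, h, mem_center_iff, mem_center_iff]
  constructor
  · intro h1 g
    exact e.injective (by rw [map_mul, map_mul, h1])
  · intro h1 g
    obtain ⟨y, rfl⟩ := e.surjective g
    rw [← map_mul, ← map_mul, h1]

theorem crd_quot (P : Sylow 2 M24) :
    ∃ A α c, Crd (⊤ : Subgroup ((P : Subgroup M24) ⧸ center (P : Subgroup M24))) A α c := by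
  obtain ⟨e⟩ := exists_equiv_PP P
  have h := crd_of_hom ((QuotientGroup.mk' (center (P : Subgroup M24))).comp e.toMonoidHom)
    (ker_eq_center e _ (QuotientGroup.ker_mk' _))
  have e1 : ((QuotientGroup.mk' (center (P : Subgroup M24))).comp e.toMonoidHom).range = ⊤ :=
    MonoidHom.range_eq_top.2 ((QuotientGroup.mk'_surjective _).comp e.surjective)
  rwa [e1] at h

variable {G : Type u} [Group G] [Finite G]

theorem s3169 (hG : GoldAll.{u}) (hO : pPrimeCore 2 G = ⊥) (S : Sylow 2 G) (P : Sylow 2 M24)
    (hS : Nonempty (↥(S : Subgroup G) ≃* (↥(P : Subgroup M24) ⧸ center ↥(P : Subgroup M24))))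
    (A : Subgroup G) (hA : A ≤ (S : Subgroup G)) (hAc : IsMulCommutative ↥A)
    (hA64 : Nat.card ↥A = 64) : A.Normal := by
  have := Fact.mk Nat.prime_two
  obtain ⟨e⟩ := hS
  obtain ⟨A₀, α, c, h⟩ := crd_quot P
  have h1 := h.map ((S : Subgroup G).subtype.comp e.symm.toMonoidHom)
    ((S : Subgroup G).subtype_injective.comp e.symm.injective)
  have e1 : (⊤ : Subgroup _).map ((S : Subgroup G).subtype.comp e.symm.toMonoidHom) = S := by
    rw [← map_map, map_top_of_surjective _ e.symm.surjective, ← MonoidHom.range_eq_map,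
      range_subtype]
  rw [e1] at h1
  rw [h1.uniq hA hAc hA64]
  exact h1.normal hG (syl_top S) hO

theorem s3170 (hG : GoldAll.{u}) (hO : pPrimeCore 2 G = ⊥) (T : Sylow 2 G) (P : Sylow 2 M24)
    (hT : Nonempty (↥(T : Subgroup G) ≃* ↥(P : Subgroup M24)))
    (hZ : ∀ z ∈ (T : Subgroup G), (∀ t ∈ (T : Subgroup G), z * t = t * z) → z ∈ center G)
    (E : Subgroup G) (hE : E ≤ (T : Subgroup G)) (hEn : (E.subgroupOf (T : Subgroup G)).Normal)
    (hEx : IsExtraspecial 2 ↥E) (hE7 : Nat.card ↥E = 2 ^ 7) : E.Normal := by
  have := Fact.mk Nat.prime_two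
  obtain ⟨e₁⟩ := hT
  obtain ⟨e₂⟩ := exists_equiv_PP P
  let e : PP ≃* (T : Subgroup G) := e₂.trans e₁.symm
  obtain ⟨Z, hZd⟩ : ∃ Z : Subgroup G, Z = (T : Subgroup G) ⊓ C[(T : Subgroup G)] := ⟨_, rfl⟩
  have hZc : Z ≤ center G := fun z hz => by
    rw [hZd] at hz
    exact hZ z hz.1 fun t ht => (mem_centralizer_iff.1 hz.2 t ht).symm
  have hZn : Z.Normal := ⟨fun n hn g => by
    rw [mem_center_iff.1 (hZc hn) g]; simpa using hn⟩
  have hZ2 : Nat.card Z = 2 := by
    rw [hZd, ← map_center_subtype, card_map_subtype, ← Nat.card_congr (centerCongr e).toEquiv,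
      card_center_PP]
  let π := QuotientGroup.mk' Z
  have hker : (π.comp (T : Subgroup G).subtype).ker = center (T : Subgroup G) := by
    ext x
    rw [MonoidHom.mem_ker]
    show π (x : G) = 1 ↔ _
    rw [← MonoidHom.mem_ker, QuotientGroup.ker_mk', hZd, ← map_center_subtype]
    exact ⟨fun ⟨y, hy, e⟩ => (Subtype.ext e : y = x) ▸ hy, fun h => ⟨x, h, rfl⟩⟩
  obtain ⟨A, α, c, h⟩ := crd_of_hom _ (ker_eq_center e _ hker)
  have e1 : ((π.comp (T : Subgroup G).subtype).comp e.toMonoidHom).range =
      (T : Subgroup G).map π := by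
    rw [MonoidHom.range_comp, MonoidHom.range_eq_top.2 e.surjective, ← MonoidHom.range_eq_map,
      MonoidHom.range_comp, range_subtype]
  rw [e1] at h
  have hS : IsSyl 2 ((T : Subgroup G).map π) ⊤ := by
    have := hall_map (syl_top T) π
    rwa [map_top_of_surjective _ (QuotientGroup.mk'_surjective Z)] at this
  have hAn := h.normal hG hS (H6.pPrimeCore_quotient_eq_bot_of_le_center Z hZc hO)
  -- `Z = Z(E)`
  have hTE : (T : Subgroup G) ≤ N[E] := (normalIn_iff_subgroupOf.2 ⟨hE, hEn⟩).norm
  have hc2 : Nat.card ↥(E ⊓ C[E]) = 2 := by rw [← map_center_subtype, card_map_subtype, hEx.2]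
  have hle : E ⊓ C[E] ≤ Z := by
    intro x hx
    rw [hZd]
    refine ⟨hE hx.1, mem_centralizer_iff.2 fun t ht => ?_⟩
    have h1 : t * x * t⁻¹ ∈ E ⊓ C[E] :=
      conj_mem_of_mem_normalizer (normalizer_le_normalizer_center E (hTE ht)) hx
    by_cases hx1 : x = 1
    · simp [hx1]
    obtain ⟨y, -, hy⟩ := (Nat.card_eq_two_iff' (1 : ↥(E ⊓ C[E]))).1 hc2
    have h2 := hy ⟨x, hx⟩ (fun e => hx1 (congrArg Subtype.val e))
    have h3 := hy ⟨_, h1⟩ (fun e => hx1 (by simpa using congrArg Subtype.val e))
    have h4 : t * x * t⁻¹ = x := congrArg Subtype.val (h3.trans h2.symm)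
    exact mul_inv_eq_iff_eq_mul.1 h4
  have hZE : E ⊓ C[E] = Z := eq_of_le_of_card_ge hle (by rw [hc2, hZ2])
  have hZE' : Z ≤ E := hZE ▸ inf_le_left
  have hcomm : IsMulCommutative (E.map π) := by
    refine isComm_of_le_cent ?_
    rintro _ ⟨x, hx, rfl⟩
    refine mem_centralizer_iff.2 ?_
    rintro _ ⟨y, hy, rfl⟩
    have h1 : ⁅(⟨y, hy⟩ : E), (⟨x, hx⟩ : E)⁆ ∈ center E :=
      hEx.1.2.2 ▸ commutator_mem_commutator (mem_top _) (mem_top _)
    have h2 : y * x * y⁻¹ * x⁻¹ ∈ Z := by
      rw [← hZE, ← map_center_subtype]; exact ⟨_, h1, rfl⟩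
    have h3 : π (y * x * y⁻¹ * x⁻¹) = 1 := (QuotientGroup.eq_one_iff _).2 h2
    rw [map_mul, map_mul, map_mul, map_inv, map_inv, mul_inv_eq_one, mul_inv_eq_iff_eq_mul] at h3
    exact h3
  have h64 : Nat.card (E.map π) = 64 := by
    have h1 := (π.comp E.subtype).ker.index_mul_card
    have h2 : (π.comp E.subtype).ker = Z.subgroupOf E := by
      rw [← MonoidHom.comap_ker, QuotientGroup.ker_mk']; rfl
    rw [Subgroup.index_ker, h2, card_subgroupOf hZE', hZ2, hE7, MonoidHom.range_comp,
      range_subtype] at h1
    omega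
  have h5 := h.uniq (map_mono hE) hcomm h64
  have h6 : E = A.comap π := by
    rw [← h5, comap_map_eq, QuotientGroup.ker_mk', sup_eq_left.2 hZE']
  rw [h6]; infer_instance

end Cfsg.Agent.H24.Gh
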