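import Mathlib
import Cfsg.Agent.H79.WreathSyl
import Cfsg.Agent.H8.SylowIn

/-!
# Sylow subgroups with elementary abelian abelianization, via wreath products
-/

set_option autoImplicit false
set_option linter.unusedSectionVars false

namespace Cfsg.Agent.H24

open Cfsg Subgroup H79
open scoped commutatorElement Pointwise

/-- `G / G'` has exponent dividing `p`. -/
def EA (p : ℕ) (G : Type*) [Group G] : Prop := ∀ x : G, x ^ p ∈ commutator G

section Basic
variable {G H : Type*} [Group G] [Group H] {p : ℕ}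

theorem map_mem_commutator' (f : G →* H) {x : G} (hx : x ∈ commutator G) :
    f x ∈ commutator H := by
  have := mem_map_of_mem f hx
  rw [commutator_def, map_commutator] at this
  exact commutator_mono le_top le_top this

theorem EA.of_surjective (h : EA p G) (f : G →* H) (hf : Function.Surjective f) : EA p H := by
  intro y
  obtain ⟨x, rfl⟩ := hf y
  rw [← map_pow]
  exact map_mem_commutator' f (h x)

theorem EA.of_equiv (h : EA p G) (e : G ≃* H) : EA p H :=
  h.of_surjective e.toMonoidHom e.surjective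

theorem ea_of_pow_eq_one (h : ∀ x : G, x ^ p = 1) : EA p G := fun x => by
  rw [h]; exact one_mem _

theorem map_mem_commutator_of_le (f : G →* H) {P : Subgroup H} (hf : ∀ x, f x ∈ P) {x : G}
    (hx : x ∈ commutator G) : f x ∈ ⁅P, P⁆ := by
  have := mem_map_of_mem f hx
  rw [commutator_def, map_commutator] at this
  have h : (⊤ : Subgroup G).map f ≤ P := by rintro _ ⟨y, -, rfl⟩; exact hf y
  exact commutator_mono h h this

theorem coe_mem_commutator_iff {P : Subgroup G} {x : P} :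
    (x : G) ∈ ⁅P, P⁆ ↔ x ∈ commutator P := by
  refine ⟨fun h => ?_, fun h => map_mem_commutator_of_le P.subtype (fun y => y.2) h⟩
  have h1 : (commutator P).map P.subtype = ⁅P, P⁆ := by
    rw [commutator_def, map_commutator, ← MonoidHom.range_eq_map, range_subtype]
  rw [← h1] at h
  obtain ⟨y, hy, hxy⟩ := h
  rwa [show x = y from Subtype.ext hxy.symm]

/-- The elements of `P` whose `p`-th power lies in `P'`. -/
def powSub (p : ℕ) (P : Subgroup G) : Subgroup G :=
  (((powMonoidHom p : Abelianization P →* Abelianization P).comp Abelianization.of).ker).map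
    P.subtype

theorem mem_powSub {P : Subgroup G} {x : G} : x ∈ powSub p P ↔ x ∈ P ∧ x ^ p ∈ ⁅P, P⁆ := by
  have key : ∀ y : P, y ∈ ((powMonoidHom p : Abelianization P →* Abelianization P).comp
      Abelianization.of).ker ↔ (y : G) ^ p ∈ ⁅P, P⁆ := by
    intro y
    rw [MonoidHom.mem_ker, MonoidHom.comp_apply, powMonoidHom_apply, ← map_pow,
      ← MonoidHom.mem_ker, Abelianization.ker_of, ← coe_mem_commutator_iff, coe_pow]
  constructor
  · rintro ⟨y, hy, rfl⟩
    exact ⟨y.2, (key y).1 hy⟩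
  · rintro ⟨h1, h2⟩
    exact ⟨⟨x, h1⟩, (key _).2 h2, rfl⟩

theorem powSub_le (P : Subgroup G) : powSub p P ≤ P := map_subtype_le _

theorem mem_powSub_of_pow_eq_one {P : Subgroup G} {x : G} (hx : x ∈ P) (h : x ^ p = 1) :
    x ∈ powSub p P := mem_powSub.2 ⟨hx, by rw [h]; exact one_mem _⟩

theorem mem_powSub_of_ea {P : Subgroup H} (h : EA p G) (f : G →* H) (hf : ∀ x, f x ∈ P) (x : G) :
    f x ∈ powSub p P :=
  mem_powSub.2 ⟨hf x, by rw [← map_pow]; exact map_mem_commutator_of_le f hf (h x)⟩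

theorem mem_powSub_two_of_conj {P : Subgroup G} {x t : G} (hx : x ∈ P) (ht : t ∈ P)
    (h : t * x * t⁻¹ = x⁻¹) : x ∈ powSub 2 P := by
  refine mem_powSub.2 ⟨hx, ?_⟩
  have := commutator_mem_commutator hx ht
  rw [commutatorElement_def, mul_assoc, mul_assoc, ← mul_assoc t, ← conj_inv, h, inv_inv] at this
  rwa [sq]

theorem mul_mem_powSub_two {P : Subgroup G} {x y : G} (h : x * y ∈ P) (hx : x * x = 1)
    (hy : y * y = 1) (hxy : Commute x y) : x * y ∈ powSub 2 P :=
  mem_powSub_of_pow_eq_one h (by rw [hxy.mul_pow, sq, sq, hx, hy, one_mul])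

theorem normalizer_le_normalizer_powSub [Finite G] (P : Subgroup G) :
    normalizer (P : Set G) ≤ normalizer (powSub p P : Set G) := by
  intro g hg
  apply H8.mem_normalizer_of_conj_smul_le
  intro x hx
  rw [H8.mem_conj_smul, mem_powSub] at hx
  have h1 := H8.mem_normalizer_iff_conj_smul_eq.1 hg
  rw [mem_powSub, ← h1, ← H8.commutator_conj_smul, H8.mem_conj_smul, H8.mem_conj_smul]
  refine ⟨hx.1, ?_⟩
  have := hx.2
  rwa [show g⁻¹ * x * g = g⁻¹ * x * g⁻¹⁻¹ by rw [inv_inv], conj_pow, inv_inv] at this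

theorem ea_of_le_powSub {P : Subgroup G} (h : P ≤ powSub p P) : EA p P := fun x =>
  coe_mem_commutator_iff.1 (mem_powSub.1 (h x.2)).2

theorem ea_inf_of_le_sup [Finite G] {S K B : Subgroup G} [K.Normal] (hBS : B ≤ S)
    (hB : B ⊓ K ≤ powSub p (S ⊓ K)) (hS : S ≤ powSub p (S ⊓ K) ⊔ B) : EA p ↥(S ⊓ K) := by
  apply ea_of_le_powSub
  intro x hx
  have hn : B ≤ normalizer (powSub p (S ⊓ K) : Set G) := by
    refine hBS.trans (le_trans ?_ (normalizer_le_normalizer_powSub _))
    exact (le_inf le_normalizer le_normalizer_of_normal).trans inf_normalizer_le_normalizer_inf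
  have h1 := hS hx.1
  rw [← SetLike.mem_coe, coe_mul_of_right_le_normalizer_left _ _ hn] at h1
  obtain ⟨y, hy, b, hb, rfl⟩ := h1
  refine mul_mem hy (hB ⟨hb, ?_⟩)
  have h2 : y ∈ K := (powSub_le _ hy).2
  exact (K.mul_mem_cancel_left h2).1 hx.2

theorem ea_sylow_of_isSylowIn [Finite G] [Fact p.Prime] {P K : Subgroup G}
    (hP : H8.IsSylowIn p P K) (h : EA p P) (Q : Sylow p K) : EA p (Q : Subgroup K) :=
  (h.of_equiv (subgroupOfEquivOfLe hP.le).symm).of_equiv (Sylow.equiv hP.toSylow Q)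

theorem ea_sylow_congr [Finite G] [Fact p.Prime] (e : G ≃* H)
    (h : ∀ Q : Sylow p G, EA p (Q : Subgroup G)) (P : Sylow p H) : EA p (P : Subgroup H) := by
  have : Finite H := Finite.of_equiv _ e.toEquiv
  obtain ⟨Q⟩ : Nonempty (Sylow p G) := inferInstance
  obtain ⟨f⟩ := nonempty_sylow_equiv e.toMonoidHom e.injective (by rw [Nat.card_congr e.toEquiv])
    Q P
  exact (h Q).of_equiv f

theorem val_card_sylow [Finite G] [Fact p.Prime] (P : Sylow p G) :
    padicValNat p (Nat.card (P : Subgroup G)) = padicValNat p (Nat.card G) := by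
  rw [P.card_eq_multiplicity, padicValNat.prime_pow, Nat.factorization_def _ Fact.out]

theorem isSylowIn_top_of_val [Finite G] [hp : Fact p.Prime] {S : Subgroup G} (hS : IsPGroup p S)
    (h : padicValNat p (Nat.card G) ≤ padicValNat p (Nat.card S)) : H8.IsSylowIn p S ⊤ := by
  refine ⟨le_top, hS, ?_⟩
  rw [relIndex_top_right]
  intro h1
  have h2 := S.card_mul_index
  have h3 : padicValNat p (Nat.card G) = padicValNat p (Nat.card S) + padicValNat p S.index := by
    rw [← h2, padicValNat.mul Nat.card_pos.ne' index_ne_zero_of_finite]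
  have h4 := one_le_padicValNat_of_dvd (index_ne_zero_of_finite (H := S)) h1
  omega

theorem val_le_of_injective [Finite H] [Fact p.Prime] (f : G →* H) (hf : Function.Injective f) :
    padicValNat p (Nat.card G) ≤ padicValNat p (Nat.card H) := by
  have : Finite G := Finite.of_injective f hf
  rw [← Nat.factorization_def _ Fact.out, ← Nat.factorization_def _ Fact.out]
  exact (Nat.factorization_le_iff_dvd Nat.card_pos.ne' Nat.card_pos.ne').2
    (card_dvd_of_injective f hf) p

end Basic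

section Wr
variable {G D E ι : Type*} [Group G] [Group D] [Group E] [DecidableEq ι] {p : ℕ}

/-- The image of the `i`-th coordinate subgroup. -/
def wb (ψ : Wr ι D × E →* G) (i : ι) : D →* G :=
  ψ.comp ((MonoidHom.inl _ _).comp (SemidirectProduct.inl.comp (MonoidHom.mulSingle (fun _ => D) i)))

/-- The image of the extra factor. -/
def wc (ψ : Wr ι D × E →* G) : E →* G := ψ.comp (MonoidHom.inr _ _)

/-- The image of the top group. -/
def ws (ψ : Wr ι D × E →* G) : Equiv.Perm ι →* G :=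
  ψ.comp ((MonoidHom.inl _ _).comp SemidirectProduct.inr)

/-- The image of `D ≀ T × E`. -/
def wS (ψ : Wr ι D × E →* G) (T : Subgroup (Equiv.Perm ι)) : Subgroup G :=
  (T.comap (SemidirectProduct.rightHom.comp (MonoidHom.fst _ _))).map ψ

variable (ψ : Wr ι D × E →* G)

theorem wb_apply (i : ι) (d : D) :
    wb ψ i d = ψ (SemidirectProduct.inl (Pi.mulSingle i d), 1) := rfl

theorem wc_apply (e : E) : wc ψ e = ψ (1, e) := rfl

omit [DecidableEq ι] in
theorem ws_apply (t : Equiv.Perm ι) : ws ψ t = ψ (SemidirectProduct.inr t, 1) := rfl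

theorem wb_mem (T : Subgroup (Equiv.Perm ι)) (i : ι) (d : D) : wb ψ i d ∈ wS ψ T :=
  mem_map_of_mem ψ (T.one_mem)

theorem wc_mem (T : Subgroup (Equiv.Perm ι)) (e : E) : wc ψ e ∈ wS ψ T :=
  mem_map_of_mem ψ (T.one_mem)

theorem ws_mem {T : Subgroup (Equiv.Perm ι)} {t : Equiv.Perm ι} (ht : t ∈ T) :
    ws ψ t ∈ wS ψ T := mem_map_of_mem ψ ht

theorem commute_wb_wb {i j : ι} (h : i ≠ j) (d d' : D) : Commute (wb ψ i d) (wb ψ j d') :=
  (((Pi.mulSingle_commute (f := fun _ : ι => D) h d d').map SemidirectProduct.inl).map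
    (MonoidHom.inl _ E)).map ψ

theorem commute_wb_wc (i : ι) (d : D) (e : E) : Commute (wb ψ i d) (wc ψ e) :=
  (MonoidHom.commute_inl_inr _ _).map ψ

theorem ws_conj_wb (t : Equiv.Perm ι) (i : ι) (d : D) :
    ws ψ t * wb ψ i d * (ws ψ t)⁻¹ = wb ψ (t i) d := by
  rw [ws_apply, wb_apply, wb_apply, ← map_inv, ← map_mul, ← map_mul]
  congr 1
  refine Prod.ext ?_ (by simp)
  simp only [Prod.inv_mk, Prod.mk_mul_mk]
  rw [← map_inv, ← SemidirectProduct.inl_aut]
  congr 1
  funext j
  change Pi.mulSingle (M := fun _ => D) i d (t⁻¹ j) = _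
  by_cases h : j = t i
  · subst h; simp
  · rw [Pi.mulSingle_eq_of_ne h, Pi.mulSingle_eq_of_ne]
    intro h'
    exact h (by rw [← h']; simp)

theorem wb_mul_inv_mem_commutator (i j : ι) (d : D) :
    wb ψ i d * (wb ψ j d)⁻¹ ∈ commutator G := by
  have := ws_conj_wb ψ (Equiv.swap j i) j d
  rw [Equiv.swap_apply_left] at this
  rw [← this]
  exact commutator_mem_commutator (mem_top _) (mem_top _)

theorem wb_mul_inv_pow (i j : ι) {d : D} {n : ℕ} (hd : d ^ n = 1) :
    (wb ψ i d * (wb ψ j d)⁻¹) ^ n = 1 := by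
  by_cases h : i = j
  · subst h; simp
  · rw [(commute_wb_wb ψ h d d).inv_right.mul_pow, inv_pow, ← map_pow, ← map_pow, hd]
    simp

theorem mem_sup_of_mul_inv_mem {Y B : Subgroup G} {x b : G} (h : x * b⁻¹ ∈ Y) (hb : b ∈ B) :
    x ∈ Y ⊔ B := by
  have := mul_mem (mem_sup_left h : _ ∈ Y ⊔ B) (mem_sup_right hb)
  rwa [inv_mul_cancel_right] at this

theorem wS_le [Finite ι] {T : Subgroup (Equiv.Perm ι)} {Z : Subgroup G}
    (hb : ∀ i d, wb ψ i d ∈ Z) (hc : ∀ e, wc ψ e ∈ Z) (hs : ∀ t ∈ T, ws ψ t ∈ Z) :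
    wS ψ T ≤ Z := by
  rintro _ ⟨⟨x, e⟩, hx, rfl⟩
  have h1 : (x, e) = (SemidirectProduct.inl x.left, 1) * (SemidirectProduct.inr x.right, 1) *
      (1, e) := by
    simp
  rw [h1, map_mul, map_mul]
  refine mul_mem (mul_mem ?_ (hs _ hx)) (hc e)
  exact pi_mem_of_mulSingle_mem (H := Z.comap (ψ.comp ((MonoidHom.inl _ _).comp
    SemidirectProduct.inl))) x.left fun i => hb i _

omit [DecidableEq ι] in
theorem card_wS [Finite ι] [Finite D] [Finite E] (hψ : Function.Injective ψ)
    (T : Subgroup (Equiv.Perm ι)) :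
    Nat.card (wS ψ T) = Nat.card D ^ Nat.card ι * Nat.card T * Nat.card E := by
  rw [wS, card_map_of_injective hψ, ← Nat.card_fun, ← Nat.card_prod, ← Nat.card_prod]
  refine Nat.card_congr ⟨fun x => ((x.1.1.left, ⟨x.1.1.right, x.2⟩), x.1.2),
    fun y => ⟨(⟨y.1.1, y.1.2⟩, y.2), y.1.2.2⟩, fun _ => rfl, fun _ => rfl⟩

theorem isSylowIn_wS [Finite G] [Finite ι] [hp : Fact p.Prime] (hψ : Function.Injective ψ)
    (hD : IsPGroup p D) (hE : IsPGroup p E) (T : Sylow p (Equiv.Perm ι))
    (hval : padicValNat p (Nat.card G) ≤ Nat.card ι * padicValNat p (Nat.card D) +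
      padicValNat p (Nat.card ι).factorial + padicValNat p (Nat.card E)) [Finite D] :
    H8.IsSylowIn p (wS ψ T) ⊤ := by
  have : Finite E := Finite.of_injective (wc ψ) (hψ.comp (Prod.mk_right_injective _))
  obtain ⟨a, ha⟩ := hD.exists_card_eq
  obtain ⟨b, hb⟩ := hE.exists_card_eq
  obtain ⟨c, hc⟩ := T.isPGroup'.exists_card_eq
  have h1 : Nat.card (wS ψ T) = p ^ (a * Nat.card ι + c + b) := by
    rw [card_wS ψ hψ, ha, hb, hc, ← pow_mul, ← pow_add, ← pow_add]
  apply isSylowIn_top_of_val (IsPGroup.of_card h1)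
  have h2 := val_card_sylow T
  rw [hc, Nat.card_perm, padicValNat.prime_pow] at h2
  rw [ha, hb, padicValNat.prime_pow, padicValNat.prime_pow, ← h2] at hval
  rw [h1, padicValNat.prime_pow, mul_comm a]
  exact hval

theorem ea_sylow_of_wr' [Finite G] [Finite ι] [Finite D] [hp : Fact p.Prime]
    (hψ : Function.Injective ψ)
    (hD : IsPGroup p D) (hE : IsPGroup p E) (T : Sylow p (Equiv.Perm ι))
    (hT : EA p (T : Subgroup (Equiv.Perm ι)))
    (hval : padicValNat p (Nat.card G) ≤ Nat.card ι * padicValNat p (Nat.card D) +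
      padicValNat p (Nat.card ι).factorial + padicValNat p (Nat.card E))
    (K : Subgroup G) [K.Normal] (B : Subgroup G) (hBS : B ≤ wS ψ T)
    (hB : B ⊓ K ≤ powSub p (wS ψ T ⊓ K))
    (hb : ∀ i d, wb ψ i d ∈ powSub p (wS ψ T ⊓ K) ⊔ B)
    (hc : ∀ e, wc ψ e ∈ powSub p (wS ψ T ⊓ K) ⊔ B)
    (hs : ∀ t ∈ (T : Subgroup (Equiv.Perm ι)), ws ψ t ∈ K) (Q : Sylow p K) :
    EA p (Q : Subgroup K) := by
  have h1 := (isSylowIn_wS ψ hψ hD hE T hval).inf_of_le_normalizer (N := K)
    le_normalizer_of_normal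
  rw [top_inf_eq] at h1
  refine ea_sylow_of_isSylowIn h1 (ea_inf_of_le_sup hBS hB (wS_le ψ hb hc fun t ht => ?_)) Q
  exact mem_sup_left (mem_powSub_of_ea hT ((ws ψ).comp (T : Subgroup (Equiv.Perm ι)).subtype)
    (fun x => mem_inf.2 ⟨ws_mem ψ x.2, hs x x.2⟩) ⟨t, ht⟩)

/-- Functoriality of the wreath product in the base group. -/
def wrMap {H : Type*} [Group H] (ι : Type*) (f : D →* H) : Wr ι D →* Wr ι H :=
  SemidirectProduct.map (f.compLeft ι) (MonoidHom.id _) fun _ => rfl

omit [DecidableEq ι] in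
theorem wrMap_injective {H : Type*} [Group H] {f : D →* H} (hf : Function.Injective f) :
    Function.Injective (wrMap ι f) := fun _ _ h =>
  SemidirectProduct.ext (funext fun i => hf (congrFun (congrArg SemidirectProduct.left h) i))
    (congrArg SemidirectProduct.right h :)

end Wr

section Perm
variable {ι X H : Type*} [Group H]

/-- The imprimitive permutation representation of a wreath product. -/
def wrPerm (ι : Type*) (ρ : H →* Equiv.Perm X) : Wr ι H →* Equiv.Perm (ι × X) where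
  toFun x := Equiv.prodCongrRight (fun i => ρ (x.left i)) * Equiv.prodCongrLeft fun _ => x.right
  map_one' := Equiv.ext fun _ => by simp [Equiv.prodCongrLeft, Equiv.prodCongrRight]
  map_mul' x y := Equiv.ext fun a => by
    simp [wr_mul_left, Equiv.prodCongrLeft, Equiv.prodCongrRight]

theorem wrPerm_apply (ρ : H →* Equiv.Perm X) (x : Wr ι H) (i : ι) (a : X) :
    wrPerm ι ρ x (i, a) = (x.right i, ρ (x.left (x.right i)) a) := rfl

theorem wrPerm_injective [Nonempty X] {ρ : H →* Equiv.Perm X} (hρ : Function.Injective ρ) :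
    Function.Injective (wrPerm ι ρ) := by
  rw [injective_iff_map_eq_one]
  intro x hx
  have h : ∀ i a, (x.right i, ρ (x.left (x.right i)) a) = (i, a) := fun i a =>
    Equiv.congr_fun hx (i, a)
  obtain ⟨a⟩ := ‹Nonempty X›
  have h1 : ∀ i, x.right i = i := fun i => congrArg Prod.fst (h i a)
  refine SemidirectProduct.ext (funext fun i => hρ ?_) (Equiv.ext h1)
  ext b
  have := congrArg Prod.snd (h i b)
  rw [h1] at this
  simpa using this

theorem sign_wrPerm [Fintype ι] [DecidableEq ι] [Fintype X] [DecidableEq X]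
    (ρ : H →* Equiv.Perm X) (x : Wr ι H) : Equiv.Perm.sign (wrPerm ι ρ x) =
      (∏ i, Equiv.Perm.sign (ρ (x.left i))) * Equiv.Perm.sign x.right ^ Fintype.card X := by
  change Equiv.Perm.sign (_ * _) = _
  rw [map_mul, Equiv.Perm.sign_prodCongrRight, Equiv.Perm.sign_prodCongrLeft, Finset.prod_const,
    Finset.card_univ]

/-- `H ≀ Sym(ι)` acting on a set containing `ι × X`. -/
def permEmb {Y Z : Type*} (e : (ι × X) ⊕ Y ≃ Z) (ρ : H →* Equiv.Perm X) :
    Wr ι H × PUnit.{1} →* Equiv.Perm Z :=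
  e.permCongrHom.toMonoidHom.comp ((Equiv.Perm.sumCongrHom _ _).comp ((wrPerm ι ρ).prodMap 1))

theorem permEmb_injective {Y Z : Type*} (e : (ι × X) ⊕ Y ≃ Z) [Nonempty X]
    {ρ : H →* Equiv.Perm X} (hρ : Function.Injective ρ) : Function.Injective (permEmb e ρ) :=
  fun _ _ h => Prod.ext (wrPerm_injective hρ (congrArg Prod.fst
    (Equiv.Perm.sumCongrHom_injective (e.permCongrHom.injective h)))) (Subsingleton.elim _ _)

theorem sign_permEmb {Y Z : Type*} [Fintype ι] [DecidableEq ι] [Fintype X] [DecidableEq X]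
    [Fintype Y] [DecidableEq Y] [Fintype Z] [DecidableEq Z] (e : (ι × X) ⊕ Y ≃ Z)
    (ρ : H →* Equiv.Perm X) (x : Wr ι H × PUnit.{1}) :
    Equiv.Perm.sign (permEmb e ρ x) = Equiv.Perm.sign (wrPerm ι ρ x.1) := by
  change Equiv.Perm.sign (e.permCongr (Equiv.sumCongr (wrPerm ι ρ x.1) 1)) = _
  rw [Equiv.Perm.sign_permCongr, Equiv.Perm.sign_sumCongr, map_one, mul_one]

theorem ea_sylow_perm_step {p : ℕ} [hp : Fact p.Prime] (n : ℕ)
    (ih : ∀ T : Sylow p (Equiv.Perm (Fin (n / p))), EA p (T : Subgroup (Equiv.Perm (Fin (n / p)))))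
    (K : Subgroup (Equiv.Perm (Fin n))) (hK : alternatingGroup (Fin n) ≤ K) (Q : Sylow p K) :
    EA p (Q : Subgroup K) := by
  classical
  have hc : commutator (Equiv.Perm (Fin n)) ≤ K :=
    (Abelianization.commutator_subset_ker Equiv.Perm.sign).trans hK
  have : K.Normal := Normal.of_commutator_le _ hc
  have : NeZero p := ⟨hp.out.ne_zero⟩
  set D := Multiplicative (ZMod p)
  have hD : Nat.card D = p := by simp [D]
  have hDp : ∀ d : D, d ^ p = 1 := fun d => by
    have := pow_card_eq_one' (x := d)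
    rwa [hD] at this
  have e : (Fin (n / p) × D) ⊕ Fin (n % p) ≃ Fin n := Fintype.equivOfCardEq (by
    simp only [Fintype.card_sum, Fintype.card_prod, Fintype.card_fin]
    rw [← Nat.card_eq_fintype_card, hD, Nat.div_add_mod'])
  set ψ := permEmb e (MulAction.toPermHom D D) with hψ
  obtain ⟨T⟩ : Nonempty (Sylow p (Equiv.Perm (Fin (n / p)))) := inferInstance
  have hval : padicValNat p (Nat.card (Equiv.Perm (Fin n))) ≤
      Nat.card (Fin (n / p)) * padicValNat p (Nat.card D) +
        padicValNat p (Nat.card (Fin (n / p))).factorial + padicValNat p (Nat.card PUnit.{1}) := by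
    rw [Nat.card_perm, hD, padicValNat_self, Nat.card_eq_fintype_card, Fintype.card_fin,
      Nat.card_eq_fintype_card, Fintype.card_fin, ← padicValNat_mul_div_factorial,
      padicValNat_factorial_mul]
    omega
  have hs : ∀ t ∈ (T : Subgroup (Equiv.Perm (Fin (n / p)))), ws ψ t ∈ K := by
    intro t ht
    apply hK
    rw [Equiv.Perm.mem_alternatingGroup, ws_apply, hψ, sign_permEmb, sign_wrPerm]
    simp only [SemidirectProduct.left_inr, Pi.one_apply, map_one, Finset.prod_const_one, one_mul,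
      SemidirectProduct.right_inr]
    rw [← Nat.card_eq_fintype_card, hD]
    rcases hp.out.eq_two_or_odd' with h | h
    · exact (congrArg (Equiv.Perm.sign t ^ ·) h).trans (Int.units_sq _)
    · obtain ⟨k, hk⟩ := T.isPGroup' ⟨t, ht⟩
      have h1 : Equiv.Perm.sign t ^ p ^ k = 1 := by
        rw [← map_pow, show t ^ p ^ k = 1 from congrArg Subtype.val hk, map_one]
      rcases Int.units_eq_one_or (Equiv.Perm.sign t) with h2 | h2
      · rw [h2, one_pow]
      · rw [h2, h.pow.neg_one_pow] at h1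
        exact absurd h1 (by decide)
  have hDP : IsPGroup p D := IsPGroup.of_card (n := 1) (by rw [hD, pow_one])
  have hE : IsPGroup p PUnit.{1} := fun _ => ⟨0, rfl⟩
  have hinj : Function.Injective ψ := permEmb_injective e MulAction.toPerm_injective
  rcases isEmpty_or_nonempty (Fin (n / p)) with h | ⟨⟨i₀⟩⟩
  · exact ea_sylow_of_wr' ψ hinj hDP hE T (ih T) hval K ⊥ bot_le (inf_le_left.trans bot_le)
      (fun i => isEmptyElim i) (fun e => by rw [show e = 1 from rfl, map_one]; exact one_mem _) hs Q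
  · refine ea_sylow_of_wr' ψ hinj hDP hE T (ih T) hval K (wb ψ i₀).range ?_ ?_ ?_
      (fun e => by rw [show e = 1 from rfl, map_one]; exact one_mem _) hs Q
    · rintro _ ⟨d, rfl⟩; exact wb_mem ψ _ _ _
    · rintro _ ⟨⟨d, rfl⟩, h⟩
      exact mem_powSub_of_pow_eq_one ⟨wb_mem ψ _ _ _, h⟩ (by rw [← map_pow, hDp, map_one])
    · intro i d
      exact mem_sup_of_mul_inv_mem (mem_powSub_of_pow_eq_one (mem_inf.2 ⟨mul_mem (wb_mem ψ _ _ _)
        (inv_mem (wb_mem ψ _ _ _)), hc (wb_mul_inv_mem_commutator ψ i i₀ d)⟩)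
        (wb_mul_inv_pow ψ i i₀ (hDp d))) ⟨d, rfl⟩

theorem ea_sylow_perm_fin {p : ℕ} [hp : Fact p.Prime] (n : ℕ) (P : Sylow p (Equiv.Perm (Fin n))) :
    EA p (P : Subgroup (Equiv.Perm (Fin n))) := by
  induction n using Nat.strong_induction_on with
  | _ n ih =>
    rcases Nat.eq_zero_or_pos n with rfl | hn
    · exact ea_of_pow_eq_one fun _ => Subsingleton.elim _ _
    · exact ea_sylow_congr topEquiv
        (ea_sylow_perm_step n (ih _ (Nat.div_lt_self hn hp.out.one_lt)) ⊤ le_top) P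

theorem ea_sylow_perm {p : ℕ} [Fact p.Prime] [Finite ι] (P : Sylow p (Equiv.Perm ι)) :
    EA p (P : Subgroup (Equiv.Perm ι)) :=
  ea_sylow_congr (Finite.equivFin ι).symm.permCongrHom (ea_sylow_perm_fin _) P

theorem ea_sylow_alternating {p : ℕ} [Fact p.Prime] (n : ℕ)
    (Q : Sylow p (alternatingGroup (Fin n))) : EA p (Q : Subgroup (alternatingGroup (Fin n))) :=
  ea_sylow_perm_step n (ea_sylow_perm_fin _) _ le_rfl Q

end Perm

/-- Sylow subgroups of normal subgroups of groups with a Sylow subgroup `D ≀ T × E`. -/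
theorem ea_sylow_of_wr {G D E ι : Type*} [Group G] [Group D] [Group E] [DecidableEq ι] {p : ℕ}
    (ψ : Wr ι D × E →* G) [Finite G] [Finite ι] [Finite D] [hp : Fact p.Prime]
    (hψ : Function.Injective ψ)
    (hD : IsPGroup p D) (hE : IsPGroup p E) (T : Sylow p (Equiv.Perm ι))
    (hval : padicValNat p (Nat.card G) ≤ Nat.card ι * padicValNat p (Nat.card D) +
      padicValNat p (Nat.card ι).factorial + padicValNat p (Nat.card E))
    (K : Subgroup G) [K.Normal] (B : Subgroup G) (hBS : B ≤ wS ψ T)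
    (hB : B ⊓ K ≤ powSub p (wS ψ T ⊓ K))
    (hb : ∀ i d, wb ψ i d ∈ powSub p (wS ψ T ⊓ K) ⊔ B)
    (hc : ∀ e, wc ψ e ∈ powSub p (wS ψ T ⊓ K) ⊔ B)
    (hs : ∀ t ∈ (T : Subgroup (Equiv.Perm ι)), ws ψ t ∈ K) (Q : Sylow p K) :
    EA p (Q : Subgroup K) :=
  ea_sylow_of_wr' ψ hψ hD hE T (ea_sylow_perm T) hval K B hBS hB hb hc hs Q

theorem ea_quaternion {k : ℕ} (hk : 1 ≤ k) : EA 2 (QuaternionGroup (2 ^ k)) := by
  have key : ∀ i : ZMod (2 * 2 ^ k), (QuaternionGroup.a i : QuaternionGroup (2 ^ k)) ^ 2 ∈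
      commutator (QuaternionGroup (2 ^ k)) := by
    intro i
    have : (QuaternionGroup.a i : QuaternionGroup (2 ^ k)) ^ 2 =
        ⁅(QuaternionGroup.a i : QuaternionGroup (2 ^ k)), QuaternionGroup.xa 0⁆ := by
      rw [commutatorElement_def, eq_mul_inv_iff_mul_eq, eq_mul_inv_iff_mul_eq, sq]
      simp only [QuaternionGroup.a_mul_a, QuaternionGroup.a_mul_xa, QuaternionGroup.xa_mul_a]
      congr 1
      ring
    rw [this]
    exact commutator_mem_commutator (mem_top _) (mem_top _)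
  rintro (i | i)
  · exact key i
  · have := key ((2 ^ (k - 1) : ℕ) : ZMod (2 * 2 ^ k))
    have h1 : 2 ^ (k - 1) + 2 ^ (k - 1) = 2 ^ k := by
      rw [← two_mul, ← pow_succ', Nat.sub_add_cancel hk]
    rw [sq, QuaternionGroup.a_mul_a, ← Nat.cast_add, h1] at this
    rw [QuaternionGroup.xa_sq]
    exact this

end Cfsg.Agent.H24
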