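import Mathlib
import Cfsg.Agent.H24.ElemAb
import Cfsg.Agent.S0261
import Cfsg.Agent.H8.Residual

/-!
# Sylow 2-subgroups of `SL_n(q)`, `q` odd: abelianization
-/

set_option autoImplicit false
set_option linter.unusedSectionVars false

namespace Cfsg.Agent.H24

open Cfsg Subgroup H79 Module
open scoped commutatorElement Pointwise

section Comp
variable {G D E D' E' ι : Type*} [Group G] [Group D] [Group E] [Group D'] [Group E']
  [DecidableEq ι]

theorem wb_comp (ψ : Wr ι D' × E' →* G) (f : D →* D') (g : E →* E') (i : ι) (d : D) :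
    wb (ψ.comp ((wrMap ι f).prodMap g)) i d = wb ψ i (f d) := by
  rw [wb_apply, wb_apply, MonoidHom.comp_apply]
  congr 1
  refine Prod.ext (SemidirectProduct.ext (funext fun j => ?_) rfl) (map_one g)
  exact Pi.apply_mulSingle (fun _ => f) (fun _ => map_one f) i d j

omit [DecidableEq ι] in
theorem wc_comp (ψ : Wr ι D' × E' →* G) (f : D →* D') (g : E →* E') (e : E) :
    wc (ψ.comp ((wrMap ι f).prodMap g)) e = wc ψ (g e) := by
  change ψ (wrMap ι f 1, g e) = _
  rw [map_one]; rfl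

omit [DecidableEq ι] in
theorem ws_comp (ψ : Wr ι D' × E' →* G) (f : D →* D') (g : E →* E') (t : Equiv.Perm ι) :
    ws (ψ.comp ((wrMap ι f).prodMap g)) t = ws ψ t := by
  rw [ws_apply, ws_apply, MonoidHom.comp_apply]
  congr 1
  exact Prod.ext (SemidirectProduct.ext (funext fun _ => map_one f) rfl) (map_one g)

omit [DecidableEq ι] in
theorem comp_wrMap_injective {ψ : Wr ι D' × E' →* G} (hψ : Function.Injective ψ) {f : D →* D'}
    (hf : Function.Injective f) {g : E →* E'} (hg : Function.Injective g) :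
    Function.Injective (ψ.comp ((wrMap ι f).prodMap g)) :=
  hψ.comp ((wrMap_injective hf).prodMap hg)

theorem hom_perm_sq [Finite ι] {M : Type*} [CommMonoid M] (f : Equiv.Perm ι →* M)
    (t : Equiv.Perm ι) : f t ^ 2 = 1 := by
  induction t using Equiv.Perm.swap_induction_on with
  | one => simp
  | swap_mul g x y _ ih => rw [map_mul, mul_pow, ih, mul_one, sq, ← map_mul, Equiv.swap_mul_self,
      map_one]

end Comp

section Lin
variable {F : Type*} [Field F]

theorem exists_embed_gl_det {V G : Type*} [AddCommGroup V] [Module F V] [Group G]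
    [FiniteDimensional F V] (ρ : G →* Module.End F V)
    (hρ : Function.Injective ρ) {n : ℕ} (hn : finrank F V = n) :
    ∃ φ : G →* GL (Fin n) F, Function.Injective φ ∧
      ∀ g, (Matrix.GeneralLinearGroup.det (φ g) : F) = LinearMap.det (ρ g) := by
  let e := LinearMap.toMatrixAlgEquiv (Module.finBasisOfFinrankEq F V hn)
  exact ⟨(e.toMulEquiv.toMonoidHom.comp ρ).toHomUnits, fun _ _ h =>
    hρ (e.injective (congrArg Units.val h)), fun g => LinearMap.det_toMatrix _ _⟩

theorem det_wrRep_inl {ι H W : Type*} [Fintype ι] [Group H] [AddCommGroup W] [Module F W]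
    [FiniteDimensional F W] (ρ : H →* Module.End F W) (f : ι → H) :
    LinearMap.det (wrRep ι ρ (SemidirectProduct.inl f)) = ∏ i, LinearMap.det (ρ (f i)) :=
  LinearMap.det_pi fun i => ρ (f i)

theorem det_wrRep_inr {ι H : Type*} [Fintype ι] [DecidableEq ι] [Group H]
    (ρ : H →* Module.End F (Fin 2 → F)) (t : Equiv.Perm ι) :
    LinearMap.det (wrRep ι ρ (SemidirectProduct.inr t)) = 1 := by
  let p : Equiv.Perm ι →* Module.End F (ι → F) :=
    (wrRep ι (1 : PUnit.{1} →* Module.End F F)).comp SemidirectProduct.inr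
  let e : (Fin 2 → ι → F) ≃ₗ[F] (ι → Fin 2 → F) :=
    { toFun := fun v i a => v a i, invFun := fun v a i => v i a, map_add' := fun _ _ => rfl,
      map_smul' := fun _ _ => rfl, left_inv := fun _ => rfl, right_inv := fun _ => rfl }
  have h1 : wrRep ι ρ (SemidirectProduct.inr t) = (e : (Fin 2 → ι → F) →ₗ[F] _) ∘ₗ
      (LinearMap.pi fun a : Fin 2 => (p t).comp (LinearMap.proj a)) ∘ₗ
        (e.symm : (ι → Fin 2 → F) →ₗ[F] _) := by
    refine LinearMap.ext fun v => funext fun i => ?_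
    rw [wrRep_apply, SemidirectProduct.left_inr, Pi.one_apply, map_one]
    rfl
  rw [h1, LinearMap.det_conj, LinearMap.det_pi, Finset.prod_const, Finset.card_univ,
    Fintype.card_fin]
  exact hom_perm_sq (LinearMap.det.comp p) t

theorem det_matRep {κ : Type*} [Fintype κ] [DecidableEq κ] (A : Matrix κ κ F) :
    LinearMap.det (matRep κ F A) = A.det := LinearMap.det_toLin' A

theorem exists_wr_gl (ι κ : Type*) [Fintype ι] [DecidableEq ι] [Fintype κ] [DecidableEq κ] {n : ℕ}
    (hn : Fintype.card ι * 2 + Fintype.card κ = n) :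
    ∃ ψ : Wr ι (GL (Fin 2) F) × GL κ F →* GL (Fin n) F, Function.Injective ψ ∧
      (∀ i d, Matrix.GeneralLinearGroup.det (wb ψ i d) = Matrix.GeneralLinearGroup.det d) ∧
      (∀ e, Matrix.GeneralLinearGroup.det (wc ψ e) = Matrix.GeneralLinearGroup.det e) ∧
      ∀ t, Matrix.GeneralLinearGroup.det (ws ψ t) = 1 := by
  obtain ⟨ψ, h1, h2⟩ := exists_embed_gl_det
    (prodRep (wrRep ι ((matRep (Fin 2) F).comp (Units.coeHom _)))
      ((matRep κ F).comp (Units.coeHom _)))
    (prodRep_injective (wrRep_injective ((matRep_injective _).comp Units.val_injective))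
      ((matRep_injective _).comp Units.val_injective)) (n := n)
    (by rw [← hn]; simp [Module.finrank_pi_fintype])
  have h3 : ∀ x e, (Matrix.GeneralLinearGroup.det (ψ (x, e)) : F) =
      LinearMap.det (wrRep ι ((matRep (Fin 2) F).comp (Units.coeHom _)) x) * e.1.det := by
    intro x e
    rw [h2, ← det_matRep]
    exact LinearMap.det_prodMap _ _
  refine ⟨ψ, h1, fun i d => Units.ext ?_, fun e => Units.ext ?_, fun t => Units.ext ?_⟩
  · rw [wb_apply, h3, det_wrRep_inl, Finset.prod_eq_single i]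
    · simp [det_matRep]
    · intro j _ hj
      rw [Pi.mulSingle_eq_of_ne hj, map_one, map_one]
    · simp
  · rw [wc_apply, h3, map_one, map_one, one_mul]; rfl
  · rw [ws_apply, h3, det_wrRep_inr]; simp

/-- `SL_n` as the kernel of the determinant. -/
noncomputable def slEquivKer (κ : Type*) [Fintype κ] [DecidableEq κ] (F : Type*) [Field F] :
    Matrix.SpecialLinearGroup κ F ≃* (Matrix.GeneralLinearGroup.det (n := κ) (R := F)).ker :=
  MulEquiv.ofBijective (Matrix.SpecialLinearGroup.toGL.codRestrict _ fun g => Units.ext g.2)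
    ⟨fun _ _ h => Matrix.SpecialLinearGroup.toGL_injective (congrArg Subtype.val h),
      fun g => ⟨⟨g.1.1, congrArg Units.val g.2⟩, Subtype.ext (Units.ext rfl)⟩⟩

theorem commutator_le_ker_det {κ : Type*} [Fintype κ] [DecidableEq κ] :
    commutator (GL κ F) ≤ (Matrix.GeneralLinearGroup.det (n := κ) (R := F)).ker :=
  Abelianization.commutator_subset_ker _

theorem ea_sylow_sl_two [Fintype F] (hF : Odd (Fintype.card F))
    (P : Sylow 2 (Matrix.SpecialLinearGroup (Fin 2) F)) :
    EA 2 (P : Subgroup (Matrix.SpecialLinearGroup (Fin 2) F)) := by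
  obtain ⟨k, hk, ⟨e⟩⟩ := S0261.result hF P
  exact (ea_quaternion hk).of_equiv e.symm

theorem ea_ker_det_subgroupOf [Fintype F] (hF : Odd (Fintype.card F))
    (D : Sylow 2 (GL (Fin 2) F)) :
    EA 2 ((Matrix.GeneralLinearGroup.det (n := Fin 2) (R := F)).ker.subgroupOf D) := by
  classical
  have h1 := H8.isSylowIn_inf_normal D (Matrix.GeneralLinearGroup.det (n := Fin 2) (R := F)).ker
  have h2 := ea_sylow_congr (slEquivKer (Fin 2) F) (ea_sylow_sl_two hF) h1.toSylow
  rw [← inf_subgroupOf_left]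
  exact (h2.of_equiv (subgroupOfEquivOfLe inf_le_right)).of_equiv
    (subgroupOfEquivOfLe inf_le_left).symm

theorem det_injective_of_subsingleton {κ : Type*} [Fintype κ] [DecidableEq κ] [Subsingleton κ] :
    Function.Injective (Matrix.GeneralLinearGroup.det (n := κ) (R := F)) := by
  intro a b h
  ext i j
  have h1 := congrArg Units.val h
  simp only [Matrix.GeneralLinearGroup.val_det_apply] at h1
  rw [Matrix.det_eq_elem_of_subsingleton _ i, Matrix.det_eq_elem_of_subsingleton _ i] at h1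
  rwa [Subsingleton.elim j i]

theorem unit_sq_eq_one [Fintype F] (hq : Fintype.card F % 4 = 3) {u : Fˣ} {k : ℕ}
    (h : u ^ 2 ^ k = 1) : u ^ 2 = 1 := by
  classical
  have h1 : orderOf u ∣ 2 ^ k := orderOf_dvd_of_pow_eq_one h
  have h2 : orderOf u ∣ Fintype.card F - 1 := by
    rw [← Fintype.card_units]; exact orderOf_dvd_card
  obtain ⟨j, -, hj⟩ := (Nat.dvd_prime_pow Nat.prime_two).1 h1
  apply orderOf_dvd_iff_pow_eq_one.1
  rw [hj] at h2 ⊢
  rcases j with _ | _ | j
  · simp
  · simp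
  · have h3 : 4 ∣ Fintype.card F - 1 := (Dvd.intro_left (2 ^ j) (by ring)).trans h2
    omega

/-- The common part of the argument for `SL_n(q)`. -/
theorem ea_sylow_sl_of [Fintype F] (hF : Odd (Fintype.card F)) {ι κ : Type} [Fintype ι]
    [DecidableEq ι] [Fintype κ] [DecidableEq κ] {n : ℕ}
    (hn : Fintype.card ι * 2 + Fintype.card κ = n) (i₀ : ι) (D : Sylow 2 (GL (Fin 2) F))
    (E : Sylow 2 (GL κ F)) (T : Sylow 2 (Equiv.Perm ι))
    (hval : padicValNat 2 (Nat.card (GL (Fin n) F)) ≤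
      Nat.card ι * padicValNat 2 (Nat.card (GL (Fin 2) F)) +
        padicValNat 2 (Nat.card ι).factorial + padicValNat 2 (Nat.card (GL κ F)))
    (h : (∃ a ∈ (D : Subgroup (GL (Fin 2) F)), a ^ 2 = 1 ∧
        (∀ d ∈ (D : Subgroup (GL (Fin 2) F)), Matrix.GeneralLinearGroup.det d = 1 ∨
          Matrix.GeneralLinearGroup.det d = Matrix.GeneralLinearGroup.det a) ∧
        ∀ e ∈ (E : Subgroup (GL κ F)), e = 1 ∨ (e ^ 2 = 1 ∧
          Matrix.GeneralLinearGroup.det e = Matrix.GeneralLinearGroup.det a)) ∨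
      ((∀ i, ∃ t ∈ (T : Subgroup (Equiv.Perm ι)), t i = i₀ ∧ t i₀ = i) ∧
        ∀ e : GL κ F, e = 1))
    (P : Sylow 2 (Matrix.SpecialLinearGroup (Fin n) F)) :
    EA 2 (P : Subgroup (Matrix.SpecialLinearGroup (Fin n) F)) := by
  classical
  obtain ⟨ψ₀, h1, h2, h3, h4⟩ := exists_wr_gl (F := F) ι κ hn
  set ψ := ψ₀.comp ((wrMap ι (D : Subgroup (GL (Fin 2) F)).subtype).prodMap
    (E : Subgroup (GL κ F)).subtype) with hψ
  set K := (Matrix.GeneralLinearGroup.det (n := Fin n) (R := F)).ker with hK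
  have hb : ∀ i (d : D), Matrix.GeneralLinearGroup.det (wb ψ i d) =
      Matrix.GeneralLinearGroup.det d.1 := fun i d => by rw [hψ, wb_comp, h2]; rfl
  have hs : ∀ t, ws ψ t ∈ K := fun t => by rw [hψ, ws_comp]; exact h4 t
  have h5 : ∀ i (d : D), Matrix.GeneralLinearGroup.det d.1 = 1 →
      wb ψ i d ∈ powSub 2 (wS ψ T ⊓ K) := fun i d hd =>
    mem_powSub_of_ea (ea_ker_det_subgroupOf hF D) ((wb ψ i).comp (Subgroup.subtype _))
      (fun x => mem_inf.2 ⟨wb_mem _ _ _ _, (hb i x).trans x.2⟩) ⟨d, hd⟩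
  have h6 : ∀ i (d : D), wb ψ i d * (wb ψ i₀ d)⁻¹ ∈ wS ψ T ⊓ K := fun i d =>
    mem_inf.2 ⟨mul_mem (wb_mem _ _ _ _) (inv_mem (wb_mem _ _ _ _)),
      commutator_le_ker_det (wb_mul_inv_mem_commutator ψ i i₀ d)⟩
  refine ea_sylow_congr (slEquivKer (Fin n) F).symm (ea_sylow_of_wr ψ
    (comp_wrMap_injective h1 Subtype.val_injective Subtype.val_injective) D.isPGroup' E.isPGroup' T
    (by rwa [val_card_sylow, val_card_sylow]) K (wb ψ i₀).range ?_ ?_ ?_ ?_ fun t _ => hs t) P
  · rintro _ ⟨d, rfl⟩; exact wb_mem _ _ _ _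
  · rintro _ ⟨⟨d, rfl⟩, hd⟩
    exact h5 i₀ d ((hb i₀ d).symm.trans hd)
  · intro i d
    rcases h with ⟨a, ha, ha2, hd, -⟩ | ⟨ht, -⟩
    · rcases hd d.1 d.2 with hd | hd
      · exact mem_sup_left (h5 i d hd)
      · have h7 := h5 i (d * (⟨a, ha⟩ : D)⁻¹) (by simp [hd])
        rw [map_mul, map_inv] at h7
        have h8 : wb ψ i ⟨a, ha⟩ ∈ powSub 2 (wS ψ T ⊓ K) ⊔ (wb ψ i₀).range :=
          mem_sup_of_mul_inv_mem (mem_powSub_of_pow_eq_one (h6 i _)
            (wb_mul_inv_pow ψ i i₀ (Subtype.ext ha2))) ⟨_, rfl⟩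
        have := mul_mem (mem_sup_left h7) h8
        rwa [inv_mul_cancel_right] at this
    · obtain ⟨t, ht, e1, e2⟩ := ht i
      refine mem_sup_of_mul_inv_mem (mem_powSub_two_of_conj (h6 i d)
        (mem_inf.2 ⟨ws_mem ψ ht, hs t⟩) ?_) ⟨d, rfl⟩
      rw [← conj_mul, conj_inv.symm, ws_conj_wb, ws_conj_wb, e1, e2, mul_inv_rev, inv_inv]
  · intro e
    rcases h with ⟨a, ha, ha2, -, he⟩ | ⟨-, he⟩
    · rcases he e.1 e.2 with he | ⟨he1, he2⟩
      · rw [show e = 1 from Subtype.ext he, map_one]; exact one_mem _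
      · refine mem_sup_of_mul_inv_mem (b := wb ψ i₀ ⟨a, ha⟩) (mem_powSub_of_pow_eq_one
          (mem_inf.2 ⟨mul_mem (wc_mem _ _ _) (inv_mem (wb_mem _ _ _ _)), ?_⟩) ?_) ⟨_, rfl⟩
        · rw [hK, MonoidHom.mem_ker, map_mul, map_inv, hb, hψ, wc_comp, h3]
          exact mul_inv_eq_one.2 he2
        · rw [(commute_wb_wc ψ i₀ _ e).symm.inv_right.mul_pow, inv_pow, ← map_pow, ← map_pow,
            show e ^ 2 = 1 from Subtype.ext he1, show (⟨a, ha⟩ : D) ^ 2 = 1 from Subtype.ext ha2]
          simp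
    · rw [show e = 1 from Subtype.ext (he _), map_one]; exact one_mem _

theorem ea_sylow_sl_three [Fintype F] (hq : Fintype.card F % 4 = 3) {m r n : ℕ} (hm : 1 ≤ m)
    (hr : r ≤ 1) (hn : n = 2 * m + r) (P : Sylow 2 (Matrix.SpecialLinearGroup (Fin n) F)) :
    EA 2 (P : Subgroup (Matrix.SpecialLinearGroup (Fin n) F)) := by
  classical
  have hF : Odd (Fintype.card F) := Nat.odd_iff.2 (by omega)
  have h1 : 1 < Fintype.card F := Fintype.one_lt_card
  let a : GL (Fin 2) F := ⟨!![-1, 0; 0, 1], !![-1, 0; 0, 1], by simp [Matrix.one_fin_two],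
    by simp [Matrix.one_fin_two]⟩
  have ha2 : a ^ 2 = 1 := by rw [sq]; exact Units.ext a.val_inv
  have hda : Matrix.GeneralLinearGroup.det a = -1 := Units.ext (by simp [a])
  have hp : IsPGroup 2 (zpowers a) := H8.isPGroup_zpowers_of_pow_eq_one (k := 1) ha2
  obtain ⟨D, hD⟩ := hp.exists_le_sylow
  obtain ⟨E⟩ : Nonempty (Sylow 2 (GL (Fin r) F)) := inferInstance
  obtain ⟨T⟩ : Nonempty (Sylow 2 (Equiv.Perm (Fin m))) := inferInstance
  have hu : ∀ {u : Fˣ} {k : ℕ}, u ^ 2 ^ k = 1 → u = 1 ∨ u = -1 := fun h =>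
    (mul_self_eq_one_iff.1 (congrArg Units.val ((sq _).symm.trans (unit_sq_eq_one hq h)))).imp
      Units.ext Units.ext
  refine ea_sylow_sl_of hF (ι := Fin m) (κ := Fin r) (by simp [hn, mul_comm]) ⟨0, hm⟩ D E T ?_
    (Or.inl ⟨a, hD (mem_zpowers a), ha2, fun d hd => ?_, fun e he => ?_⟩) P
  · rw [val_card_GL hF, val_card_GL hF, val_card_GL hF, Nat.card_eq_fintype_card, Fintype.card_fin,
      hn]
    have h2 := val_prod_three hq 1
    have h3 := val_prod_three hq m
    simp only [mul_one, one_mul, Nat.factorial_one, padicValNat_one_right, add_zero] at h2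
    rw [h2]
    rcases Nat.le_one_iff_eq_zero_or_eq_one.1 hr with rfl | rfl
    · rw [add_zero, h3]; omega
    · rw [Finset.prod_range_succ, padicValNat.mul (prod_pow_sub_one_ne_zero h1 _)
        (Nat.sub_ne_zero_of_lt (Nat.one_lt_pow (by omega) h1)), h3,
        val_pow_sub_one_of_odd h1 hF (odd_two_mul_add_one m)]
      simp
  · obtain ⟨k, hk⟩ := D.isPGroup' ⟨d, hd⟩
    rw [hda]
    exact hu (k := k) (by rw [← map_pow, show d ^ 2 ^ k = 1 from congrArg Subtype.val hk, map_one])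
  · have : Subsingleton (Fin r) := Fin.subsingleton_iff_le_one.2 hr
    obtain ⟨k, hk⟩ := E.isPGroup' ⟨e, he⟩
    rcases hu (u := Matrix.GeneralLinearGroup.det e) (k := k)
      (by rw [← map_pow, show e ^ 2 ^ k = 1 from congrArg Subtype.val hk, map_one]) with h | h
    · exact Or.inl (det_injective_of_subsingleton (by rw [h, map_one]))
    · exact Or.inr ⟨det_injective_of_subsingleton (by rw [map_pow, h, map_one]; simp),
        h.trans hda.symm⟩

theorem ea_sylow_sl_one [Fintype F] (hq : Fintype.card F % 4 = 1) {j n : ℕ}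
    (hn : n = 2 * 2 ^ j) (P : Sylow 2 (Matrix.SpecialLinearGroup (Fin n) F)) :
    EA 2 (P : Subgroup (Matrix.SpecialLinearGroup (Fin n) F)) := by
  classical
  have hF : Odd (Fintype.card F) := Nat.odd_iff.2 (by omega)
  have h1 : 1 < Fintype.card F := Fintype.one_lt_card
  set ι := Multiplicative (Fin j → ZMod 2)
  have hι : Fintype.card ι = 2 ^ j := by simp [ι]
  have hp : IsPGroup 2 ι := IsPGroup.of_card (by rw [Nat.card_eq_fintype_card, hι])
  obtain ⟨T, hT⟩ := (hp.of_surjective _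
    (MulAction.toPermHom ι ι).rangeRestrict_surjective).exists_le_sylow
  obtain ⟨D⟩ : Nonempty (Sylow 2 (GL (Fin 2) F)) := inferInstance
  obtain ⟨E⟩ : Nonempty (Sylow 2 (GL (Fin 0) F)) := inferInstance
  refine ea_sylow_sl_of hF (ι := ι) (κ := Fin 0) (by simp [hn, hι, mul_comm]) 1 D E T ?_
    (Or.inr ⟨fun i => ⟨_, hT ⟨i, rfl⟩, ?_, mul_one i⟩, fun e => Subsingleton.elim _ _⟩) P
  · rw [val_card_GL hF, val_card_GL hF, Nat.card_eq_fintype_card, hι, hn, val_prod_one h1 hq,
      val_prod_one h1 hq, padicValNat_factorial_mul]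
    have : padicValNat 2 (Nat.factorial 2) = 1 := by simp
    rw [this]
    exact le_of_eq_of_le (by ring) (Nat.le_add_right _ _)
  · change i * i = 1
    apply Multiplicative.toAdd.injective
    funext x
    exact CharTwo.add_self_eq_zero _

end Lin

end Cfsg.Agent.H24
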