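import Mathlib
import Cfsg.Agent.H24.ElemAbSL
import Cfsg.Agent.H79.TwoRank
import Cfsg.Agent.H79.QuadDisc
import Cfsg.Agent.H30.OrthCount
import Cfsg.Agent.H30.OrthBridge

/-!
# Sylow 2-subgroups of orthogonal groups in odd characteristic: abelianization
-/

set_option autoImplicit false
set_option linter.unusedSectionVars false

namespace Cfsg.Agent.H24

open Cfsg Subgroup Module QuadraticMap
open H79 (Wr wrRep prodRep toAut OrthFam diagO)
open H30 (O refl kerDS dickson spinorNorm)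
open scoped commutatorElement Pointwise

variable {F : Type*} [Field F]

section Forms

/-- A diagonal quadratic form. -/
def qsq {κ : Type*} [Fintype κ] (w : κ → F) : QuadraticForm F (κ → F) :=
  QuadraticMap.weightedSumSquares F w

theorem qsq_apply {κ : Type*} [Fintype κ] (w v : κ → F) : qsq w v = ∑ i, w i * (v i * v i) :=
  QuadraticMap.weightedSumSquares_apply _ _

theorem polar_qsq {κ : Type*} [Fintype κ] (w u v : κ → F) :
    polar (qsq w) u v = ∑ i, 2 * w i * u i * v i := by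
  simp only [polar, qsq_apply, ← Finset.sum_sub_distrib, Pi.add_apply]
  exact Finset.sum_congr rfl fun i _ => by ring

theorem orthFam_qsq {κ : Type*} [Fintype κ] [DecidableEq κ] {w : κ → F} (hw : ∀ i, w i ≠ 0) :
    OrthFam (qsq w) (Pi.basisFun F κ) := by
  constructor
  · intro i
    simp [qsq_apply, Pi.single_apply, hw]
  · intro i j hij
    simp [polar_qsq, Pi.single_apply, hij.symm]

theorem qsq_basisFun {κ : Type*} [Fintype κ] [DecidableEq κ] (w : κ → F) (i : κ) :
    qsq w (Pi.basisFun F κ i) = w i := by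
  simp [qsq_apply, Pi.single_apply]

theorem qsq_nondegenerate (h2 : (2 : F) ≠ 0) {κ : Type*} [Fintype κ] {w : κ → F}
    (hw : ∀ i, w i ≠ 0) : (polarBilin (qsq w)).Nondegenerate := by
  classical
  refine H30.nondegenerate_of_forall fun x hx => funext fun i => ?_
  have := hx (Pi.single i 1)
  simpa [polar_qsq, Pi.single_apply, h2, hw] using this

variable {V : Type*} [AddCommGroup V] [Module F V] {Q : QuadraticForm F V}

theorem Q_eq_sum_of_orthFam {κ : Type*} [Fintype κ] {b : Basis κ F V} (hb : OrthFam Q b) (v : V) :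
    Q v = ∑ i, Q (b i) * (b.repr v i * b.repr v i) := by
  classical
  have h := H30.Q_sum_congr (Q := Q) (Q' := qsq fun i => Q (b i)) b (Pi.basisFun F κ)
    (fun i => (qsq_basisFun (fun i => Q (b i)) i).symm)
    (fun i j hij => by rw [hb.orth i j hij, (orthFam_qsq hb.ne).orth i j hij]) Finset.univ
    (b.repr v)
  rw [b.sum_repr, qsq_apply] at h
  rw [h]
  refine Finset.sum_congr rfl fun i _ => ?_
  simp [Finset.sum_apply, Pi.single_apply]

theorem det_gram_of_orthFam {κ : Type*} [Fintype κ] [DecidableEq κ] {b : κ → V}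
    (hb : OrthFam Q b) : (H79.gram Q b).det = 2 ^ Fintype.card κ * ∏ i, Q (b i) := by
  have : H79.gram Q b = Matrix.diagonal fun i => 2 * Q (b i) := by
    ext i j
    rw [H79.gram_apply]
    by_cases h : i = j
    · subst h; rw [Matrix.diagonal_apply_eq, H30.polar_self']
    · rw [Matrix.diagonal_apply_ne _ h, hb.orth i j h]
  rw [this, Matrix.det_diagonal, Finset.prod_mul_distrib, Finset.prod_const, Finset.card_univ]

theorem isPlus_iff_of_orthFam [Finite F] (h2 : (2 : F) ≠ 0) (hQ : (polarBilin Q).Nondegenerate)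
    {κ : Type*} [Fintype κ] {b : Basis κ F V} (hb : OrthFam Q b) {m : ℕ}
    (hm : Fintype.card κ = 2 * m) :
    H79.IsPlus (F := F) Q ↔ IsSquare ((-1) ^ m * ∏ i, Q (b i)) := by
  classical
  rw [H79.isPlus_iff_isSquare h2 Q ((H79.nd_iff Q).1 hQ) b hm, det_gram_of_orthFam hb, hm,
    mul_left_comm, pow_mul', H79.isSquare_sq_mul_iff (pow_ne_zero _ h2)]

end Forms

section Val
variable {V : Type*} [AddCommGroup V] [Module F V] [FiniteDimensional F V] {Q : QuadraticForm F V}
  [Fintype F]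

theorem val_prod_sq {q : ℕ} (h1 : 1 < q) (hq : Odd q) (m : ℕ) :
    padicValNat 2 (∏ i ∈ Finset.range m, (q ^ (2 * (i + 1)) - 1)) =
      m * padicValNat 2 (q ^ 2 - 1) + padicValNat 2 m.factorial := by
  simp only [pow_mul]
  exact H79.val_prod_one (Nat.one_lt_pow two_ne_zero h1) (H79.sq_mod_four hq) m

theorem val_formula {q : ℕ} (h1 : 1 < q) (hq : Odd q) (a m : ℕ) {c : ℕ} (hc : c ≠ 0) :
    padicValNat 2 (2 * q ^ a * c * ∏ i ∈ Finset.range m, (q ^ (2 * (i + 1)) - 1)) =
      1 + padicValNat 2 c + (m * padicValNat 2 (q ^ 2 - 1) + padicValNat 2 m.factorial) := by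
  have h3 : ∏ i ∈ Finset.range m, (q ^ (2 * (i + 1)) - 1) ≠ 0 := by
    simp only [pow_mul]
    exact H79.prod_pow_sub_one_ne_zero (Nat.one_lt_pow two_ne_zero h1) m
  rw [padicValNat.mul (by positivity) h3, padicValNat.mul (by positivity) hc,
    padicValNat.mul two_ne_zero (by positivity), padicValNat_self,
    padicValNat.eq_zero_of_not_dvd hq.pow.not_two_dvd_nat, val_prod_sq h1 hq]

theorem pow_mod_four {q : ℕ} (hq : Odd q) (m : ℕ) :
    q ^ m % 4 = if q % 4 = 3 ∧ Odd m then 3 else 1 := by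
  have h := Nat.odd_iff.1 hq
  induction m with
  | zero => simp
  | succ m ih =>
    rw [pow_succ, Nat.mul_mod, ih]
    simp only [Nat.odd_add_one]
    by_cases h3 : q % 4 = 3
    · by_cases hm : Odd m <;> simp [h3, hm]
    · have : q % 4 = 1 := by omega
      simp [this]

theorem val_O_odd (hF : Odd (Fintype.card F)) (hQ : (polarBilin Q).Nondegenerate) {m : ℕ}
    (hV : finrank F V = 2 * m + 1) : padicValNat 2 (Nat.card (O Q)) =
      m * padicValNat 2 (Fintype.card F ^ 2 - 1) + padicValNat 2 m.factorial + 1 := by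
  have := val_formula Fintype.one_lt_card hF (m ^ 2) m one_ne_zero
  rw [mul_one] at this
  rw [H30.card_O_odd hQ hV, Nat.card_eq_fintype_card, this]
  simp [add_comm]

theorem val_O_nonsq (hF : Odd (Fintype.card F)) (hQ : (polarBilin Q).Nondegenerate) {m : ℕ}
    (hV : finrank F V = 2 * (m + 1))
    (h : H79.IsPlus (F := F) Q ↔ ¬ IsSquare ((-1 : F) ^ (m + 1))) :
    padicValNat 2 (Nat.card (O Q)) =
      m * padicValNat 2 (Fintype.card F ^ 2 - 1) + padicValNat 2 m.factorial + 2 := by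
  have h1 : 1 < Fintype.card F := Fintype.one_lt_card
  rw [H79.isSquare_neg_one_pow_iff, not_not] at h
  have h4 := pow_mod_four hF (m + 1)
  by_cases hp : H79.IsPlus (F := F) Q
  · rw [if_pos (h.1 hp)] at h4
    rw [H30.card_O_plus hQ (by omega) hV hp, Nat.card_eq_fintype_card, Nat.add_sub_cancel,
      val_formula h1 hF _ _ (by omega), H79.val_eq_one_of_mod (by omega)]
    omega
  · rw [if_neg (h.not.1 hp)] at h4
    rw [H30.card_O_minus hQ (by omega) hV hp, Nat.card_eq_fintype_card, Nat.add_sub_cancel,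
      val_formula h1 hF _ _ (by omega), H79.val_eq_one_of_mod (by omega)]
    omega

theorem val_O_sq (hF : Odd (Fintype.card F)) (hQ : (polarBilin Q).Nondegenerate) {m : ℕ}
    (hV : finrank F V = 2 * (m + 1))
    (h : H79.IsPlus (F := F) Q ↔ IsSquare ((-1 : F) ^ (m + 1))) :
    padicValNat 2 (Nat.card (O Q)) =
      (m + 1) * padicValNat 2 (Fintype.card F ^ 2 - 1) + padicValNat 2 (m + 1).factorial := by
  have h1 : 1 < Fintype.card F := Fintype.one_lt_card
  set q := Fintype.card F with hq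
  have hq2 := Nat.odd_iff.1 hF
  have h2 : 1 < q ^ 2 := Nat.one_lt_pow two_ne_zero h1
  rw [H79.isSquare_neg_one_pow_iff] at h
  rw [Nat.factorial_succ, padicValNat.mul m.add_one_ne_zero (Nat.factorial_ne_zero m), add_mul,
    one_mul]
  have h5 : 1 < q ^ (m + 1) := Nat.one_lt_pow (by omega) h1
  by_cases hp : H79.IsPlus (F := F) Q
  · rw [H30.card_O_plus hQ (by omega) hV hp, Nat.card_eq_fintype_card, ← hq, Nat.add_sub_cancel,
      val_formula h1 hF _ _ (by omega)]
    suffices 1 + padicValNat 2 (q ^ (m + 1) - 1) =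
      padicValNat 2 (q ^ 2 - 1) + padicValNat 2 (m + 1) by omega
    by_cases h3 : q % 4 = 3
    · obtain ⟨k, hk⟩ : Even (m + 1) := by
        by_contra h4
        exact h.1 hp ⟨h3, Nat.not_even_iff_odd.1 h4⟩
      rw [hk, ← two_mul, pow_mul, H79.val_pow_sub_one h2 (H79.sq_mod_four hF) (by omega),
        padicValNat.mul two_ne_zero (by omega), padicValNat_self]
      omega
    · have h4 : q % 4 = 1 := by omega
      rw [H79.val_pow_sub_one h1 h4 (by omega), H79.val_pow_sub_one h1 h4 two_ne_zero,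
        padicValNat_self]
      omega
  · rw [H30.card_O_minus hQ (by omega) hV hp, Nat.card_eq_fintype_card, ← hq, Nat.add_sub_cancel,
      val_formula h1 hF _ _ (by omega)]
    suffices 1 + padicValNat 2 (q ^ (m + 1) + 1) =
      padicValNat 2 (q ^ 2 - 1) + padicValNat 2 (m + 1) by omega
    obtain ⟨h3, h4⟩ := not_not.1 (h.not.1 hp)
    have h6 : (q ^ 2) ^ (m + 1) - 1 = (q ^ (m + 1) + 1) * (q ^ (m + 1) - 1) := by
      rw [← pow_mul, mul_comm 2, pow_mul, ← Nat.sq_sub_sq, one_pow]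
    rw [← H79.val_pow_sub_one h2 (H79.sq_mod_four hF) m.add_one_ne_zero, h6,
      padicValNat.mul (by omega) (by omega),
      H79.val_pow_sub_one_of_odd h1 hF h4, H79.val_eq_one_of_mod (x := q - 1) (by omega)]
    omega

end Val

section Wr
variable {W V₀ : Type*} [AddCommGroup W] [Module F W] [AddCommGroup V₀] [Module F V₀]
  (ι : Type*) [Fintype ι] [DecidableEq ι] (QW : QuadraticForm F W) (Q₀ : QuadraticForm F V₀)

/-- The orthogonal sum of copies of `QW` and of `Q₀`. -/
def qwr : QuadraticForm F ((ι → W) × V₀) := (QuadraticMap.pi fun _ : ι => QW).prod Q₀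

/-- The natural representation of an orthogonal group. -/
def oRep : O QW →* Module.End F W :=
  LinearEquiv.automorphismGroup.toLinearMapMonoidHom.comp (O QW).subtype

variable {ι QW Q₀}

theorem qwr_apply (x : (ι → W) × V₀) : qwr ι QW Q₀ x = ∑ i, QW (x.1 i) + Q₀ x.2 := by
  simp [qwr]

theorem polar_qwr (x y : (ι → W) × V₀) :
    polar (qwr ι QW Q₀) x y = ∑ i, polar QW (x.1 i) (y.1 i) + polar Q₀ x.2 y.2 := by
  simp only [polar, qwr_apply, Finset.sum_sub_distrib, Prod.fst_add, Prod.snd_add, Pi.add_apply]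
  ring

theorem oRep_injective : Function.Injective (oRep QW) := fun _ _ h =>
  H30.O_ext fun v => LinearMap.congr_fun h v

variable (ι QW Q₀)

/-- The stabilizer of an orthogonal decomposition. -/
noncomputable def wrO : Wr ι (O QW) × O Q₀ →* O (qwr ι QW Q₀) :=
  (toAut (prodRep (wrRep ι (oRep QW)) (oRep Q₀))).codRestrict _ fun x v => by
    rw [qwr_apply, qwr_apply]
    change ∑ i, QW ((x.1.left i).1 (v.1 (x.1.right⁻¹ i))) + Q₀ (x.2.1 v.2) = _
    simp only [H30.O_map]
    rw [Equiv.sum_comp x.1.right⁻¹ fun i => QW (v.1 i)]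

variable {ι QW Q₀}

theorem wrO_apply (x : Wr ι (O QW) × O Q₀) (v : (ι → W) × V₀) :
    (wrO ι QW Q₀ x).1 v = (fun i => (x.1.left i).1 (v.1 (x.1.right⁻¹ i)), x.2.1 v.2) := rfl

theorem wrO_injective [Nontrivial W] : Function.Injective (wrO ι QW Q₀) := fun _ _ h =>
  H79.toAut_injective (H79.prodRep_injective (H79.wrRep_injective oRep_injective) oRep_injective)
    (congrArg Subtype.val h)

theorem qwr_single (i : ι) (w : W) : qwr ι QW Q₀ (Pi.single i w, 0) = QW w := by
  rw [qwr_apply, Finset.sum_eq_single i]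
  · simp
  · intro j _ hj; simp [hj]
  · simp

theorem polar_qwr_single (x : (ι → W) × V₀) (i : ι) (w : W) :
    polar (qwr ι QW Q₀) x (Pi.single i w, 0) = polar QW (x.1 i) w := by
  rw [polar_qwr, Finset.sum_eq_single i]
  · simp
  · intro j _ hj; simp [hj]
  · simp

theorem qwr_right (y : V₀) : qwr ι QW Q₀ (0, y) = Q₀ y := by simp [qwr_apply]

theorem wb_wrO_refl (i : ι) (w : W) :
    wb (wrO ι QW Q₀) i (refl QW w) = refl (qwr ι QW Q₀) (Pi.single i w, 0) := by
  refine H30.O_ext fun v => ?_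
  rw [wb_apply, wrO_apply, H30.refl_apply, qwr_single, polar_qwr_single]
  refine Prod.ext (funext fun j => ?_) (by simp)
  by_cases h : j = i
  · subst h; simp [H30.refl_apply]
  · simp [h]

theorem wc_wrO_refl (y : V₀) :
    wc (wrO ι QW Q₀) (refl Q₀ y) = refl (qwr ι QW Q₀) (0, y) := by
  refine H30.O_ext fun v => ?_
  rw [wc_apply, wrO_apply, H30.refl_apply (qwr ι QW Q₀), qwr_right, polar_qwr]
  exact Prod.ext (funext fun j => by simp) (by simp [H30.refl_apply])

theorem ws_wrO_swap (h2 : (2 : F) ≠ 0) {i j : ι} (hij : i ≠ j) :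
    ws (wrO ι (qsq fun _ : Fin 2 => (1 : F)) Q₀) (Equiv.swap i j) =
      refl _ ((Pi.single i (Pi.single 0 1), 0) - (Pi.single j (Pi.single 0 1), 0)) *
        refl _ ((Pi.single i (Pi.single 1 1), 0) - (Pi.single j (Pi.single 1 1), 0)) ∧
    ∀ a : Fin 2, qwr ι (qsq fun _ : Fin 2 => (1 : F)) Q₀
      ((Pi.single i (Pi.single a 1), 0) - (Pi.single j (Pi.single a 1), 0)) = 2 := by
  have h1 : ∀ a : Fin 2, qwr ι (qsq fun _ : Fin 2 => (1 : F)) Q₀
      ((Pi.single i (Pi.single a 1), 0) - (Pi.single j (Pi.single a 1), 0)) = 2 := by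
    intro a
    rw [H30.Q_sub, qwr_single, qwr_single, polar_qwr_single]
    simp [hij.symm, qsq_apply, Pi.single_apply, one_add_one_eq_two]
  refine ⟨H30.O_ext fun v => ?_, h1⟩
  rw [ws_apply, wrO_apply, H30.O_mul_apply, H30.refl_apply, H30.refl_apply, h1, h1,
    polar_sub_right, polar_sub_right, polar_qwr_single, polar_qwr_single, polar_qwr_single,
    polar_qwr_single]
  refine Prod.ext (funext fun l => funext fun a => ?_) (by simp)
  simp only [polar_qsq, Fin.sum_univ_two]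
  by_cases hi : l = i
  · subst hi
    fin_cases a <;> simp [hij, hij.symm] <;> field_simp <;> ring
  · by_cases hj : l = j
    · subst hj
      fin_cases a <;> simp [hij, hij.symm] <;> field_simp <;> ring
    · simp [hi, hj, Equiv.swap_apply_of_ne_of_ne]

theorem qwr_nondegenerate (hW : (polarBilin QW).Nondegenerate)
    (h₀ : (polarBilin Q₀).Nondegenerate) : (polarBilin (qwr ι QW Q₀)).Nondegenerate := by
  refine H30.nondegenerate_of_forall fun x hx => Prod.ext (funext fun i => ?_) ?_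
  · exact H30.eq_zero_of_polar hW fun w => by rw [← polar_qwr_single, hx]
  · refine H30.eq_zero_of_polar h₀ fun y => ?_
    have := hx (0, y)
    rw [polar_qwr] at this
    simpa using this

end Wr

section Core
variable [Fintype F]

theorem exists_refl_mem_sylow {W : Type*} [AddCommGroup W] [Module F W]
    [FiniteDimensional F W] {QW : QuadraticForm F W} (hW : (polarBilin QW).Nondegenerate)
    (hd : finrank F W = 2) (D : Sylow 2 (O QW)) {c : F} (hc : c ≠ 0) :
    ∃ w, QW w ≠ 0 ∧ refl QW w ∈ (D : Subgroup (O QW)) ∧ IsSquare (QW w * c) := by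
  have : Finite W := Module.finite_of_finite F
  have : Finite (O QW) := Finite.of_injective (fun g : O QW => (g.1 : W → W))
    fun _ _ h => H30.O_ext (congrFun h)
  have hs := H30.dickson_prod_spinorNorm_surjective hW hd.ge
  have hp : IsPGroup 2 (ℤˣ × H30.SqCl F) := fun x => ⟨1, by rw [pow_one, pow_two, H79.ds_mul_self]⟩
  have h1 : ((D.mapSurjective hs : Sylow 2 _) : Subgroup (ℤˣ × H30.SqCl F)) = ⊤ :=
    ((D.mapSurjective hs).is_maximal' (hp.to_subgroup ⊤) le_top).symm
  have h3 : ((-1, (Units.mk0 c hc : Fˣ)) : ℤˣ × H30.SqCl F) ∈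
      ((D.mapSurjective hs : Sylow 2 _) : Subgroup (ℤˣ × H30.SqCl F)) := h1 ▸ mem_top _
  obtain ⟨d, hdD, hd1⟩ := h3
  obtain ⟨w, hw, rfl⟩ := H30.exists_refl_of_dickson_of_finrank_le_two hW hd.le d
    (congrArg Prod.fst hd1)
  refine ⟨w, hw, hdD, ?_⟩
  have h4 : spinorNorm hW (refl QW w) = (Units.mk0 c hc : Fˣ) := congrArg Prod.snd hd1
  rw [H30.spinorNorm_refl hW hw, H30.sqCl_mk_eq_iff] at h4
  exact h4

theorem refl_or_mul_refl {W : Type*} [AddCommGroup W] [Module F W]
    [FiniteDimensional F W] {QW : QuadraticForm F W} (hW : (polarBilin QW).Nondegenerate)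
    (hd : finrank F W = 2) (D : Sylow 2 (O QW)) (d : D) :
    (∃ w, QW w ≠ 0 ∧ d.1 = refl QW w) ∨ ∃ a b : D, (∃ w, QW w ≠ 0 ∧ a.1 = refl QW w) ∧
      (∃ w, QW w ≠ 0 ∧ b.1 = refl QW w) ∧ d = a * b := by
  rcases Int.units_eq_one_or (dickson hW d.1) with h | h
  · obtain ⟨w, hw, hwD, -⟩ := exists_refl_mem_sylow hW hd D one_ne_zero
    refine Or.inr ⟨d * ⟨_, hwD⟩, ⟨_, hwD⟩,
      H30.exists_refl_of_dickson_of_finrank_le_two hW hd.le _ ?_, ⟨w, hw, rfl⟩, Subtype.ext ?_⟩
    · change dickson hW (d.1 * refl QW w) = _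
      rw [map_mul, h, H30.dickson_refl hW hw, one_mul]
    · change d.1 = d.1 * refl QW w * refl QW w
      rw [mul_assoc, H30.refl_mul_self, mul_one]
  · exact Or.inl (H30.exists_refl_of_dickson_of_finrank_le_two hW hd.le _ h)

theorem ea_sylow_qwr (hF : Odd (Fintype.card F)) {ι : Type} [Fintype ι] [DecidableEq ι]
    [Nontrivial ι] {k : ℕ} {w₀ : Fin k → F} (hw₀ : ∀ j, w₀ j ≠ 0)
    (hval : padicValNat 2 (Nat.card (O (qwr ι (qsq fun _ : Fin 2 => (1 : F)) (qsq w₀)))) ≤
      Fintype.card ι * padicValNat 2 (Fintype.card F ^ 2 - 1) +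
        padicValNat 2 (Fintype.card ι).factorial + k)
    (P : Sylow 2 (commutator (O (qwr ι (qsq fun _ : Fin 2 => (1 : F)) (qsq w₀))))) :
    EA 2 (P : Subgroup (commutator (O (qwr ι (qsq fun _ : Fin 2 => (1 : F)) (qsq w₀))))) := by
  classical
  revert P
  have h2 : (2 : F) ≠ 0 := H79.two_ne_zero_of_odd_card hF
  set QW : QuadraticForm F (Fin 2 → F) := qsq fun _ : Fin 2 => (1 : F) with hQW
  have hW : (polarBilin QW).Nondegenerate := qsq_nondegenerate h2 fun _ => one_ne_zero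
  have hQ := qwr_nondegenerate (ι := ι) hW (qsq_nondegenerate h2 hw₀)
  have hd : finrank F (Fin 2 → F) = 2 := by simp
  have : Finite (O QW) := Finite.of_injective (fun g : O QW => (g.1 : (Fin 2 → F) → _))
    fun _ _ h => H30.O_ext (congrFun h)
  have : Finite (O (qwr ι QW (qsq w₀))) := Finite.of_injective
    (fun g : O (qwr ι QW (qsq w₀)) => (g.1 : (ι → Fin 2 → F) × (Fin k → F) → _))
    fun _ _ h => H30.O_ext (congrFun h)
  have hK := H30.commutator_eq_kerDS hQ (H30.not_isExc_of_two h2)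
  set K := commutator (O (qwr ι QW (qsq w₀))) with hKdef
  obtain ⟨D⟩ : Nonempty (Sylow 2 (O QW)) := inferInstance
  obtain ⟨T⟩ : Nonempty (Sylow 2 (Equiv.Perm ι)) := inferInstance
  obtain ⟨i₀, j₀, hij⟩ := exists_pair_ne ι
  set ψ := (wrO ι QW (qsq w₀)).comp ((wrMap ι (D : Subgroup (O QW)).subtype).prodMap
    (diagO (orthFam_qsq hw₀))) with hψ
  have hb : ∀ i (d : D) w, d.1 = refl QW w →
      wb ψ i d = refl (qwr ι QW (qsq w₀)) (Pi.single i w, 0) := fun i d w h => by
    rw [hψ, wb_comp, ← wb_wrO_refl, ← h]; rfl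
  have hsq : ∀ (d : D) w, d.1 = refl QW w → d ^ 2 = 1 := fun d w h =>
    Subtype.ext (by rw [pow_two]; change d.1 * d.1 = 1; rw [h, H30.refl_mul_self])
  have hY : ∀ i j (a b : D) v w, i ≠ j → QW v ≠ 0 → QW w ≠ 0 → a.1 = refl QW v →
      b.1 = refl QW w → IsSquare (QW v * QW w) → wb ψ i a * wb ψ j b ∈ powSub 2 (wS ψ T ⊓ K) := by
    intro i j a b v w hne hv hw ha hb' hs
    refine mul_mem_powSub_two (mem_inf.2 ⟨mul_mem (wb_mem _ _ _ _) (wb_mem _ _ _ _), ?_⟩) ?_ ?_
      (commute_wb_wb ψ hne a b)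
    · rw [hK, hb i a v ha, hb j b w hb', H30.refl_mul_refl_mem_kerDS_iff hQ
        (by rwa [qwr_single]) (by rwa [qwr_single]), qwr_single, qwr_single]
      exact hs
    · rw [← map_mul, ← pow_two, hsq a v ha, map_one]
    · rw [← map_mul, ← pow_two, hsq b w hb', map_one]
  have hb1 : ∀ i (d : D) w, d.1 = refl QW w →
      wb ψ i d ∈ powSub 2 (wS ψ T ⊓ K) ⊔ (wb ψ i₀).range := fun i d w h =>
    mem_sup_of_mul_inv_mem (mem_powSub_of_pow_eq_one (mem_inf.2 ⟨mul_mem (wb_mem _ _ _ _)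
      (inv_mem (wb_mem _ _ _ _)), wb_mul_inv_mem_commutator ψ i i₀ d⟩)
      (wb_mul_inv_pow ψ i i₀ (hsq d w h))) ⟨d, rfl⟩
  refine ea_sylow_of_wr ψ (comp_wrMap_injective wrO_injective Subtype.val_injective
    (H79.diagO_injective h2 _)) D.isPGroup' (fun e => ⟨1, funext fun j => Int.units_sq _⟩) T ?_ K
    (wb ψ i₀).range ?_ ?_ ?_ ?_ ?_
  · have h3 := val_O_sq (m := 0) hF hW hd (by
      rw [isPlus_iff_of_orthFam h2 hW (orthFam_qsq fun _ => one_ne_zero) (m := 1) (by simp)]
      simp only [hQW, qsq_basisFun]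
      simp)
    rw [val_card_sylow, h3, H79.card_signs, padicValNat.prime_pow, Nat.card_eq_fintype_card (α := ι),
      Fintype.card_fin, zero_add, one_mul, Nat.factorial_one, padicValNat_one_right, add_zero]
    exact hval
  · rintro _ ⟨d, rfl⟩; exact wb_mem _ _ _ _
  · rintro _ ⟨⟨d, rfl⟩, hd'⟩
    replace hd' : wb ψ i₀ d ∈ K := hd'
    rcases refl_or_mul_refl hW hd D d with ⟨w, hw, h⟩ | ⟨a, b, ⟨v, hv, ha⟩, ⟨w, hw, hb'⟩, rfl⟩
    · rw [hb i₀ d w h, hK] at hd'
      exact absurd hd' (H30.refl_notMem_kerDS hQ (by rwa [qwr_single]))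
    · rw [map_mul] at hd' ⊢
      rw [hK, hb i₀ a v ha, hb i₀ b w hb', H30.refl_mul_refl_mem_kerDS_iff hQ
        (by rwa [qwr_single]) (by rwa [qwr_single]), qwr_single, qwr_single] at hd'
      have := mul_mem (hY i₀ j₀ a b v w hij hv hw ha hb' hd')
        (hY j₀ i₀ b b w w hij.symm hw hw hb' hb' (IsSquare.mul_self _))
      rwa [mul_assoc, ← mul_assoc (wb ψ j₀ b), ← map_mul, ← pow_two, hsq b w hb', map_one,
        one_mul] at this
  · intro i d
    rcases refl_or_mul_refl hW hd D d with ⟨w, hw, h⟩ | ⟨a, b, ⟨v, hv, ha⟩, ⟨w, hw, hb'⟩, rfl⟩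
    · exact hb1 i d w h
    · rw [map_mul]; exact mul_mem (hb1 i a v ha) (hb1 i b w hb')
  · intro e
    refine pi_mem_of_mulSingle_mem (H := (powSub 2 (wS ψ T ⊓ K) ⊔ (wb ψ i₀).range).comap (wc ψ))
      e fun j => ?_
    rw [mem_comap]
    rcases Int.units_eq_one_or (e j) with h | h
    · rw [h, Pi.mulSingle_one, map_one]; exact one_mem _
    obtain ⟨w, hw, hwD, hs⟩ := exists_refl_mem_sylow hW hd D (hw₀ j)
    have h4 : wc ψ (Pi.mulSingle j (-1)) =
        refl (qwr ι QW (qsq w₀)) (0, Pi.basisFun F (Fin k) j) := by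
      rw [hψ, wc_comp, H79.diagO_mulSingle, wc_wrO_refl]
    rw [h]
    refine mem_sup_of_mul_inv_mem (b := wb ψ i₀ ⟨_, hwD⟩) ?_ ⟨_, rfl⟩
    have h5 := hb i₀ ⟨_, hwD⟩ w rfl
    have h6 : (wb ψ i₀ ⟨_, hwD⟩)⁻¹ = wb ψ i₀ ⟨_, hwD⟩ := by rw [h5, H30.refl_inv]
    rw [h6]
    refine mul_mem_powSub_two (mem_inf.2 ⟨mul_mem (wc_mem _ _ _) (wb_mem _ _ _ _), ?_⟩) ?_ ?_
      (commute_wb_wc ψ _ _ _).symm
    · rw [hK, h4, h5, H30.refl_mul_refl_mem_kerDS_iff hQ
        (by rw [qwr_right, qsq_basisFun]; exact hw₀ j) (by rwa [qwr_single]), qwr_single,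
        qwr_right, qsq_basisFun, mul_comm]
      exact hs
    · rw [h4, H30.refl_mul_self]
    · rw [h5, H30.refl_mul_self]
  · intro t ht
    clear ht
    rw [hψ, ws_comp]
    induction t using Equiv.Perm.swap_induction_on with
    | one => rw [map_one]; exact one_mem _
    | swap_mul g x y hxy ih =>
      rw [map_mul]
      refine mul_mem ?_ ih
      obtain ⟨h3, h4⟩ := ws_wrO_swap (Q₀ := qsq w₀) h2 hxy
      rw [h3]
      exact H30.refl_mul_refl_mem_commutator hQ (by rwa [h4]) (by rw [h4, h4])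

variable {V : Type*} [AddCommGroup V] [Module F V] {Q : QuadraticForm F V}

theorem ea_sylow_of_basis (hF : Odd (Fintype.card F)) {ι : Type} [Fintype ι] [DecidableEq ι]
    [Nontrivial ι] {k : ℕ} (b : Basis ((ι × Fin 2) ⊕ Fin k) F V) (hb : OrthFam Q b)
    (h1 : ∀ x, Q (b (Sum.inl x)) = 1)
    (hval : padicValNat 2 (Nat.card (O Q)) ≤
      Fintype.card ι * padicValNat 2 (Fintype.card F ^ 2 - 1) +
        padicValNat 2 (Fintype.card ι).factorial + k)
    (P : Sylow 2 (commutator (O Q))) : EA 2 (P : Subgroup (commutator (O Q))) := by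
  let L : V ≃ₗ[F] (ι → Fin 2 → F) × (Fin k → F) :=
    b.equivFun ≪≫ₗ LinearEquiv.sumArrowLequivProdArrow _ _ F F ≪≫ₗ
      (LinearEquiv.curry F F ι (Fin 2)).prodCongr (LinearEquiv.refl F _)
  let e : Q.IsometryEquiv
      (qwr ι (qsq fun _ : Fin 2 => (1 : F)) (qsq fun j => Q (b (Sum.inr j)))) :=
    ⟨L, fun v => by
      rw [Q_eq_sum_of_orthFam hb v, Fintype.sum_sum_type, Fintype.sum_prod_type, qwr_apply]
      simp only [qsq_apply, h1]
      rfl⟩
  have : Finite (O (qwr ι (qsq fun _ : Fin 2 => (1 : F)) (qsq fun j => Q (b (Sum.inr j))))) :=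
    Finite.of_injective (fun g : O (qwr ι (qsq fun _ : Fin 2 => (1 : F))
      (qsq fun j => Q (b (Sum.inr j)))) => (g.1 : (ι → Fin 2 → F) × (Fin k → F) → _))
      fun _ _ h => H30.O_ext (congrFun h)
  exact ea_sylow_congr (H28.commutatorEquiv (H30.OCongr e).symm) (ea_sylow_qwr hF
    (fun j => hb.ne _) (by rwa [← Nat.card_congr (H30.OCongr e).toEquiv])) P

theorem ea_sylow_of_basis' (hF : Odd (Fintype.card F)) {m k : ℕ} (hm : 2 ≤ m)
    (b : Basis (Fin (m * 2 + k)) F V) (hb : OrthFam Q b)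
    (h1 : ∀ i : Fin (m * 2 + k), (i : ℕ) < m * 2 → IsSquare (Q (b i)))
    (hval : padicValNat 2 (Nat.card (O Q)) ≤
      m * padicValNat 2 (Fintype.card F ^ 2 - 1) + padicValNat 2 m.factorial + k)
    (P : Sylow 2 (commutator (O Q))) : EA 2 (P : Subgroup (commutator (O Q))) := by
  have : Nontrivial (Fin m) := Fin.nontrivial_iff_two_le.2 hm
  have h2 : ∀ i : Fin (m * 2 + k), ∃ u : Fˣ, (i : ℕ) < m * 2 → Q ((u : F) • b i) = 1 := by
    intro i
    by_cases h : (i : ℕ) < m * 2
    · obtain ⟨r, hr⟩ := h1 i h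
      have h0 : r ≠ 0 := by rintro rfl; exact hb.ne i (by rw [hr, mul_zero])
      exact ⟨(Units.mk0 r h0)⁻¹, fun _ => by rw [QuadraticMap.map_smul, hr]; simp; field_simp⟩
    · exact ⟨1, fun h' => absurd h' h⟩
  choose u hu using h2
  let e : (Fin m × Fin 2) ⊕ Fin k ≃ Fin (m * 2 + k) :=
    (Equiv.sumCongr finProdFinEquiv (Equiv.refl _)).trans finSumFinEquiv
  have h3 : ∀ x, (b.unitsSMul u).reindex e.symm x = (u (e x) : F) • b (e x) := fun x => by
    rw [Basis.reindex_apply, Equiv.symm_symm, Basis.unitsSMul_apply, Units.smul_def]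
  refine ea_sylow_of_basis hF ((b.unitsSMul u).reindex e.symm) ⟨fun x => ?_, fun x y hxy => ?_⟩
    (fun x => ?_) (by simpa using hval) P
  · rw [h3, QuadraticMap.map_smul]
    exact smul_ne_zero (mul_ne_zero (u _).ne_zero (u _).ne_zero) (hb.ne _)
  · rw [h3, h3, polar_smul_left, polar_smul_right, hb.orth _ _ (e.injective.ne hxy), smul_zero,
      smul_zero]
  · rw [h3]
    exact hu _ (finProdFinEquiv x).2

theorem ea_sylow_omega [FiniteDimensional F V] (hF : Odd (Fintype.card F))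
    (hQ : (polarBilin Q).Nondegenerate)
    (h : 5 ≤ finrank F V ∨ (finrank F V = 4 ∧ H79.IsPlus (F := F) Q))
    (P : Sylow 2 (commutator (O Q))) : EA 2 (P : Subgroup (commutator (O Q))) := by
  have h2 : (2 : F) ≠ 0 := H79.two_ne_zero_of_odd_card hF
  rcases Nat.even_or_odd' (finrank F V) with ⟨m, hm | hm⟩
  · obtain ⟨m, rfl⟩ : ∃ k, m = k + 1 := ⟨m - 1, by omega⟩
    obtain ⟨b, hb, h1⟩ := H79.exists_orthBasis_const hQ h2 (n := m * 2 + 1 + 1) (by omega)
      one_ne_zero
    have h3 := isPlus_iff_of_orthFam h2 hQ hb (m := m + 1) (by simp; omega)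
    rw [Fin.prod_univ_castSucc, Finset.prod_eq_one (fun i _ => h1 _ (Nat.succ_lt_succ i.2)), one_mul,
      H79.isSquare_mul_iff (pow_ne_zero _ (neg_ne_zero.2 one_ne_zero)) (hb.ne _)] at h3
    by_cases h4 : IsSquare (Q (b (Fin.last _)))
    · let e : Fin (m * 2 + 1 + 1) ≃ Fin ((m + 1) * 2 + 0) := finCongr (by omega)
      refine ea_sylow_of_basis' hF (by omega) (b.reindex e) ⟨fun i => ?_, fun i j hij => ?_⟩
        (fun i _ => ?_) (val_O_sq hF hQ hm (by simpa [h4] using h3)).le P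
      · rw [Basis.reindex_apply]; exact hb.ne _
      · rw [Basis.reindex_apply, Basis.reindex_apply]; exact hb.orth _ _ (e.symm.injective.ne hij)
      · rw [Basis.reindex_apply]
        rcases Fin.eq_castSucc_or_eq_last (e.symm i) with ⟨j, hj⟩ | hj
        · rw [hj, h1 _ (Nat.succ_lt_succ j.2)]; exact IsSquare.one
        · rwa [hj]
    · have h5 : 2 ≤ m := by
        rcases h with h | ⟨h, h'⟩
        · omega
        · obtain rfl : m = 1 := by omega
          exact absurd ((h3.1 h').1 ⟨1, by norm_num⟩) h4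
      exact ea_sylow_of_basis' hF h5 (k := 2) b hb
        (fun i hi => by rw [h1 i (by omega)]; exact IsSquare.one)
        (val_O_nonsq hF hQ hm (by simpa [h4] using h3)).le P
  · obtain ⟨b, hb, h1⟩ := H79.exists_orthBasis_const hQ h2 (n := m * 2 + 1) (by omega) one_ne_zero
    exact ea_sylow_of_basis' hF (by omega) b hb
      (fun i hi => by rw [h1 i (by omega)]; exact IsSquare.one) (val_O_odd hF hQ hm).le P

theorem ea_sylow_Omega {ι : Type} [Fintype ι] [DecidableEq ι] {Q : QuadraticForm F (ι → F)}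
    (hF : Odd (Fintype.card F)) (hQ : (polarBilin Q).Nondegenerate)
    (h : 5 ≤ Fintype.card ι ∨ (Fintype.card ι = 4 ∧ H79.IsPlus (F := F) Q))
    (P : Sylow 2 (Omega F ⇑Q)) : EA 2 (P : Subgroup (Omega F ⇑Q)) := by
  have : Finite (O Q) := Finite.of_injective (fun g : O Q => (g.1 : (ι → F) → _))
    fun _ _ h => H30.O_ext (congrFun h)
  exact ea_sylow_congr (H30.omegaEquivO Q).symm (ea_sylow_omega hF hQ (by simpa using h)) P

end Core

end Cfsg.Agent.H24
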