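import Mathlib
import Cfsg.Agent.H24.ElemAbO
import Cfsg.Agent.H24.Octo

/-!
# Sylow 2-subgroups of `SO₄⁺(q)` and `G₂(q)`, `q` odd: abelianization
-/

set_option autoImplicit false
set_option linter.unusedSectionVars false

namespace Cfsg.Agent.H24

open Cfsg Subgroup Module QuadraticMap
open H79 (Wr OrthFam diagO)
open H30 (O refl dickson)

variable {F : Type*} [Field F] [Fintype F]

theorem finite_O {V : Type*} [AddCommGroup V] [Module F V] [FiniteDimensional F V]
    (Q : QuadraticForm F V) : Finite (O Q) :=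
  have : Finite V := Module.finite_of_finite F
  Finite.of_injective (fun g : O Q => (g.1 : V → V)) fun _ _ h => H30.O_ext (congrFun h)

theorem ea_of_injective_of_val {G H : Type*} [Group G] [Group H] [Finite H] {p : ℕ} [Fact p.Prime]
    (f : G →* H) (hf : Function.Injective f) (hG : IsPGroup p G)
    (hval : padicValNat p (Nat.card H) ≤ padicValNat p (Nat.card G))
    (h : ∀ Q : Sylow p H, EA p (Q : Subgroup H)) : EA p G := by
  have h1 := isSylowIn_top_of_val (S := f.range) (hG.of_surjective _ f.rangeRestrict_surjective)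
    (by rwa [← Nat.card_congr (MonoidHom.ofInjective hf).toEquiv])
  exact ((ea_sylow_congr topEquiv.symm h h1.toSylow).of_equiv
    (subgroupOfEquivOfLe le_top)).of_equiv (MonoidHom.ofInjective hf).symm

theorem ea_sylow_so_qwr (hF : Odd (Fintype.card F)) {ι : Type} [Fintype ι] [DecidableEq ι]
    [Nontrivial ι] {w₀ : Fin 0 → F}
    (hQ : (polarBilin (qwr ι (qsq fun _ : Fin 2 => (1 : F)) (qsq w₀))).Nondegenerate)
    (hval : padicValNat 2 (Nat.card (O (qwr ι (qsq fun _ : Fin 2 => (1 : F)) (qsq w₀)))) ≤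
      Fintype.card ι * padicValNat 2 (Fintype.card F ^ 2 - 1) +
        padicValNat 2 (Fintype.card ι).factorial)
    (P : Sylow 2 (dickson hQ).ker) : EA 2 (P : Subgroup (dickson hQ).ker) := by
  classical
  revert P
  have h2 : (2 : F) ≠ 0 := H79.two_ne_zero_of_odd_card hF
  set QW : QuadraticForm F (Fin 2 → F) := qsq fun _ : Fin 2 => (1 : F) with hQW
  have hW : (polarBilin QW).Nondegenerate := qsq_nondegenerate h2 fun _ => one_ne_zero
  have hw₀ : ∀ j, w₀ j ≠ 0 := fun j => j.elim0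
  have hd : finrank F (Fin 2 → F) = 2 := by simp
  have := finite_O QW
  have := finite_O (qwr ι QW (qsq w₀))
  set K := (dickson hQ).ker with hK
  have hc : commutator _ ≤ K := Abelianization.commutator_subset_ker _
  obtain ⟨D⟩ : Nonempty (Sylow 2 (O QW)) := inferInstance
  obtain ⟨T⟩ : Nonempty (Sylow 2 (Equiv.Perm ι)) := inferInstance
  obtain ⟨i₀, j₀, hij⟩ := exists_pair_ne ι
  set ψ := (wrO ι QW (qsq w₀)).comp ((wrMap ι (D : Subgroup (O QW)).subtype).prodMap
    (diagO (orthFam_qsq hw₀))) with hψ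
  have hb : ∀ i (d : D) w, d.1 = refl QW w →
      wb ψ i d = refl (qwr ι QW (qsq w₀)) (Pi.single i w, 0) := fun i d w h => by
    rw [hψ, wb_comp, ← wb_wrO_refl, ← h]; rfl
  have hsq : ∀ (d : D) w, d.1 = refl QW w → d ^ 2 = 1 := fun d w h =>
    Subtype.ext (by rw [pow_two]; change d.1 * d.1 = 1; rw [h, H30.refl_mul_self])
  have hY : ∀ i j (a b : D) v w, i ≠ j → QW v ≠ 0 → QW w ≠ 0 → a.1 = refl QW v →
      b.1 = refl QW w → wb ψ i a * wb ψ j b ∈ powSub 2 (wS ψ T ⊓ K) := by
    intro i j a b v w hne hv hw ha hb'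
    refine mul_mem_powSub_two (mem_inf.2 ⟨mul_mem (wb_mem _ _ _ _) (wb_mem _ _ _ _), ?_⟩) ?_ ?_
      (commute_wb_wb ψ hne a b)
    · rw [hK, hb i a v ha, hb j b w hb', MonoidHom.mem_ker, map_mul,
        H30.dickson_refl hQ (by rwa [qwr_single]), H30.dickson_refl hQ (by rwa [qwr_single])]
      simp
    · rw [← map_mul, ← pow_two, hsq a v ha, map_one]
    · rw [← map_mul, ← pow_two, hsq b w hb', map_one]
  have hb1 : ∀ i (d : D) w, d.1 = refl QW w →
      wb ψ i d ∈ powSub 2 (wS ψ T ⊓ K) ⊔ (wb ψ i₀).range := fun i d w h =>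
    mem_sup_of_mul_inv_mem (mem_powSub_of_pow_eq_one (mem_inf.2 ⟨mul_mem (wb_mem _ _ _ _)
      (inv_mem (wb_mem _ _ _ _)), hc (wb_mul_inv_mem_commutator ψ i i₀ d)⟩)
      (wb_mul_inv_pow ψ i i₀ (hsq d w h))) ⟨d, rfl⟩
  refine ea_sylow_of_wr ψ (comp_wrMap_injective wrO_injective Subtype.val_injective
    (H79.diagO_injective h2 _)) D.isPGroup' (fun e => ⟨1, funext fun j => Int.units_sq _⟩) T ?_ K
    (wb ψ i₀).range ?_ ?_ ?_ ?_ ?_
  · have h3 := val_O_sq (m := 0) hF hW hd (by
      rw [isPlus_iff_of_orthFam h2 hW (orthFam_qsq fun _ => one_ne_zero) (m := 1) (by simp)]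
      simp only [hQW, qsq_basisFun]
      simp)
    rw [val_card_sylow, h3, Nat.card_eq_fintype_card (α := ι), zero_add, one_mul,
      Nat.factorial_one, padicValNat_one_right, add_zero]
    exact hval.trans (Nat.le_add_right _ _)
  · rintro _ ⟨d, rfl⟩; exact wb_mem _ _ _ _
  · rintro _ ⟨⟨d, rfl⟩, hd'⟩
    replace hd' : wb ψ i₀ d ∈ K := hd'
    rcases refl_or_mul_refl hW hd D d with ⟨w, hw, h⟩ | ⟨a, b, ⟨v, hv, ha⟩, ⟨w, hw, hb'⟩, rfl⟩
    · rw [hb i₀ d w h, hK, MonoidHom.mem_ker, H30.dickson_refl hQ (by rwa [qwr_single])] at hd'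
      exact absurd hd' (by decide)
    · have := mul_mem (hY i₀ j₀ a b v w hij hv hw ha hb') (hY j₀ i₀ b b w w hij.symm hw hw hb' hb')
      rwa [mul_assoc, ← mul_assoc (wb ψ j₀ b), ← map_mul, ← pow_two, hsq b w hb', map_one,
        one_mul, ← map_mul] at this
  · intro i d
    rcases refl_or_mul_refl hW hd D d with ⟨w, hw, h⟩ | ⟨a, b, ⟨v, hv, ha⟩, ⟨w, hw, hb'⟩, rfl⟩
    · exact hb1 i d w h
    · rw [map_mul]; exact mul_mem (hb1 i a v ha) (hb1 i b w hb')
  · intro e
    rw [Subsingleton.elim e 1, map_one]; exact one_mem _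
  · intro t ht
    clear ht
    rw [hψ, ws_comp]
    induction t using Equiv.Perm.swap_induction_on with
    | one => rw [map_one]; exact one_mem _
    | swap_mul g x y hxy ih =>
      rw [map_mul]
      refine mul_mem ?_ ih
      obtain ⟨h3, h4⟩ := ws_wrO_swap (Q₀ := qsq w₀) h2 hxy
      rw [h3]
      exact hc (H30.refl_mul_refl_mem_commutator hQ (by rwa [h4]) (by rw [h4, h4]))

theorem three_le_val_sq_sub_one {q : ℕ} (h1 : 1 < q) (hq : Odd q) :
    3 ≤ padicValNat 2 (q ^ 2 - 1) := by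
  have h2 : q ^ 2 - 1 ≠ 0 := Nat.sub_ne_zero_of_lt (Nat.one_lt_pow two_ne_zero h1)
  rw [← padicValNat_dvd_iff_le h2]
  obtain ⟨k, rfl⟩ := hq
  obtain ⟨c, hc⟩ := Nat.even_mul_succ_self k
  exact ⟨c, by rw [show (2 * k + 1) ^ 2 = 4 * (k * (k + 1)) + 1 by ring, hc]; omega⟩

/-- A large 2-subgroup of `SO₄(q)` is a Sylow 2-subgroup of `SO₄⁺(q)`. -/
theorem ea_of_le_so_four (hF : Odd (Fintype.card F)) {V : Type*} [AddCommGroup V] [Module F V]
    [FiniteDimensional F V] {Q : QuadraticForm F V} (hQ : (polarBilin Q).Nondegenerate)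
    (hV : finrank F V = 4) {G : Type*} [Group G] (hG : IsPGroup 2 G) (f : G →* O Q)
    (hf : Function.Injective f) (hd : ∀ g, dickson hQ (f g) = 1)
    (hval : 2 * padicValNat 2 (Fintype.card F ^ 2 - 1) ≤ padicValNat 2 (Nat.card G)) : EA 2 G := by
  have h2 : (2 : F) ≠ 0 := H79.two_ne_zero_of_odd_card hF
  have := finite_O Q
  obtain ⟨b, hb, h1⟩ := H79.exists_orthBasis_const hQ h2 hV one_ne_zero
  have h3 := isPlus_iff_of_orthFam h2 hQ hb (m := 2) (by simp)
  rw [Fin.prod_univ_four, h1 0 (by decide), h1 1 (by decide), h1 2 (by decide), one_mul, one_mul,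
    one_mul, H79.isSquare_mul_iff (pow_ne_zero _ (neg_ne_zero.2 one_ne_zero)) (hb.ne _)] at h3
  have h4 : IsSquare (Q (b 3)) := by
    by_contra h4
    have h5 := val_O_nonsq hF hQ (m := 1) hV (by simpa [h4] using h3)
    have h6 := val_le_of_injective (p := 2) f hf
    have h7 := three_le_val_sq_sub_one Fintype.one_lt_card hF
    simp at h5
    omega
  have h5 := val_O_sq hF hQ (m := 1) hV (by simpa [h4] using h3)
  obtain ⟨r, hr⟩ := h4
  have h0 : r ≠ 0 := by rintro rfl; exact hb.ne 3 (by rw [hr, mul_zero])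
  let u : Fin 4 → Fˣ := fun i => if i = 3 then (Units.mk0 r h0)⁻¹ else 1
  let e : (Fin 2 × Fin 2) ⊕ Fin 0 ≃ Fin 4 :=
    (Equiv.sumCongr finProdFinEquiv (Equiv.refl _)).trans finSumFinEquiv
  let c := (b.unitsSMul u).reindex e.symm
  have hc : ∀ x, c x = (u (e x) : F) • b (e x) := fun x => by
    rw [Basis.reindex_apply, Equiv.symm_symm, Basis.unitsSMul_apply, Units.smul_def]
  have hc1 : ∀ x, Q (c x) = 1 := fun x => by
    rw [hc, QuadraticMap.map_smul]
    by_cases h : e x = 3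
    · simp only [u, h, if_true, hr]; simp; field_simp
    · simp [u, h, h1 (e x) (by omega)]
  have hc2 : OrthFam Q c := ⟨fun x => by rw [hc1]; exact one_ne_zero, fun x y hxy => by
    rw [hc, hc, polar_smul_left, polar_smul_right, hb.orth _ _ (e.injective.ne hxy), smul_zero,
      smul_zero]⟩
  let L : V ≃ₗ[F] (Fin 2 → Fin 2 → F) × (Fin 0 → F) :=
    c.equivFun ≪≫ₗ LinearEquiv.sumArrowLequivProdArrow _ _ F F ≪≫ₗ
      (LinearEquiv.curry F F (Fin 2) (Fin 2)).prodCongr (LinearEquiv.refl F _)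
  let E : Q.IsometryEquiv (qwr (Fin 2) (qsq fun _ : Fin 2 => (1 : F)) (qsq fun _ : Fin 0 => 1)) :=
    ⟨L, fun v => by
      rw [Q_eq_sum_of_orthFam hc2 v, Fintype.sum_sum_type, Fintype.sum_prod_type, qwr_apply]
      simp only [qsq_apply, hc1]
      rfl⟩
  have hQ' := qwr_nondegenerate (ι := Fin 2) (qsq_nondegenerate h2 fun _ : Fin 2 => one_ne_zero)
    (qsq_nondegenerate h2 fun _ : Fin 0 => one_ne_zero)
  have := finite_O (qwr (Fin 2) (qsq fun _ : Fin 2 => (1 : F)) (qsq fun _ : Fin 0 => 1))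
  rw [Nat.card_congr (H30.OCongr E).toEquiv] at h5
  refine ea_of_injective_of_val (((H30.OCongr E).toMonoidHom.comp f).codRestrict (dickson hQ').ker
    fun g => (H30.dickson_OCongr E hQ hQ' _).trans (hd g))
    (fun _ _ h => hf ((H30.OCongr E).injective (congrArg Subtype.val h))) hG ?_
    (ea_sylow_so_qwr hF hQ' (by simpa using h5.le))
  rw [← (dickson hQ').ker.card_mul_index, H30.index_ker_dickson, padicValNat.mul Nat.card_pos.ne'
    two_ne_zero, padicValNat_self, show Nat.factorial (1 + 1) = 2 from rfl, padicValNat_self] at h5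
  omega

theorem val_autZ (hF : Odd (Fintype.card F)) [Finite (autZ F)] :
    2 * padicValNat 2 (Fintype.card F ^ 2 - 1) ≤ padicValNat 2 (Nat.card (autZ F)) := by
  classical
  have h1 : 1 < Fintype.card F := Fintype.one_lt_card
  have h2 := congrArg (padicValNat 2) (card_pairGL (F := F))
  rw [padicValNat.mul Nat.card_pos.ne' Nat.card_pos.ne',
    padicValNat.mul Nat.card_pos.ne' Nat.card_pos.ne', H79.val_card_GL hF,
    Finset.prod_range_succ, Finset.prod_range_one, padicValNat.mul (by simp; omega)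
      (Nat.sub_ne_zero_of_lt (Nat.one_lt_pow (by omega) h1)), ← (cdHom F).ker.card_mul_index,
    index_ker, padicValNat.mul Nat.card_pos.ne' Nat.card_pos.ne'] at h2
  have h3 := val_le_of_injective (p := 2) (cdHom F).range.subtype Subtype.val_injective
  have h4 : padicValNat 2 (Nat.card (cdHom F).ker) ≤ padicValNat 2 (Nat.card Fˣ) := by
    rw [← padicValNat_dvd_iff_le Nat.card_pos.ne']
    exact pow_padicValNat_dvd.trans card_ker_cdHom_dvd
  rw [Nat.card_eq_fintype_card (α := Fˣ), Fintype.card_units] at h2 h4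
  simp only [zero_add, pow_one, Nat.reduceAdd] at h2
  omega

theorem ea_sylow_autZ (hF : Odd (Fintype.card F)) [Finite (autZ F)] (P : Sylow 2 (autZ F)) :
    EA 2 (P : Subgroup (autZ F)) := by
  have h2 : (2 : F) ≠ 0 := H79.two_ne_zero_of_odd_card hF
  rcases subsingleton_or_nontrivial (P : Subgroup (autZ F)) with h | h
  · exact ea_of_pow_eq_one fun _ => Subsingleton.elim _ _
  have h3 := P.isPGroup'.center_nontrivial
  obtain ⟨n, hn, hn'⟩ := (P.isPGroup'.to_subgroup (center _)).nontrivial_iff_card.1 h3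
  obtain ⟨z, hz⟩ := exists_prime_orderOf_dvd_card' (G := center (P : Subgroup (autZ F))) 2
    (hn' ▸ dvd_pow_self 2 hn.ne')
  have hz1 : z.1.1 ≠ 1 := fun h => by
    rw [show z = 1 from Subtype.ext (Subtype.ext h), orderOf_one] at hz
    exact absurd hz (by decide)
  have hz2 : z.1.1 * z.1.1 = 1 := by
    have := pow_orderOf_eq_one z
    rw [hz, pow_two] at this
    exact congrArg (fun x => x.1.1) this
  have hle : (P : Subgroup (autZ F)) ≤ centralizer {z.1.1} := fun g hg =>
    mem_centralizer_singleton_iff.2 (congrArg Subtype.val (mem_center_iff.1 z.2 ⟨g, hg⟩))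
  have hQ := (nondegOn_negSp h2 hz2).restrict
  have hV := finrank_negSp h2 hz2 hz1
  obtain ⟨u, hu, -⟩ := H79.exists_orthBasis_const hQ h2 hV one_ne_zero
  refine ea_of_le_so_four hF hQ hV P.isPGroup' ((resNeg z.1.1).comp (inclusion hle))
    ((resNeg_injective h2 hz2 hz1).comp (inclusion_injective hle)) (fun g => ?_)
    (by rw [val_card_sylow]; exact val_autZ hF)
  exact (H30.det_eq_one_iff_dickson hQ h2 _).1 (det_resNeg h2 hz2 u hu.ne
    (fun i j hij => (H30.polar_restrict _ _ _).symm.trans (hu.orth i j hij)) _)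

theorem ea_sylow_G2 (hF : Odd (Fintype.card F)) (P : Sylow 2 (Lie.G2 F)) :
    EA 2 (P : Subgroup (Lie.G2 F)) := by
  have : Finite (autZ F) := Finite.of_equiv _ (g2Equiv F).toEquiv
  exact ea_sylow_congr (g2Equiv F).symm (ea_sylow_autZ hF) P

end Cfsg.Agent.H24
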