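import Cfsg.Agent.H93.LT3Defs
import Cfsg.Agent.S1695
import Cfsg.Agent.H48.Simple
import Cfsg.Agent.H42.Out
import Cfsg.Agent.S0242
import Cfsg.Agent.S0245
import Cfsg.Agent.S0246
import Cfsg.Agent.S0254
import Cfsg.Agent.S0280
import Cfsg.Agent.H28.PSL2Small

/-! Identification of the component and of the simple group by orders. -/

set_option autoImplicit false

namespace Cfsg.Agent.H24.LT3

open Subgroup Cfsg.Agent.H85 Cfsg.Agent.H93.LT

universe u

theorem card_psp (F : Type) [Field F] [Fintype F] (hF : Fintype.card F = 4) :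
    Nat.card (Cfsg.PSp 2 F) = 979200 := by
  have h1 := S0245.result hF 2
  have h3 := S0246.result hF 2 (by norm_num)
  have h5 := card_eq_card_quotient_mul_card_subgroup (center (Matrix.symplecticGroup (Fin 2) F))
  rw [h3, h1] at h5
  simp only [Finset.prod_range_succ, Finset.prod_range_zero] at h5
  norm_num at h5
  exact h5.symm

theorem card_u5 (F : Type) [Field F] [Fintype F] (hF : Fintype.card F = 4) :
    Nat.card (Cfsg.PSU 5 F 2) = 13685760 := by
  have := S0280.result (q := 2) hF 5 (by norm_num)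
  simp only [Finset.prod_range_succ] at this
  norm_num at this
  omega

theorem card_sl5 : Nat.card (Matrix.SpecialLinearGroup (Fin 5) (ZMod 2)) = 9999360 := by
  have := S0242.result (F := ZMod 2) (q := 2) (by simp) 5 (by norm_num)
  generalize Nat.card (Matrix.SpecialLinearGroup (Fin 5) (ZMod 2)) = n at this ⊢
  revert this
  simp [Fin.prod_univ_succ]

theorem qchk : ∀ N ∈ [979200, 13685760, 9999360, 4030387200, 44352000], ∀ q < 2100,
    (q % 16 = 7 ∨ q % 16 = 9) → (2 * N) % (q * (q ^ 2 - 1)) = 0 → q = 7 ∨ q = 9 := by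
  decide +kernel

theorem qcase {N q n : ℕ} (hN : N ∈ [979200, 13685760, 9999360, 4030387200, 44352000])
    (hq : q % 16 = 7 ∨ q % 16 = 9) (h : 2 * n = q * (q ^ 2 - 1)) (hd : n ∣ N) : q = 7 ∨ q = 9 := by
  have d : q * (q ^ 2 - 1) ∣ 2 * N := h ▸ mul_dvd_mul_left 2 hd
  refine qchk N hN q ?_ hq (Nat.mod_eq_zero_of_dvd d)
  by_contra c
  have h1 : 2100 ≤ q := not_lt.1 c
  have h2 : 2100 ^ 2 - 1 ≤ q ^ 2 - 1 := Nat.sub_le_sub_right (Nat.pow_le_pow_left h1 2) 1
  have h3 := Nat.mul_le_mul h1 h2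
  have h4 : 0 < N ∧ N ≤ 4030387200 := by
    simp only [List.mem_cons, List.not_mem_nil, or_false] at hN
    omega
  have := Nat.le_of_dvd (by omega) d
  omega

variable {G : Type u} [Group G] [Finite G]

omit [Finite G] in
theorem quot_card {h : H93.LT.Top G} {L : Type} [Group L] (q : h.Quot L) :
    Nat.card h.K = Nat.card L * Nat.card h.O := by
  obtain ⟨φ, s, k⟩ := q
  rw [card_eq_card_quotient_mul_card_subgroup φ.ker,
    Nat.card_congr (QuotientGroup.quotientKerEquivOfSurjective φ s).toEquiv, k,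
    Nat.card_congr (subgroupOfEquivOfLe h.OK).toEquiv]

omit [Finite G] in
theorem quot_congr {h : H93.LT.Top G} {L M : Type} [Group L] [Group M] (q : h.Quot L) (e : L ≃* M) :
    h.Quot M := by
  obtain ⟨φ, s, k⟩ := q
  refine ⟨e.toMonoidHom.comp φ, e.surjective.comp s, ?_⟩
  rw [← k]; ext x; simp

omit [Finite G] in
theorem odd_O (h : H93.LT.Top G) {o : G} (ho : o ∈ h.O) : Odd (orderOf o) :=
  Odd.of_dvd_nat h.Oo (orderOf_dvd_natCard h.O ho)

omit [Finite G] in
theorem one_O (h : H93.LT.Top G) {o : G} (ho : o ∈ h.O) (h2 : o * o = 1) : o = 1 := by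
  have d : orderOf o ∣ 2 := orderOf_dvd_of_pow_eq_one (by rw [sq, h2])
  rcases (Nat.dvd_prime Nat.prime_two).1 d with e | e
  · exact orderOf_eq_one_iff.1 e
  · exact absurd (e ▸ odd_O h ho) (by decide)

theorem no24 (h : H93.LT.Top G) (k : Hyp G) (K : Kit k) (f : Fit h k) (KX : h.K ≤ h.X) (tX : h.t ∉ h.X)
    (c32 : Nat.card k.T = 32) (e : h.X ≃* Cfsg.M24) : False := by
  have eX : k.X = h.X := congrArg Base.X f.base
  have et : k.t = h.t := congrArg Base.t f.base
  have := h.Xn
  have := h.Xs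
  let e' : h.X ≃* (⊤ : Subgroup Cfsg.M24) := e.trans topEquiv.symm
  obtain ⟨d, -, hd⟩ := H42.aut24 ((e'.symm.trans (MulAut.conjNormal h.t)).trans e')
  set x : h.X := e.symm d with hx
  have key : ∀ y ∈ h.X, h.t * y * h.t⁻¹ = x * y * (x : G)⁻¹ := fun y hy => by
    have a := hd (e' ⟨y, hy⟩)
    have b : e (MulAut.conjNormal h.t ⟨y, hy⟩) = e (x * ⟨y, hy⟩ * x⁻¹) := by
      simpa [e', hx] using a
    simpa using congrArg Subtype.val (e.injective b)
  have cX : ∀ y ∈ h.X, Commute ((x : G)⁻¹ * h.t) y := fun y hy => by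
    have := key y hy
    calc (x : G)⁻¹ * h.t * y = (x : G)⁻¹ * (h.t * y * h.t⁻¹) * h.t := by group
      _ = y * ((x : G)⁻¹ * h.t) := by rw [this]; group
  set c : G := (x : G)⁻¹ * h.t with hc
  have ct : Commute c h.t := by
    have : h.t = x * c := by rw [hc]; group
    rw [this]
    exact (cX _ x.2).mul_right (Commute.refl c)
  have nX : c ∉ h.X := fun m => tX (by simpa [hc] using mul_mem x.2 m)
  have cc : c * c = 1 := by
    have m : c * c ∈ h.X := eX ▸ K.sqX c
    have z : (⟨c * c, m⟩ : h.X) ∈ center h.X := mem_center_iff.2 fun y =>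
      Subtype.ext ((cX _ y.2).mul_left (cX _ y.2)).symm.eq
    rcases h.Xs.eq_bot_or_eq_top_of_normal (center h.X) inferInstance with b | b
    · rw [b, mem_bot] at z
      exact congrArg Subtype.val z
    · exact absurd ⟨⟨fun p q => (mem_center_iff.1 (b ▸ mem_top q : q ∈ center h.X) p)⟩⟩ h.Xa
  have m := h.cen c (mem_centralizer_singleton_iff.2 ct.eq) fun y hy => by
    rw [mul_assoc, mul_assoc, (cX _ (KX hy)).eq]; simp
  obtain ⟨o, ho, w, hw, e1⟩ := (mem_sup_of_le_normalizer (A := h.O) (B := zpowers h.t)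
    ((zpowers_le.2 (mem_centralizer_singleton_iff.2 rfl)).trans h.On)).1 m
  have ti : h.t⁻¹ = h.t := inv_eq_of_mul_eq_one_right h.tt
  have hw' : w = 1 ∨ w = h.t := by
    obtain ⟨n, rfl⟩ := mem_zpowers_iff.1 hw
    have t2 : h.t ^ (2 : ℤ) = 1 := by rw [zpow_two, h.tt]
    rcases Int.even_or_odd' n with ⟨j, rfl | rfl⟩
    · left; rw [zpow_mul, t2, one_zpow]
    · right; rw [zpow_add, zpow_mul, t2, one_zpow, one_mul, zpow_one]
  rcases hw' with rfl | rfl
  · exact nX (by rw [← e1, mul_one]; exact KX (h.OK ho))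
  have o1 : o = 1 := one_O h ho (by
    have : o = c * h.t := by rw [← e1, mul_assoc, h.tt, mul_one]
    rw [this]
    calc c * h.t * (c * h.t) = c * (h.t * c) * h.t := by group
      _ = (c * c) * (h.t * h.t) := by rw [← ct.eq]; group
      _ = 1 := by rw [cc, h.tt, mul_one])
  rw [o1, one_mul] at e1
  have top : centralizer ({h.t} : Set G) = ⊤ := by
    rw [eq_top_iff, ← h.XG]
    refine sup_le (fun y hy => mem_centralizer_singleton_iff.2 ?_)
      (zpowers_le.2 (mem_centralizer_singleton_iff.2 rfl))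
    exact (e1 ▸ cX y hy : Commute h.t y).symm.eq
  have s := k.syl
  rw [et, top] at s
  have := (K.big _ s).trans (card_le_of_le inf_le_left)
  omega

theorem idStmt (hc : CoreStmt.{u}) (hk : KitStmt.{u}) (i7 : Id7Stmt.{u}) (a7 : IdA7Stmt.{u})
    (l5 : IdL5Stmt) (a6 : IdA6Stmt.{u}) (he : He5Stmt) : IdStmt.{u} := by
  intro G _ _ h hq
  obtain ⟨k, b1, b2, b3, b4, b5, b6, con⟩ := hc G h
  have f : Fit h k := ⟨b1, b2, b3, b4, b5, b6⟩
  have K := hk G k
  have eX : k.X = h.X := congrArg Base.X f.base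
  have et : k.t = h.t := congrArg Base.t f.base
  have := h.Xn
  have KX : h.K ≤ h.X := by
    rcases h.sim (h.K ⊓ h.X) (le_inf h.OK fun o ho => eX ▸ K.odX o (odd_O h ho)) inf_le_left
      (le_normalizer_inf le_normalizer (le_normalizer_of_normal)) with e | e
    · have a1 := one_O h (e.le ⟨f.a, eX ▸ K.aX.1⟩) k.aa
      have := k.ab
      rw [a1] at this
      exact absurd (by simpa [cn] using this.symm) k.z1
    · exact e.ge.trans inf_le_right
  have dv : ∀ {L : Type} [Group L], h.Quot L → Nat.card L ∣ Nat.card h.X := fun q =>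
    (Dvd.intro _ (quot_card q).symm).trans (card_dvd_of_le KX)
  have c7 : Nat.card (alternatingGroup (Fin 7)) = 2520 := by
    rw [nat_card_alternatingGroup]; simp [Nat.factorial]
  have red : Nat.card h.X ∈ [979200, 13685760, 9999360, 4030387200, 44352000] →
      h.Quot (alternatingGroup (Fin 6)) ∨ h.Quot (alternatingGroup (Fin 7)) := fun hN => by
    rcases hq with ⟨F, _, _, hF, q⟩ | q
    · have h1 := H28.card_PSL2 (F := F) rfl
      rw [Nat.gcd_eq_left (by omega)] at h1
      rcases qcase hN hF h1 (dv q) with e | e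
      · refine absurd ((quot_card q).trans ?_) (i7 G h k f)
        rw [e] at h1
        congr 1
        change 2 * Nat.card (L2 F) = _ at h1
        omega
      · obtain ⟨g⟩ := S0254.result e
        exact Or.inl (quot_congr q g)
    · exact Or.inr q
  rw [eX, et] at con
  rcases con with ⟨tX, c32, con⟩ | ⟨top, c64, ⟨g⟩, ex⟩
  · have e1 : k.e = 1 := by
      rcases K.cT with ⟨c, -⟩ | ⟨-, -, c⟩
      exacts [c, by omega]
    rcases con with ⟨F, i1, i2, hF, ⟨⟨g⟩⟩ | ⟨⟨g⟩⟩⟩ | ⟨⟨g⟩⟩ | ⟨⟨g⟩⟩ | ⟨⟨g⟩⟩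
    · have c := (Nat.card_congr g.toEquiv).trans (card_psp F hF)
      rcases red (by simp [c]) with q | q
      · exact Or.inr (Or.inl ⟨q, tX, Or.inl ⟨F, i1, i2, hF, Or.inl ⟨g⟩⟩⟩)
      · exact absurd (dv q) (by rw [c, c7]; norm_num)
    · have c := (Nat.card_congr g.toEquiv).trans (card_u5 F hF)
      rcases red (by simp [c]) with q | q
      · exact Or.inr (Or.inl ⟨q, tX, Or.inl ⟨F, i1, i2, hF, Or.inr ⟨g⟩⟩⟩)
      · exact absurd (dv q) (by rw [c, c7]; norm_num)
    · have c := (Nat.card_congr g.toEquiv).trans card_sl5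
      rcases red (by simp [c]) with q | q
      · exact Or.inr (Or.inl ⟨q, tX, Or.inr ⟨g⟩⟩)
      · obtain ⟨x, hx, o⟩ := (a7 G h k f q).2 tX
        exact absurd ((g.orderOf_eq ⟨x, hx⟩).trans ((orderOf_mk _ _).trans o)) (l5 _)
    · exact (no24 h k K f KX tX c32 g).elim
    · have c := (Nat.card_congr g.toEquiv).trans S1695.result.2
      rcases red (by simp [c]) with q | q
      · obtain ⟨x, hx, o, n⟩ := a6 G h k f q e1 tX
        obtain ⟨i, i1, i2, i3⟩ := he (g ⟨x, hx⟩)
          ((g.orderOf_eq ⟨x, hx⟩).trans ((orderOf_mk _ _).trans o))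
        refine absurd (g.symm.injective (Subtype.ext ?_)) i1
        rw [map_one]
        refine n _ (g.symm i).2 (congrArg Subtype.val (by rw [← map_mul, i2, map_one] :
          g.symm i * g.symm i = 1)) ?_
        simpa using (i3.map g.symm).map h.X.subtype
      · exact Or.inr (Or.inr ⟨q, tX, ⟨g⟩⟩)
  · have c : Nat.card h.X = 44352000 := by
      rw [top, card_top, Nat.card_congr g.toEquiv, H48.card_HS]
    rcases red (by simp [c]) with q | q
    · exact Or.inl ⟨q, top, ⟨g⟩, c64 ▸ et ▸ card_dvd_of_le k.syl.le, ex⟩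
    · rcases K.cT with ⟨-, d⟩ | ⟨d, -⟩
      · rw [d, K.cT0] at c64; omega
      · exact absurd (a7 G h k f q).1 d

end Cfsg.Agent.H24.LT3
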