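import Mathlib
import Cfsg.Agent.H17.KnDef2

/-!
The sixteen cocycles of `L₃(2)` with values in the three-dimensional module.
-/

set_option autoImplicit false
set_option maxRecDepth 100000
set_option synthInstance.maxSize 100000

namespace Cfsg.Agent.H24.KnL

open Equiv Subgroup Cfsg.Agent.H11.A16 Cfsg.Agent.H17.Kn

universe u

/-- vectors -/
abbrev V3 : Type := Fin 3 → ZMod 2

/-- test elements -/
def tt (a : Fin 3) : N2 := ![dl 6 * dl 7, dl 5 * dl 7, dl 3 * dl 7] a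

/-- the action on characters -/
def act (k : N2) (l : V3) : V3 := fun a => ch l (k * tt a * k⁻¹)

/-- the generators -/
def gn (g : Fin 5) : N2 := ![xe 1 2, xe 2 3, xe 2 1, xe 3 2, xe 1 3] g

/-- their matrices -/
def mx (g : Fin 5) (l : V3) : V3 :=
  ![![l 0, l 0 + l 1, l 2], ![l 0, l 1, l 1 + l 2], ![l 0 + l 1, l 1, l 2], ![l 0, l 1 + l 2, l 2],
    ![l 0, l 1, l 0 + l 2]] g

/-- words -/
def wd : List (Fin 5) → N2
  | [] => 1
  | g :: w => wd w * gn g

/-- the value of a cocycle on a word -/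
def lw : List (Fin 5 × V3) → V3
  | [] => 0
  | g :: w => g.2 + mx g.1 (lw w)

theorem tt_mem : ∀ a, tt a ∈ EE := by decide +kernel

theorem ch_tt : ∀ (l : V3) a, ch l (tt a) = l a := by decide +kernel

theorem gn_mem : ∀ g, gn g ∈ QK := by decide +kernel

theorem act_gn : ∀ g (l : V3), act (gn g) l = mx g l := by decide +kernel

theorem act_q : ∀ l : V3, act (xe 0 1) l = l ∧ act (xe 3 4) l = l := by decide +kernel

theorem mem_q : xe 0 1 ∈ QQ ∧ xe 3 4 ∈ QQ ∧ xe 1 4 ∈ QQ ∧ (∀ j, xe 0 j ∈ QQ) ∧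
    ∀ j, 2 ≤ j → xe 0 j ∈ U1 ∧ xe 1 j ∈ U1 := by decide +kernel

theorem rels : wd [0, 0] = 1 ∧ wd [1, 1] = 1 ∧ wd [2, 2] = 1 ∧ wd [3, 3] = 1 ∧
    wd [0, 2, 0, 2, 0, 2] = 1 ∧ wd [1, 3, 1, 3, 1, 3] = 1 ∧ wd [0, 3, 0, 3] = 1 ∧
    wd [1, 2, 1, 2] = 1 ∧ wd [2, 0, 1, 0, 1, 2, 1, 0, 1, 0, 1] = 1 ∧
    wd [0, 1, 0, 1, 3, 1, 0, 1, 0, 3, 0] = 1 ∧ wd [0, 1, 0, 1] = xe 1 3 := by decide +kernel

theorem fin16 : ∀ A : V3, lw [(0, A), (0, A)] = 0 → ∀ B : V3, lw [(1, B), (1, B)] = 0 →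
    ∀ C : V3, lw [(2, C), (2, C)] = 0 →
    lw [(0, A), (2, C), (0, A), (2, C), (0, A), (2, C)] = 0 →
    lw [(1, B), (2, C), (1, B), (2, C)] = 0 →
    lw [(2, C), (0, A), (1, B), (0, A), (1, B), (2, C), (1, B), (0, A), (1, B), (0, A), (1, B)] = 0 →
    ∀ D : V3, lw [(3, D), (3, D)] = 0 →
    lw [(1, B), (3, D), (1, B), (3, D), (1, B), (3, D)] = 0 →
    lw [(0, A), (3, D), (0, A), (3, D)] = 0 →
    lw [(0, A), (1, B), (0, A), (1, B), (3, D), (1, B), (0, A), (1, B), (0, A), (3, D), (0, A)] = 0 →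
    A 0 = 0 ∧ lw [(0, A), (1, B), (0, A), (1, B)] 0 = 0 ∧ ∃ l : V3,
      (A = l + mx 0 l + 0 ∧ B = l + mx 1 l + 0 ∧ C = l + mx 2 l + 0 ∧ D = l + mx 3 l + 0) ∨
      (A = l + mx 0 l + ![0, 0, 1] ∧
        lw [(0, A), (1, B), (0, A), (1, B)] = l + mx 4 l + ![0, 1, 1] ∧
        B = l + mx 1 l + ![1, 0, 0] ∧ C = l + mx 2 l + ![1, 0, 1]) := by
  decide +kernel

theorem ch_add (l m : V3) (e : N2) : ch (l + m) e = ch l e + ch m e := by
  simp only [ch, Pi.add_apply]; ring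

theorem ch_zero (e : N2) : ch 0 e = 0 := by simp [ch]

theorem cf_E1 {e : N2} (he : e ∈ E1) : cf 1 e = 0 ∧ cf 2 e = 0 := by
  have h := he.2.2.2
  have h0 : e.f 1 = e.f 0 := h 0
  have h2 : e.f 3 = e.f 2 := h 2
  have h4 : e.f 5 = e.f 4 := h 4
  constructor
  · have : cf 1 e = e.f 0 + e.f 1 + 0 + 0 + e.f 4 + e.f 5 + 0 + 0 := by
      rw [cf, Fin.sum_univ_eight]; rfl
    rw [this, h0, h4]
    generalize e.f 0 = a; generalize e.f 4 = b; revert a b; decide
  · have : cf 2 e = e.f 0 + e.f 1 + e.f 2 + e.f 3 + 0 + 0 + 0 + 0 := by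
      rw [cf, Fin.sum_univ_eight]; rfl
    rw [this, h0, h2]
    generalize e.f 0 = a; generalize e.f 2 = b; revert a b; decide

theorem ch_act (m2 : Mod2) (m3 : Mod3) {k : N2} (hk : k ∈ QK) (l : V3) {e : N2} (he : e ∈ EE) :
    ch l (k * e * k⁻¹) = ch (act k l) e := by
  obtain ⟨l', hl'⟩ := m3.chs (fun e => ch l (k * e * k⁻¹)) (fun e he e' he' => by
    rw [← (m3.chm l).1 _ ((m2.nrm k).2.1 e he) _ ((m2.nrm k).2.1 e' he')]
    congr 1
    group) fun b hb => (m3.chm l).2 _ (((m2.nrm k).2.2.2.1 hk).2 b hb)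
  have : act k l = l' := funext fun a => (hl' _ (tt_mem a)).trans (ch_tt l' a)
  rw [this]
  exact hl' e he

theorem wd_mem : ∀ w, wd w ∈ QK
  | [] => one_mem _
  | g :: w => mul_mem (wd_mem w) (gn_mem g)

theorem la2 (hB : Base.{u}) : La2Stmt := by
  intro lam hc hq
  have m2 := hB.m2
  have m3 := hB.m3
  have QK0 : QQ ≤ QK := inf_le_right
  have q0 : ∀ q ∈ QQ, lam q = 0 := fun q h => funext fun a =>
    (ch_tt _ a).symm.trans (hq q h _ (tt_mem a))
  have word : ∀ w, lam (wd w) = lw (w.map fun g => (g, lam (gn g))) := fun w => by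
    induction w with
    | nil => exact q0 1 (one_mem _)
    | cons g w ih =>
      refine funext fun a => ?_
      have := hc _ (wd_mem w) _ (gn_mem g) _ (tt_mem a)
      rw [ch_tt, ch_tt, ih] at this
      change lam (wd w * gn g) a = lam (gn g) a + mx g _ a
      rw [this, ← act_gn]
      rfl
  have rel : ∀ w, wd w = 1 → lw (w.map fun g => (g, lam (gn g))) = 0 := fun w e => by
    rw [← word, e]; exact q0 1 (one_mem _)
  obtain ⟨r1, r2, r3, r4, r5, r6, r7, r8, r9, r10, r11⟩ := rels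
  obtain ⟨a0, x0, l, hl⟩ := fin16 (lam (gn 0)) (rel _ r1) (lam (gn 1)) (rel _ r2) (lam (gn 2))
    (rel _ r3) (rel _ r5) (rel _ r8) (rel _ r9) (lam (gn 3)) (rel _ r4) (rel _ r6) (rel _ r7)
    (rel _ r10)
  have e13 : lw [(0, lam (gn 0)), (1, lam (gn 1)), (0, lam (gn 0)), (1, lam (gn 1))] =
      lam (gn 4) := by
    have := word [0, 1, 0, 1]
    rw [r11] at this
    exact this.symm
  rw [e13] at x0 hl
  have vec : ∀ k ∈ QK, ∀ m, lam k = l + act k l + m → ∀ e ∈ EE,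
      ch (lam k) e = ch l e + ch l (k * e * k⁻¹) + ch m e := fun k hk m h e he => by
    rw [h, ch_add, ch_add, ch_act m2 m3 hk l he]
  obtain ⟨p01, p34, p14, p0, pU⟩ := mem_q
  have UK : U1 ≤ QK := fun u hu => hu.1.1
  constructor
  · let K : Subgroup N2 :=
      { carrier := {u | u ∈ U1 ∧ ∀ e ∈ E1, ch (lam u) e = 0}
        one_mem' := ⟨one_mem _, fun e _ => by rw [q0 1 (one_mem _), ch_zero]⟩
        mul_mem' := fun {a b} ha hb => ⟨mul_mem ha.1 hb.1, fun e he => by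
          rw [hc a (UK ha.1) b (UK hb.1) e he.1, (m2.ab.2.1 b hb.1.2 e he.2).eq,
            mul_inv_cancel_right, ha.2 e he, hb.2 e he, add_zero]⟩
        inv_mem' := fun {a} ha => by
          rwa [inv_eq_of_mul_eq_one_right (m2.ab.2.2.2.2.1 a ha.1.2)] }
    have z : ∀ {k}, lam k 0 = 0 → ∀ e ∈ E1, ch (lam k) e = 0 := fun h e he => by
      rw [ch, h, (cf_E1 he).1, (cf_E1 he).2]; simp
    refine fun u hu => (m2.gU1 K (fun j hj => ⟨⟨(pU j hj).1, z (by rw [q0 _ (p0 j)]; rfl)⟩,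
      (pU j hj).2, z ?_⟩) hu).2
    fin_cases j
    · exact absurd hj (by decide)
    · exact absurd hj (by decide)
    · exact a0
    · exact x0
    · change lam (xe 1 4) 0 = 0
      rw [q0 _ p14]; rfl
  · refine ⟨l, ?_⟩
    simp only [← act_gn] at hl
    rcases hl with ⟨h0, h1, h2, h3⟩ | ⟨h0, h4, h1, h2⟩
    · let K : Subgroup N2 :=
        { carrier := {k | k ∈ QK ∧ ∀ e ∈ EE, ch (lam k) e = ch l e + ch l (k * e * k⁻¹)}
          one_mem' := ⟨one_mem _, fun e _ => by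
            rw [q0 1 (one_mem _), ch_zero, one_mul, inv_one, mul_one, z2add]⟩
          mul_mem' := fun {a b} ha hb => ⟨mul_mem ha.1 hb.1, fun e he => by
            rw [hc a ha.1 b hb.1 e he, hb.2 e he, ha.2 _ ((m2.nrm b).2.1 e he),
              show a * b * e * (a * b)⁻¹ = a * (b * e * b⁻¹) * a⁻¹ by group, add_assoc,
              ← add_assoc (ch l (b * e * b⁻¹)), z2add, zero_add]⟩
          inv_mem' := fun {a} ha => ⟨inv_mem ha.1, fun e he => by
            have := hc a ha.1 _ (inv_mem ha.1) e he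
            rw [mul_inv_cancel, q0 1 (one_mem _), ch_zero, ha.2 _ ((m2.nrm a⁻¹).2.1 e he),
              show a * (a⁻¹ * e * a⁻¹⁻¹) * a⁻¹ = e by group] at this
            revert this
            generalize ch (lam a⁻¹) e = s; generalize ch l (a⁻¹ * e * a⁻¹⁻¹) = t
            generalize ch l e = r
            revert s t r; decide⟩ }
      have mk : ∀ k ∈ QK, lam k = l + act k l + 0 → k ∈ K := fun k hk h =>
        ⟨hk, fun e he => by rw [vec k hk 0 h e he, ch_zero, add_zero]⟩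
      have ll : l + l + 0 = 0 := funext fun a => by simp [z2add]
      refine .inl fun k hk => (m2.gQK K (m2.gT0 K
        (mk _ (QK0 p01) (by rw [(act_q l).1, ll, q0 _ p01])) (mk _ (gn_mem 0) h0)
        (mk _ (gn_mem 1) h1) (mk _ (QK0 p34) (by rw [(act_q l).2, ll, q0 _ p34])))
        (mk _ (gn_mem 2) h2) (mk _ (gn_mem 3) h3) hk).2
    · refine .inr fun e he => ⟨(vec _ (gn_mem 0) _ h0 e he).trans ?_,
        (vec _ (gn_mem 4) _ h4 e he).trans ?_, (vec _ (gn_mem 1) _ h1 e he).trans ?_,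
        (vec _ (gn_mem 2) _ h2 e he).trans ?_⟩ <;> (congr 1; simp [ch])

theorem eqns_KnLa2 : True := by
  have := @tt.eq_1
  have := @act.eq_1
  have := @gn.eq_1
  have := @mx.eq_1
  have := @wd.eq_1
  have := @wd.eq_2
  have := @wd.eq_def
  have := @lw.eq_1
  have := @lw.eq_2
  have := @lw.eq_def
  trivial

end Cfsg.Agent.H24.KnL
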