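import Cfsg.Agent.H42.ACKit
import Cfsg.Agent.H65.AlPar
import Cfsg.Agent.H52.Rel
import Cfsg.Agent.H76.AsPreA

/-!
# Covers of `L₃(4)` whose centre has an element of order four are not standard
-/

set_option autoImplicit false
set_option maxRecDepth 100000

namespace Cfsg.Agent.H24.AC

open Cfsg Subgroup Cfsg.Agent.H28 Cfsg.Agent.H42.AL Cfsg.Agent.H42.AC Cfsg.Agent.H65.AL Cfsg.Agent.H8
open Cfsg.Agent.H44.AP (zero_of sq_of)
open Cfsg.Agent.H42.AS (om)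
open scoped commutatorElement Pointwise

universe u

variable {G H : Type u} [Group G] [Group H] {D : RD G} {B : RD H} {p : G → H} {χ : F4 → G}

theorem invV (hF : B.Fa) {a : H} (ha : a ∈ B.A) (a2 : a * a = 1) (c : Commute a (q B (1, 1, 0))) :
    a ∈ B.V := by
  have e : q B (1, 1, 0) * q B (1, 1, 0) = B.xv 1 := by
    rw [q_mul hF.rel, qv hF.rel]; congr 1
  obtain ⟨x, rfl⟩ := unf hF.rel (cV1 hF.glob ha (e ▸ (c.mul_right c).eq))
  have e1 := xv_ne hF.rel ((q_comm hF.rel _ _).symm.trans (commutatorElement_eq_one_iff_commute.2 c))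
  have e2 := sq_q hF.rel a2
  exact (q_mem_V hF.rel).2 ((by decide +kernel : ∀ a b : F4, b * 1 + 1 * a = 0 → a = 0 ∨ b = 0 →
    a = 0 ∧ b = 0) _ _ e1 e2)

theorem nrmV [Finite H] (hF : B.Fa) (hN : ∀ x, x ∈ B.N) {S : Subgroup H} (hS : IsPGroup 2 S)
    (hq : q B (1, 1, 0) ∈ S) (hv : ∀ t, B.xv t ∈ S) :
    (∀ s ∈ S, s ∈ B.A → s ∈ B.U) ∧ S ≤ normalizer (B.V : Set H) := by
  have : Fact (Nat.Prime 2) := ⟨Nat.prime_two⟩
  have h1 : IsPGroup 2 (S ⊓ B.A : Subgroup H) := hS.to_inf_left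
  obtain ⟨z, hz, zc, z2⟩ := H52.exists_orderOf_eq_prime_mem_centralizer h1 h1 le_normalizer
    fun e => one_ne_zero (xv_ne hF.rel (mem_bot.1 (e ▸ mem_inf.2 ⟨hv 1, xvA hF.rel 1⟩)))
  obtain ⟨t, rfl⟩ := (mem_V hF.rel).1 (invV hF hz.2 (by rw [← sq, ← z2, pow_orderOf_eq_one])
    (mem_centralizer_iff.1 zc _ (mem_inf.2 ⟨hq, qA hF.rel _⟩)).symm)
  have h2 : ∀ s ∈ S, s ∈ B.A → s ∈ B.U := fun s a b => hF.glob.centV t (fun e => by
    rw [e, zero_of hF.rel.vv, orderOf_one] at z2; omega) s b (mem_centralizer_iff.1 zc _ (mem_inf.2 ⟨a, b⟩))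
  refine ⟨h2, fun s hs => mem_normalizer_fintype fun y hy => ?_⟩
  obtain ⟨c, rfl⟩ := (mem_V hF.rel).1 hy
  refine invV hF (cjA (hN s) (xvA hF.rel c)) (by rw [conj_mul, sq_of hF.rel.vv]; group) ?_
  have := Uv hF.rel (h2 _ (mul_mem (mul_mem (inv_mem hs) hq) hs) (cjA' (hN s) (qA hF.rel _))) c
  calc _ = s * (B.xv c * (s⁻¹ * q B (1, 1, 0) * s)) * s⁻¹ := by group
    _ = _ := by rw [← this]; group

section
variable (h : Lf D B p χ)
include h

theorem xvA' (t : F4) : D.xv t ∈ D.A := by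
  rw [← mul_inv_eq_iff_eq_mul.2 (h.neb t)]
  exact mul_mem (mul_mem neA (xbA t)) (inv_mem neA)

theorem UA : D.U ≤ D.A := by
  refine (closure_le _).2 ?_
  rintro _ ((⟨t, rfl⟩ | ⟨t, rfl⟩) | ⟨t, rfl⟩)
  exacts [xeA t, xbA t, xvA' h t]

theorem pq (y : T3) : p (q D y) = q B y := by
  rw [q, h.cov.mul _ (AN (mul_mem (xeA _) (xbA _))) _ (AN (xvA' h _)),
    h.cov.mul _ (AN (xeA _)) _ (AN (xbA _)), h.pe, h.pb, h.pv, q]

theorem χc {a : G} (ha : a ∈ D.A) (x : F4) : Commute (χ x) a := Kc (h.χK x) ha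

theorem φadd (x y : F4) : χ (x + y) ^ 2 = χ x ^ 2 * χ y ^ 2 := by
  have c := fun x y => χc h (UA h (h.χA y)) x
  rw [h.χadd, (((c _ _).mul_left (c _ _)).pow_right 2).mul_pow, (c _ _).mul_pow, ← pow_mul, h.χ4,
    mul_one]

theorem vq (s : F4) (y : T3) :
    D.xv s * q D y = q D y * D.xv s * χ (s * y.1 + s ^ 2 * y.2.1 ^ 2) ^ 2 := by
  have c := fun x {a : G} (ha : a ∈ D.A) => ((χc h ha x).pow_left 2).eq
  have e : D.xv s * D.xv y.2.2 = D.xv y.2.2 * D.xv s := by rw [← h.vv, add_comm, h.vv]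
  calc _ = D.xe y.1 * D.xv s * (χ (s * y.1) ^ 2 * (D.xb y.2.1 * D.xv y.2.2)) := by
        rw [q, ← mul_assoc, ← mul_assoc, h.ve]; simp only [mul_assoc]
    _ = D.xe y.1 * (D.xv s * D.xb y.2.1) * D.xv y.2.2 * χ (s * y.1) ^ 2 := by
        rw [c _ (mul_mem (xbA _) (xvA' h _))]; simp only [mul_assoc]
    _ = D.xe y.1 * D.xb y.2.1 * D.xv s * (χ (s ^ 2 * y.2.1 ^ 2) ^ 2 * D.xv y.2.2) *
        χ (s * y.1) ^ 2 := by rw [h.vb]; simp only [mul_assoc]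
    _ = D.xe y.1 * D.xb y.2.1 * (D.xv s * D.xv y.2.2) * (χ (s ^ 2 * y.2.1 ^ 2) ^ 2 *
        χ (s * y.1) ^ 2) := by rw [c _ (xvA' h _)]; simp only [mul_assoc]
    _ = _ := by rw [e, ← φadd h, add_comm, q]; simp only [mul_assoc]

theorem Yc {z : G} (hz : z ∈ closure (Set.range χ)) : z ∈ D.A ∧ z ∈ D.K ∧ z ^ 4 = 1 := by
  induction hz using closure_induction with
  | mem x hx => obtain ⟨t, rfl⟩ := hx; exact ⟨UA h (h.χA t), h.χK t, h.χ4 t⟩
  | one => exact ⟨one_mem _, one_mem _, one_pow _⟩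
  | mul x y _ _ a b =>
    exact ⟨mul_mem a.1 b.1, mul_mem a.2.1 b.2.1, by
      rw [Commute.mul_pow (Kc a.2.1 b.1), a.2.2, b.2.2, one_mul]⟩
  | inv x _ a => exact ⟨inv_mem a.1, inv_mem a.2.1, by rw [inv_pow, a.2.2, inv_one]⟩

theorem q4 (y : T3) : q B y ^ 4 = 1 := by
  have r := h.fa.rel
  rw [show 4 = 2 * 2 from rfl, pow_mul, sq, sq, q_mul r, q_mul r, ← q_zero r]
  exact congrArg _ ((by decide +kernel : ∀ y : T3, mu (mu y y) (mu y y) = 0) y)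

theorem pgU : IsPGroup 2 D.U := fun ⟨x, hx⟩ => ⟨4, Subtype.ext (by
  have k : ∀ x ∈ D.U, ∃ y, ∃ z ∈ closure (Set.range χ), x = q D y * z ∧ p x = q B y := fun x hx => by
    obtain ⟨a, b, c, z, hz, rfl⟩ := h.unf x hx
    exact ⟨(a, b, c), z, hz, rfl, (h.cov.mulK (AN (UA h (qU (a, b, c)))) (Yc h hz).2.1).trans (pq h _)⟩
  obtain ⟨y, -, -, -, e⟩ := k x hx
  obtain ⟨y', z, hz, e1, e2⟩ := k _ (pow_mem hx 4)
  rw [h.cov.pow (AN (UA h hx)), e, q4 h, ← q_zero h.fa.rel] at e2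
  rw [← q_inj h.fa.rel e2, q] at e1
  change x ^ (4 * 4) = 1
  rw [pow_mul, e1]
  simp only [Prod.fst_zero, Prod.snd_zero, zero_of h.ee, zero_of h.bb, zero_of h.vv, one_mul,
    (Yc h hz).2.2])⟩

theorem noTT {g : G} (hg : g ∈ D.N) (c : ∀ x, Commute g (χ x)) (s : Ty B true true (p g)) (x : F4) :
    χ x ^ 2 = 1 := by
  obtain ⟨a', ha', l, m, s⟩ := s
  obtain ⟨a, ha, rfl⟩ := (h.cov.img _).1 ha'
  rw [← h.cov.mul _ (AN ha) _ hg] at s
  have e : ∀ x, χ x = (χ (l * m ^ 2 * pw true x ^ 2))⁻¹ := fun x => by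
    rw [← h.χsw _ l m true (h.st' _ (mul_mem (AN ha) hg) l m true s) x,
      ((χc h ha x).symm.mul_left (c x)).eq, mul_inv_cancel_right]
  have := e x
  rw [e (l * m ^ 2 * _), e (l * m ^ 2 * pw true (l * m ^ 2 * _) ^ 2), (by decide +kernel :
    ∀ l m x : F4, l ≠ 0 → m ≠ 0 → l * m ^ 2 * pw true (l * m ^ 2 * pw true (l * m ^ 2 * pw true x ^ 2) ^ 2)
      ^ 2 = x) l m x s.l0 s.m0, inv_inv] at this
  rw [sq, ← eq_inv_iff_mul_eq_one, ← this]

theorem core [Finite H] {x0 : F4} (h0 : χ x0 ^ 2 ≠ 1) {T : Subgroup G} {u w i : G} (TN : T ≤ D.N)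
    (TK : ∀ x ∈ T, x ∈ D.K → x = 1) (Tχ : ∀ g ∈ T, ∀ x, Commute g (χ x))
    (nv : ∀ s, ∀ x ∈ T, D.xv s * x * (D.xv s)⁻¹ ∈ T)
    (nq : ∀ r, q D (r ^ 2, r, 0) ∈ normalizer (T : Set G)) (TU : ∀ x ∈ T, p x ∈ B.A → p x ∈ B.U)
    (TV : ∀ x ∈ T, p x ∈ normalizer (B.V : Set H)) (uT : u ∈ T) (pu : p u = B.xv 1) (wT : w ∈ T)
    (iT : i ∈ T) (w4 : w ^ 4 = 1) (w2 : w * w ≠ 1) (i2 : i * i = 1) (i1 : i ≠ 1) (iw : i ≠ w * w)
    (c : Commute w i) : False := by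
  have r := h.fa.rel
  have inj : ∀ x ∈ T, ∀ y ∈ T, p x = p y → x = y := fun x a y b e =>
    inv_mul_eq_one.1 (TK _ (mul_mem (inv_mem a) b) ((h.cov.eq_iff (TN a) (TN b)).1 e))
  have lift : ∀ x ∈ T, ∀ y, p x = q B y → ∃ k ∈ D.K, x = q D y * k := fun x a y e =>
    ⟨_, (h.cov.eq_iff (AN (UA h (qU y))) (TN a)).1 ((pq h y).trans e.symm), by group⟩
  obtain ⟨κ, hκ⟩ : ∃ κ, ∀ x, χ x ^ 2 = 1 → x = 0 ∨ x = κ := by
    by_contra! e
    obtain ⟨κ, e1, e2, -⟩ := e 0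
    obtain ⟨x, e3, e4, e5⟩ := e κ
    rcases (by decide +kernel : ∀ κ x y : F4, κ ≠ 0 → x ≠ 0 → x ≠ κ →
      y = κ + κ ∨ y = κ ∨ y = x ∨ y = x + κ) κ x x0 e2 e4 e5 with rfl | rfl | rfl | rfl
    exacts [h0 (by rw [φadd h, e1, one_mul]), h0 e1, h0 e3, h0 (by rw [φadd h, e1, e3, one_mul])]
  have shape : ∀ x ∈ T, p x ∈ B.A → ∃ y, p x = q B y ∧
      ∀ s, s * y.1 + s ^ 2 * y.2.1 ^ 2 = 0 ∨ s * y.1 + s ^ 2 * y.2.1 ^ 2 = κ := fun x a b => by
    obtain ⟨y, e⟩ := unf r (TU x a b)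
    obtain ⟨k, hk, rfl⟩ := lift x a y e
    refine ⟨y, e, fun s => hκ _ (TK _ ?_ (pow_mem (h.χK _) 2))⟩
    have := mul_mem (inv_mem a) (nv s _ a)
    rwa [← mul_assoc (D.xv s), vq h, mul_assoc (q D y), mul_assoc (q D y), ← Kc hk (mul_mem (xvA' h s)
      (pow_mem (UA h (h.χA _)) 2)), ← ((χc h (xvA' h s) _).pow_left 2).eq, ← mul_assoc (q D y),
      mul_assoc (q D y * k), mul_inv_cancel_right, inv_mul_cancel_left] at this
  have ab : ∀ x ∈ T, p x ∈ B.A → ∀ x' ∈ T, p x' ∈ B.A → Commute x x' := fun x a b x' a' b' => by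
    obtain ⟨y, e, k⟩ := shape x a b
    obtain ⟨y', e', k'⟩ := shape x' a' b'
    refine inj _ (mul_mem a a') _ (mul_mem a' a) ?_
    rw [h.cov.mul _ (TN a) _ (TN a'), h.cov.mul _ (TN a') _ (TN a), e, e',
      ← commutatorElement_eq_one_iff_mul_comm, q_comm r, be, (by decide +kernel : ∀ κ t s t' s' : F4,
        (∀ a, a * t + a ^ 2 * s ^ 2 = 0 ∨ a * t + a ^ 2 * s ^ 2 = κ) →
        (∀ a, a * t' + a ^ 2 * s' ^ 2 = 0 ∨ a * t' + a ^ 2 * s' ^ 2 = κ) → s * t' + s' * t = 0)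
        κ _ _ _ _ k k', zero_of r.vv]
  have invo : ∀ x ∈ T, p x ∈ B.A → x * x = 1 → x = 1 ∨ x = u := fun x a b x2 => by
    obtain ⟨⟨t, s, c⟩, e, k⟩ := shape x a b
    obtain ⟨rfl, rfl⟩ := (by decide +kernel : ∀ κ t s : F4,
      (∀ a, a * t + a ^ 2 * s ^ 2 = 0 ∨ a * t + a ^ 2 * s ^ 2 = κ) → t = 0 ∨ s = 0 → t = 0 ∧ s = 0)
      κ t s k (sq_q r (by rw [← e, ← h.cov.mul _ (TN a) _ (TN a), x2, h.cov.one]))
    rcases (by decide +kernel : ∀ c x : F4, c = 0 ∨ c = 1 ∨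
      c * (x ^ 2) ^ 2 + c ^ 2 * (x ^ 2) ^ 2 = x) c x0 with rfl | rfl | e1
    · exact Or.inl (inj _ a _ (one_mem _) (by rw [e, h.cov.one]; exact q_zero r))
    · exact Or.inr (inj _ a _ uT (by rw [e, pu, qv r]))
    obtain ⟨k, hk, rfl⟩ := lift x a _ e
    refine absurd (TK _ ?_ (pow_mem (h.χK _) 2)) h0
    have := mul_mem (inv_mem a) ((mem_normalizer_iff''.1 (nq (x0 ^ 2)) _).1 a)
    rwa [show q D (0, 0, c) = D.xv c by simp only [q, zero_of h.ee, zero_of h.bb, one_mul],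
      mul_assoc _ (D.xv c * k), mul_assoc (D.xv c), Kc hk (UA h (qU _)), ← mul_assoc (D.xv c), vq h, e1,
      mul_assoc (q D _), mul_assoc (q D _), inv_mul_cancel_left, mul_assoc (D.xv c),
      ← Kc hk (pow_mem (UA h (h.χA _)) 2), ← mul_assoc (D.xv c), inv_mul_cancel_left] at this
  have inn : ∀ x ∈ T, x ^ 4 = 1 → Ty B false false (p x) → p x ∈ B.A := fun x a e s => by
    have := s.AK r (n := 2) ((h.cov.two (TN a) e).symm ▸ one_mem _)
    rwa [show B.K = ⊥ from h.cov.faith, sup_bot_eq] at this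
  have nt : ∀ x ∈ T, ¬ Ty B true true (p x) := fun x a s => h0 (noTT h (TN a) (Tχ x a) s x0)
  obtain ⟨a1, a2, sw⟩ := exTy h.fa.glob (h.cov.allN (p w))
  obtain ⟨b1, b2, si⟩ := exTy h.fa.glob (h.cov.allN (p i))
  have ww : w * w * (w * w) = 1 := by rw [← w4]; simp only [pow_succ, pow_zero, one_mul, mul_assoc]
  have wu : w * w = u := (invo _ (mul_mem wT wT) (inn _ (mul_mem wT wT)
    (by rw [show 4 = 2 * 2 from rfl, pow_mul, sq (w * w), ww, one_pow]) (by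
      rw [h.cov.mul _ (TN wT) _ (TN wT)]; simpa using sw.mul r sw)) ww).resolve_left w2
  have i4 : i ^ 4 = 1 := by rw [show 4 = 2 * 2 from rfl, pow_mul, sq i, i2, one_pow]
  have nb : ¬ Ty B false false (p i) := fun s =>
    (invo _ iT (inn _ iT i4 s) i2).elim i1 fun e => iw (e.trans wu.symm)
  have swi := sw.mul r si
  rw [← h.cov.mul _ (TN wT) _ (TN iT)] at swi
  obtain ⟨w', w'T, w'A, w'u, c'⟩ : ∃ w' ∈ T, p w' ∈ B.A ∧ w' * w' = u ∧ Commute w' i := by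
    rcases (by
      cases a1 <;> cases a2 <;> cases b1 <;> cases b2 <;>
        first | exact Or.inl sw | exact Or.inr swi | exact (nb si).elim | exact (nt _ wT sw).elim |
          exact (nt _ iT si).elim | exact (nt _ (mul_mem wT iT) swi).elim :
      Ty B false false (p w) ∨ Ty B false false (p (w * i))) with s | s
    · exact ⟨w, wT, inn _ wT w4 s, wu, c⟩
    · exact ⟨w * i, mul_mem wT iT, inn _ (mul_mem wT iT) (by rw [c.mul_pow, w4, i4, one_mul]) s,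
        by rw [← sq, c.mul_pow, sq, sq, wu, i2, mul_one], c.mul_left (Commute.refl i)⟩
  have ui : Commute u i := w'u ▸ c'.mul_left c'
  have uu : u * u = 1 := wu ▸ ww
  have ii : i⁻¹ = i := inv_eq_of_mul_eq_one_left i2
  obtain ⟨v, hv, l, m, s⟩ := si.nU r h.fa.glob (TV i iT)
  have key : ∀ t : F4, H65.AL.ab b1 b2 l m (t ^ 2, t) = (t ^ 2, t) := fun t => by
    obtain ⟨a, ha⟩ : ∃ a, a = q D (t ^ 2, t, 0) := ⟨_, rfl⟩
    have aA : a ∈ D.A := ha ▸ UA h (qU _)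
    have xT : i * (a * i * a⁻¹) ∈ T := mul_mem iT ((mem_normalizer_iff.1 (ha ▸ nq t) _).1 iT)
    have xA : p (i * (a * i * a⁻¹)) ∈ B.A := h.cov.memB (by
      rw [← mul_assoc, ← mul_assoc]; nth_rewrite 2 [← ii]
      exact mul_mem (cjA (TN iT) aA) (inv_mem aA))
    have x2 : i * (i * (a * i * a⁻¹)) * (i * (i * (a * i * a⁻¹))) = 1 := by
      rw [← mul_assoc i i, i2, one_mul, conj_mul, i2]; group
    have px : p (i * (a * i * a⁻¹)) = p i * p a * (p i)⁻¹ * (p a)⁻¹ := by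
      rw [← h.cov.cj (TN iT) (AN aA), ← h.cov.inv (AN aA), ← h.cov.mul _ (AN (cjA (TN iT) aA)) _
        (AN (inv_mem aA)), ii]; simp only [mul_assoc]
    generalize i * (a * i * a⁻¹) = x at xT xA x2 px
    have x1 : x = 1 ∨ x = u := by
      refine invo x xT xA ?_
      obtain ⟨y, e, -⟩ := shape x xT xA
      have pm : ∀ y ∈ T, p y ∈ B.A → p (x * y) ∈ B.A := fun y a b => by
        rw [h.cov.mul _ (TN xT) _ (TN a)]; exact mul_mem xA b
      refine (invo _ (mul_mem xT xT) (pm x xT xA) (inj _ (mul_mem (mul_mem xT xT) (mul_mem xT xT)) _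
        (one_mem _) ?_)).elim id fun e1 => ?_
      · rw [← sq, ← sq, ← pow_mul, h.cov.pow (TN xT), e, h.cov.one]; exact q4 h y
      have c1 : Commute (x * w') i := (invo _ (mul_mem xT w'T) (pm _ w'T w'A) (by
        rw [← sq, (ab x xT xA w' w'T w'A).mul_pow, sq, sq, e1, w'u, uu])).elim
          (fun e => e ▸ Commute.one_left i) fun e => e ▸ ui
      have c2 : Commute i x := by simpa using (c1.mul_left c'.inv_left).symm
      rwa [← sq, c2.mul_pow, sq, sq, i2, one_mul] at x2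
    obtain ⟨c, hc⟩ : ∃ c, p x = B.xv c := by
      rcases x1 with rfl | rfl
      exacts [⟨0, h.cov.one.trans (zero_of r.vv).symm⟩, ⟨1, pu⟩]
    obtain ⟨r', e⟩ := g_b r hv s (t ^ 2, t) 0
    rw [hc, eq_mul_inv_iff_mul_eq, ha, pq h, qv r, q_mul r] at px
    have := q_inj r (px.trans e)
    simp only [mu, zero_add, Prod.mk.injEq] at this
    exact Prod.ext this.1.symm this.2.1.symm
  have := (by decide +kernel : ∀ (a b : Bool) (l m : F4), (∀ t : F4, H65.AL.ab a b l m (t ^ 2, t) =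
    (t ^ 2, t)) → a = b) b1 b2 l m key
  subst this
  cases b1
  exacts [nb si, nt _ iT si]

end

theorem x4 : X4Stmt.{u} := by
  rintro G H _ _ _ _ D B p χ h rk ⟨x0, h0⟩ ⟨g, hg, k, hk, k2, hu⟩
  have : Fact (Nat.Prime 2) := ⟨Nat.prime_two⟩
  have hs := h.cov.std
  have vA := xvA' h
  have pu : p (D.xv 1 * k) = B.xv 1 := (h.cov.mulK (AN (vA 1)) hk).trans (h.pv 1)
  have u2 : D.xv 1 * k * (D.xv 1 * k) = 1 := by
    rw [← sq, Commute.mul_pow (Kc hk (vA 1)).symm, sq, sq, sq_of h.vv, k2, one_mul]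
  have cu : ∀ x, Commute x (D.xv 1) → Commute x k → x ∈ centralizer {D.xv 1 * k} := fun x a b =>
    mem_centralizer_singleton_iff.2 (a.mul_right b)
  have uN : D.xv 1 * k ∈ D.N := mul_mem (AN (vA 1)) (KN hk)
  have uχ : ∀ x, Commute (χ x) (D.xv 1 * k) := fun x =>
    (χc h (vA 1) x).mul_right (Kc hk (UA h (h.χA x))).symm
  obtain ⟨j, jK, j2, j1, jy, jk⟩ : ∃ j ∈ D.K, j * j = 1 ∧ j ≠ 1 ∧ j ≠ χ x0 * χ x0 ∧ Commute j k := by
    by_cases e : k ≠ 1 ∧ k ≠ χ x0 * χ x0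
    · exact ⟨k, hk, k2, e.1, e.2, Commute.refl k⟩
    obtain ⟨j, jK, j2, j1, jy⟩ : ∃ j ∈ D.K, j * j = 1 ∧ j ≠ 1 ∧ j ≠ χ x0 * χ x0 := by
      by_contra! c
      refine rk fun E _ hE => ?_
      refine (Nat.card_le_card_of_injective (fun x : E => (x.1.1 = 1 : Prop)) fun x y e => ?_).trans
        (by simp)
      have sx := fun x : E => c x.1.1 x.1.2 (by rw [← sq]; exact congrArg Subtype.val (hE _ x.2))
      refine Subtype.ext (Subtype.ext ?_)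
      by_cases e1 : x.1.1 = 1
      · rw [e1, (eq_iff_iff.1 e).1 e1]
      · rw [sx x e1, sx y fun e2 => e1 ((eq_iff_iff.1 e).2 e2)]
    refine ⟨j, jK, j2, j1, jy, ?_⟩
    rcases not_and_or.1 e with e | e <;> rw [not_not.1 e]
    exacts [Commute.one_right j, Kc jK (UA h (mul_mem (h.χA _) (h.χA _)))]
  have uv : ∀ s, D.xv s ∈ centralizer {D.xv 1 * k} := fun s =>
    cu _ (show _ * _ = _ * _ by rw [← h.vv, add_comm, h.vv]) (Kc hk (vA s)).symm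
  have uq : ∀ r, q D (r ^ 2, r, 0) ∈ centralizer {D.xv 1 * k} := fun r =>
    cu _ (show _ * _ = _ * _ by
      rw [vq h, one_mul, one_pow, one_mul, H44.AP.aa, h.χ0, one_pow, mul_one]) (Kc hk (UA h (qU _))).symm
  have ju := cu j (Kc jK (vA 1)) jk
  generalize D.xv 1 * k = u at *
  have u1 : u ≠ 1 := fun e => one_ne_zero (xv_ne h.fa.rel (by rw [← pu, e, h.cov.one]))
  let Y := closure (Set.range χ)
  have hY : IsPGroup 2 Y := fun z => ⟨2, Subtype.ext (Yc h z.2).2.2⟩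
  have hF : IsPGroup 2 (zpowers j ⊔ Y : Subgroup G) := (H76.AsPre.two_zpowers j2).to_sup_of_normal_right' hY
    (zpowers_le.2 (H76.AsPre.norm_of_comm fun t ht => Kc jK (Yc h ht).1))
  have jF : j ∈ zpowers j ⊔ Y := mem_sup_left (mem_zpowers j)
  have χF : ∀ x, χ x ∈ zpowers j ⊔ Y := fun x => mem_sup_right (subset_closure ⟨x, rfl⟩)
  obtain ⟨φ, φi, hφ⟩ := copy hs hg hF (fun e => j1 (mem_bot.1 (e ▸ jF)))
    (sup_le (zpowers_le.2 jK) fun z hz => (Yc h hz).2.1) fun x hx => cent_N' hs hu u2 u1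
      (mem_centralizer_singleton_iff.1 (sup_le (zpowers_le.2 ju) ((closure_le _).2 (by
        rintro _ ⟨t, rfl⟩; exact mem_centralizer_singleton_iff.2 (uχ t))) hx))
  let J := MulAut.conj g • D.K ⊓ centralizer (Set.range χ)
  have mJ : ∀ {x}, x ∈ J ↔ g⁻¹ * x * g ∈ D.K ∧ ∀ t, Commute (χ t) x := by
    intro x
    rw [mem_inf, mem_conj_smul, mem_centralizer_iff, Set.forall_mem_range]; rfl
  have JN : J ≤ D.N := fun x hx => cent_N hs (pow_mem (h.χK x0) 2) (n := 1)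
    (by rw [← pow_mul]; exact h.χ4 x0) h0 (((mJ.1 hx).2 x0).pow_left 2).symm
  have uJ : u ∈ J := mJ.2 ⟨hu, uχ⟩
  let R := D.U ⊓ centralizer {u}
  have RJ : R ≤ normalizer (J : Set G) := fun a ha => mem_normalizer_fintype fun x hx => mJ.2 ⟨by
    convert cjK (cent_N' hs hu u2 u1 (mem_centralizer_singleton_iff.1 (mem_inf.1 ha).2)) (mJ.1 hx).1
      using 1
    group, fun t => ((χc h (UA h (mem_inf.1 ha).1) t).mul_right ((mJ.1 hx).2 t)).mul_right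
      (χc h (UA h (mem_inf.1 ha).1) t).inv_right⟩
  obtain ⟨S, hS, RS⟩ := exists_isSylowIn_ge (H := R ⊔ J) (((pgU h).to_inf_left :
    IsPGroup 2 R).to_sup_of_normal_right' (H76.AsPre.two_zpowers u2) fun a ha =>
      H76.AsPre.norm_of_comm fun t ht => by
        obtain ⟨n, rfl⟩ := ht
        exact Commute.zpow_right (mem_centralizer_singleton_iff.1 (mem_inf.1 ha).2) n)
    (sup_le_sup_left (zpowers_le.2 uJ) R)
  have SJ : R ⊔ J ≤ normalizer (J : Set G) := sup_le RJ le_normalizer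
  have hT := hS.inf_of_le_normalizer SJ
  rw [inf_eq_right.2 (le_sup_right : J ≤ R ⊔ J)] at hT
  have SN : S ≤ D.N := hS.le.trans (sup_le (fun a ha => AN (UA h (mem_inf.1 ha).1)) JN)
  have ST : S ≤ normalizer ((S ⊓ J : Subgroup G) : Set G) := fun a ha =>
    H52.le_normalizer_inf le_normalizer (hS.le.trans SJ) ha
  have RS' : ∀ a ∈ D.U, a ∈ centralizer {u} → a ∈ S := fun a b c => RS (mem_sup_left (mem_inf.2 ⟨b, c⟩))
  obtain ⟨c, -, hc⟩ := hT.exists_conj_le (Q := φ.range) (hF.of_surjective _ φ.rangeRestrict_surjective)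
    (by rintro _ ⟨x, rfl⟩; exact mJ.2 ⟨(hφ x).1, fun t => ((hφ x).2 _ (χF t)).symm⟩)
  have mS : ∀ a ∈ S, p a ∈ (S.subgroupOf D.N).map h.cov.hom := fun a ha => ⟨⟨a, SN ha⟩, ha, rfl⟩
  obtain ⟨n1, n2⟩ := nrmV h.fa h.cov.allN (hS.isPGroup.comap_subtype.map h.cov.hom)
    (by have := mS _ (RS' _ (qU _) (uq 1)); rwa [pq h, one_pow] at this) fun t => h.pv t ▸ mS _ (RS' _ (xvU t) (uv t))
  let ψ := (MulAut.conj c).toMonoidHom.comp φ
  have ψi : Function.Injective ψ := (MulAut.conj c).injective.comp φi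
  have ψT : ∀ x, ψ x ∈ S ⊓ J := fun x => hc (conj_mem_conj_smul.2 ⟨x, rfl⟩)
  refine core h h0 (T := S ⊓ J) (w := ψ ⟨_, χF x0⟩) (i := ψ ⟨_, jF⟩) (inf_le_left.trans SN)
    (fun x a b => ?_) (fun x a t => ((mJ.1 (mem_inf.1 a).2).2 t).symm)
    (fun s x a => (mem_normalizer_iff.1 (ST (RS' _ (xvU s) (uv s))) x).1 a)
    (fun r => ST (RS' _ (qU _) (uq r))) (fun x a => n1 _ (mS x (mem_inf.1 a).1))
    (fun x a => n2 (mS x (mem_inf.1 a).1)) (mem_inf.2 ⟨RS (mem_sup_right (mem_zpowers u)), uJ⟩) pu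
    (ψT _) (ψT _) ?_ ?_ ?_ ?_ ?_ ?_
  · obtain ⟨n, e⟩ := hT.isPGroup ⟨x, a⟩
    by_contra e1
    exact hg (te hs b (mJ.1 (mem_inf.1 a).2).1 (congrArg Subtype.val e) e1)
  · rw [← map_pow, map_eq_one_iff _ ψi]; exact Subtype.ext (h.χ4 x0)
  · rw [← map_mul, Ne, map_eq_one_iff _ ψi, ← sq]; exact fun e => h0 (congrArg Subtype.val e)
  · rw [← map_mul, map_eq_one_iff _ ψi]; exact Subtype.ext j2
  · rw [Ne, map_eq_one_iff _ ψi]; exact fun e => j1 (congrArg Subtype.val e)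
  · rw [← map_mul]; exact fun e => jy (congrArg Subtype.val (ψi e))
  · exact Commute.map (Subtype.ext (Kc jK (UA h (h.χA x0))).symm) ψ

end Cfsg.Agent.H24.AC
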