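import Cfsg.Agent.H46.SKit
import Cfsg.Agent.H23.Dbl2e

/-!
# The reduction for a four-group meeting the component trivially
-/

set_option autoImplicit false
open scoped Pointwise commutatorElement
open Subgroup

namespace Cfsg.Agent.H24.S95
open Cfsg.Agent.H8 Cfsg.Agent.H23.D2 Cfsg.Agent.H46.S95 Cfsg.Agent.H10.Std

universe u

local notation "C[" A "]" => Subgroup.centralizer (SetLike.coe A)
local notation "N[" A "]" => Subgroup.normalizer (SetLike.coe A)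

variable {Γ : Type} [Group Γ] {G : Type u} [Group G]

theorem AK (hb : Base Γ) {ψ : Γ →* G} (hi : Function.Injective ψ) {a : Γ} (h : ψ a ∈ C[ψ.range]) : a = 1 :=
  hb.eq_one fun x => hi (by rw [map_mul, map_mul, mem_C_range.1 h x])

theorem exists_two {Z : Subgroup Γ} (h : Nat.card Z = 4) :
    ∃ e ∈ Z, ∃ e' ∈ Z, e ≠ 1 ∧ e' ≠ 1 ∧ e ≠ e' := by
  have : Finite Z := Nat.finite_of_card_ne_zero (by omega)
  have := Fintype.ofFinite Z
  obtain ⟨a, b, c, h1, h2, h3⟩ := (Fintype.two_lt_card_iff (α := Z)).1 (by rw [← Nat.card_eq_fintype_card]; omega)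
  exact ⟨_, mul_mem (inv_mem a.2) b.2, _, mul_mem (inv_mem a.2) c.2,
    fun e => h1 (Subtype.ext (inv_mul_eq_one.1 e)), fun e => h2 (Subtype.ext (inv_mul_eq_one.1 e)),
    fun e => h3 (Subtype.ext (mul_left_cancel e))⟩

/-- One of the two symmetric sides. -/
structure Sd (ψ ψ' : Γ →* G) (Λ Z : Subgroup Γ) : Prop where
  inj : Function.Injective ψ
  std : IsStandardSubgroup ψ.range
  syl : IsSylowIn 2 (Z.map ψ) C[ψ'.range]
  lam : ∀ l ∈ Λ, ψ l ∈ ψ'.range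

variable [Finite G] {ψ ψ' : Γ →* G} {Λ Z V V' S S' : Subgroup Γ} {z b ρ : Γ}

omit [Finite G] in
theorem Sd.cz (h : Sd ψ ψ' Λ Z) {e : Γ} (he : e ∈ Z) (a : Γ) : ψ' a * ψ e = ψ e * ψ' a :=
  mem_C_range.1 (h.syl.le ⟨e, he, rfl⟩) a

theorem Sd.nrm (h : Sd ψ ψ' Λ Z) (h' : Sd ψ' ψ Λ Z) (hT : TC Λ Z ρ) {e : Γ} (he : e ∈ Z) (e1 : e ≠ 1)
    {x : G} (hx : x * ψ e * x⁻¹ ∈ C[ψ'.range]) : x ∈ N[ψ'.range] :=
  norm_of_conj_mem h'.std (ord_of_sq (by rw [← map_mul, hT.el e he, map_one])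
    fun e => e1 (h.inj (e.trans (map_one ψ).symm))) (h.syl.le ⟨e, he, rfl⟩) hx

omit [Finite G] in
theorem lam_le (hR : RD z b Λ Z) (hT : TC Λ Z ρ) (h : Sd ψ ψ' Λ Z) (h' : Sd ψ' ψ Λ Z) :
    Λ.map ψ ≤ Λ.map ψ' := by
  have h1 : Λ.map ψ ≤ (Z ⊔ Λ).map ψ' := by
    rintro _ ⟨l, hl, rfl⟩
    obtain ⟨m, e⟩ := h.lam l hl
    exact ⟨m, hT.cZ (mem_C.2 fun x hx => h'.inj (by rw [map_mul, map_mul, e, h'.cz hx])), e⟩
  rw [← hR.rc.perf, map_commutator]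
  refine (commutator_mono h1 h1).trans ?_
  rw [← map_commutator, hR.rc.perf]
  refine map_mono (commutator_le.2 fun x hx y hy => ?_)
  have n : Z ≤ N[Λ] := fun e he => C_le_N (hR.rc.ZC he)
  obtain ⟨e, he, l, hl, rfl⟩ := (H83.mem_sup_right_norm n).1 hx
  obtain ⟨e', he', l', hl', rfl⟩ := (H83.mem_sup_right_norm n).1 hy
  have c1 : Commute e e' := comm_of_sq hT.el he he'
  have c2 : Commute l e := mem_C.1 (hR.rc.ZC he) l hl
  have c3 : Commute l' e := mem_C.1 (hR.rc.ZC he) l' hl'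
  have c4 : Commute l e' := mem_C.1 (hR.rc.ZC he') l hl
  have c5 : Commute l' e' := mem_C.1 (hR.rc.ZC he') l' hl'
  have : ⁅e * l, e' * l'⁆ = l * l' * l⁻¹ * l'⁻¹ := by
    calc _ = e * (l * e') * l' * l⁻¹ * e⁻¹ * l'⁻¹ * e'⁻¹ := by rw [commutatorElement_def]; group
      _ = e * e' * (l * l' * l⁻¹ * l'⁻¹) * (e' * e)⁻¹ := by
        rw [c4.eq, mul_assoc _ e⁻¹, ← c3.inv_inv.eq]; group
      _ = _ := by
        have m : l * l' * l⁻¹ * l'⁻¹ ∈ Λ := mul_mem (mul_mem (mul_mem hl hl') (inv_mem hl)) (inv_mem hl')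
        rw [← c1.eq]
        exact cj_of_C (hR.rc.ZC (mul_mem he he')) m
  rw [this]
  exact mul_mem (mul_mem (mul_mem hl hl') (inv_mem hl)) (inv_mem hl')

theorem rho_mem (hR : RD z b Λ Z) (hT : TC Λ Z ρ) (h : Sd ψ ψ' Λ Z) (h' : Sd ψ' ψ Λ Z) :
    ψ ρ ∈ C[ψ'.range] := by
  obtain ⟨e, he, -, -, e1, -⟩ := exists_two hR.card
  obtain ⟨α, hα⟩ := exists_aut h'.inj (h.nrm h' hT he e1 (x := ψ ρ) (h.syl.le ⟨_, norm_conj hT.rN he, by simp⟩))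
  obtain ⟨c, hc, e2⟩ := hR.rc.cen α (h'.inj (by rw [hα, h'.cz hR.rc.aZ, mul_inv_cancel_right])) fun x hx => by
    obtain ⟨y, hy, e⟩ := lam_le hR hT h' h ⟨x, hx, rfl⟩
    exact h'.inj (by rw [hα, ← e, ← map_inv, ← map_mul, ← map_mul, cj_of_C hT.rC hy])
  refine mem_C_range.2 fun a => ?_
  have h2 : ∀ a, α (α a) = a := fun a => by
    rw [e2, ← MulAut.mul_apply, ← map_mul, hT.el c hc, map_one, MulAut.one_apply]
  have h3 : ψ' (α (α (α a))) = ψ' a := by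
    rw [hα, hα, hα]
    calc _ = ψ ρ ^ 3 * ψ' a * (ψ ρ ^ 3)⁻¹ := by rw [pow_succ, sq]; group
      _ = _ := by rw [← map_pow, hT.r3]; simp
  rw [h2, hα, mul_inv_eq_iff_eq_mul] at h3
  exact h3.symm

omit [Finite G] in
theorem star (hR : RD z b Λ Z) (hT : TC Λ Z ρ) (hi : Function.Injective ψ) (hV : V ≤ Λ) (hS : TS Z V S ρ)
    {j : G} (hj : j ∈ N[ψ.range]) (h1 : ∀ v ∈ V, j * ψ v = ψ v * j) (h2 : ∀ e ∈ Z, j * ψ e = ψ e * j) :
    ∃ s ∈ Z ⊔ V, ∃ k ∈ C[ψ.range], j = ψ s * k := by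
  obtain ⟨α, hα⟩ := exists_aut hi hj
  obtain ⟨s, hs, i, e⟩ := hS.cen α fun v hv => hi (by rw [hα, h1 v hv, mul_inv_cancel_right])
  obtain ⟨x, hx, -, -, x1, -⟩ := exists_two hR.card
  have h3 : s * (ρ ^ i * x * (ρ ^ i)⁻¹) * s⁻¹ = x := by
    have : α x = x := hi (by rw [hα, h2 x hx, mul_inv_cancel_right])
    rw [e, MulAut.conj_apply] at this
    rw [← this]; nth_rewrite 1 [this]; group
  have h4 := norm_conj (pow_mem hT.rN i) hx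
  have h5 : ρ ^ i * x * (ρ ^ i)⁻¹ = x := by
    have := hS.br _ h4 s hs
    rw [h3] at this
    exact (mul_inv_eq_one.1 (mem_bot.1 (hT.dis ▸ mem_inf.2 ⟨mul_mem hx (inv_mem h4), hV this⟩))).symm
  have h6 : ρ ^ i = 1 := by
    rw [pow_eq_pow_mod i hT.r3, mul_inv_eq_iff_eq_mul] at h5
    rw [pow_eq_pow_mod i hT.r3]
    have := Nat.mod_lt i (show 0 < 3 by norm_num)
    interval_cases i % 3
    · exact pow_zero ρ
    · exact absurd (hT.fpf x hx (by simpa using h5)) x1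
    · refine absurd (hT.fpf x hx ?_) x1
      have := (show Commute (ρ ^ 2) x from h5).pow_left 2
      rwa [← pow_mul, show 2 * 2 = 3 + 1 from rfl, pow_succ, hT.r3, one_mul] at this
  rw [h5] at h3
  rw [h6, mul_one] at e
  exact ⟨s, hS.ce x hx x1 s hs (mul_inv_eq_iff_eq_mul.1 h3), (ψ s)⁻¹ * j,
    cent_of_conj fun a => by rw [← hα, e, MulAut.conj_apply], by group⟩

omit [Finite G] in
theorem kap_Z (h : Sd ψ ψ' Λ Z) (hS : TS Z V S ρ) (hS' : TS Z V' S' ρ) (hV : V.map ψ = V'.map ψ')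
    {s s' e : Γ} (hs : s ∈ S) (hs' : s' ∈ S') (he : e ∈ Z) :
    Commute (ψ s * ψ' s' * (ψ s)⁻¹ * (ψ' s')⁻¹) (ψ e) := by
  obtain ⟨v, hv, e1⟩ : ψ (s⁻¹ * e * s⁻¹⁻¹ * e⁻¹) ∈ V'.map ψ' := hV ▸ ⟨_, hS.br e he _ (inv_mem hs), rfl⟩
  have c1 : Commute (ψ' s') (ψ e) := h.cz he s'
  have c2 : Commute (ψ' s') ((ψ s)⁻¹ * ψ e * ψ s) := by
    have : (ψ s)⁻¹ * ψ e * ψ s = ψ' v * ψ e := by rw [e1]; simp
    rw [this]
    exact Commute.mul_right (Commute.map (mem_C.1 (hS'.SC hs') v hv).symm ψ') c1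
  calc _ = ψ s * (ψ' s' * ((ψ s)⁻¹ * ψ e * ψ s)) * (ψ s)⁻¹ * (ψ' s')⁻¹ := by
        rw [mul_assoc _ _ (ψ e), c1.inv_left.eq]; group
    _ = _ := by rw [c2.eq]; group

theorem S_cent (hb : Base Γ) (hR : RD z b Λ Z) (hT : TC Λ Z ρ) (h : Sd ψ ψ' Λ Z) (h' : Sd ψ' ψ Λ Z)
    (hVΛ : V ≤ Λ) (hS : TS Z V S ρ) (hS' : TS Z V' S' ρ) (hV : V.map ψ = V'.map ψ') :
    S.map ψ ≤ C[S'.map ψ'] := by
  have := Fact.mk Nat.prime_two
  have cV : ∀ s' ∈ S', ∀ v ∈ V, Commute (ψ' s') (ψ v) := fun s' hs' v hv => by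
    obtain ⟨w, hw, e⟩ : ψ v ∈ V'.map ψ' := hV ▸ ⟨v, hv, rfl⟩
    exact e ▸ Commute.map (mem_C.1 (hS'.SC hs') w hw).symm ψ'
  have k1 : ∀ s ∈ S, ∀ s' ∈ S', ∃ e ∈ Z, ∃ u ∈ S', ψ s * ψ' s' * (ψ s)⁻¹ = ψ e * ψ' u := fun s hs s' hs' => by
    have c1 : ∀ e ∈ Z, Commute (ψ s * ψ' s' * (ψ s)⁻¹ * (ψ' s')⁻¹) (ψ' e) := fun e he => by
      simpa [mul_assoc] using (kap_Z h' hS' hS hV.symm hs' hs he).inv_left
    obtain ⟨x, hx, -, -, x1, -⟩ := exists_two hR.card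
    obtain ⟨s0, h0, k, hk, e⟩ := star hR hT h.inj hVΛ hS (h'.nrm h hT hx x1 (by
      rw [(c1 x hx).eq, mul_inv_cancel_right]; exact h'.syl.le ⟨x, hx, rfl⟩)) (fun v hv => by
      have a := Commute.map (mem_C.1 (hS.SC hs) v hv).symm ψ
      have b := cV s' hs' v hv
      exact ((a.mul_left b).mul_left a.inv_left).mul_left b.inv_left) fun e he => kap_Z h hS hS' hV hs hs' he
    have k2 : k * k = 1 := by
      have a1 : ψ s * (ψ s0 * k) * (ψ s)⁻¹ * (ψ s0 * k) = 1 := by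
        rw [← e]
        calc _ = ψ (s * s) * ψ' s' * (ψ (s * s))⁻¹ * (ψ' s')⁻¹ := by rw [map_mul]; group
          _ = 1 := by rw [← (cV s' hs' _ (hS.sq s hs)).eq]; group
      have a2 : ψ (s * s0 * s⁻¹ * s0) * (k * k) = 1 := by
        rw [← a1, mul_assoc _ (ψ s)⁻¹, ← mul_assoc (ψ s)⁻¹, ← map_inv, ← map_mul ψ s⁻¹, mul_assoc (ψ s),
          mul_assoc (ψ s0) k, ← mul_assoc k, ← mem_C_range.1 hk]
        simp [mul_assoc]
      rwa [AK hb h.inj (a := s * s0 * s⁻¹ * s0) (by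
        rw [eq_inv_of_mul_eq_one_left a2]; exact inv_mem (mul_mem hk hk)), map_one, one_mul] at a2
    have k3 : k ∈ C[Z.map ψ'] := mem_C.2 (by
      rintro _ ⟨x, hx, rfl⟩
      have := (c1 x hx).eq
      rw [e, mul_assoc, ← mul_assoc (ψ' x), ← h'.cz hx, mul_assoc] at this
      exact (mul_left_cancel this).symm)
    have k4 : k ∈ Z.map ψ' := by
      rw [← h'.syl.eq_of_le (Q := zpowers k ⊔ Z.map ψ') (fun ⟨y, hy⟩ => ⟨1, Subtype.ext ?_⟩)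
        (sup_le (zpowers_le_of_mem hk) h'.syl.le) le_sup_right]
      · exact mem_sup_left (mem_zpowers k)
      · have el : ∀ y ∈ Z.map ψ', y * y = 1 := by
          rintro _ ⟨x, hx, rfl⟩; rw [← map_mul, hT.el x hx, map_one]
        show y ^ 2 ^ 1 = 1
        rw [pow_one, sq]
        rcases (mem_sup_zp k2 (C_le_N k3)).1 hy with a | a
        · exact el y a
        · have := el _ a
          rwa [mul_assoc, ← mem_C.1 k3 _ a, mul_assoc y k k, k2, mul_one] at this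
    obtain ⟨x, hx, rfl⟩ := k4
    obtain ⟨y, hy, v, hv, rfl⟩ := (H83.mem_sup_right_norm fun y hy => C_le_N (hS.SC (hS.ZS hy))).1 h0
    obtain ⟨w, hw, e2⟩ : ψ v ∈ V'.map ψ' := hV ▸ ⟨v, hv, rfl⟩
    exact ⟨y, hy, w * x * s', mul_mem (mul_mem (hS'.VS hw) (hS'.ZS hx)) hs', by
      rw [mul_inv_eq_iff_eq_mul.1 e, map_mul, ← e2]; simp [mul_assoc]⟩
  have k2 : ∀ s ∈ S, ψ s ∈ N[S'.map ψ'] := fun s hs => mem_N_of fun x hx => by
    rw [← hS'.com, map_commutator] at hx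
    refine (commutator_le.2 ?_ : _ ≤ (S'.map ψ').comap (MulAut.conj (ψ s)).toMonoidHom) hx
    rintro _ ⟨s', hs', rfl⟩ _ ⟨r, hr, rfl⟩
    obtain ⟨e, he, u, hu, e1⟩ := k1 s hs s' hs'
    have c : ψ s * ψ' r * (ψ s)⁻¹ = ψ' r := by
      obtain ⟨i, rfl⟩ := hr
      rw [map_zpow, ((show Commute (ψ s) (ψ' ρ) from mem_C_range.1 (rho_mem hR hT h' h) s).zpow_right i).eq,
        mul_inv_cancel_right]
    refine ⟨u * (r * u⁻¹ * r⁻¹), mul_mem hu (norm_conj (zpowers_le_of_mem hS'.rN hr) (inv_mem hu)), ?_⟩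
    calc _ = ψ e * ψ' (u * r * u⁻¹) * (ψ e)⁻¹ * (ψ' r)⁻¹ := by rw [← h.cz he]; simp [mul_assoc]
      _ = ψ e * ψ' u * ψ' r * (ψ e * ψ' u)⁻¹ * (ψ' r)⁻¹ := by simp [mul_assoc]
      _ = ψ s * ψ' s' * (ψ s)⁻¹ * (ψ s * ψ' r * (ψ s)⁻¹) * (ψ s * ψ' s' * (ψ s)⁻¹)⁻¹ *
          (ψ s * ψ' r * (ψ s)⁻¹)⁻¹ := by rw [← e1, c]
      _ = _ := by simp [commutatorElement_def, mul_assoc]
  rw [← hS.com, map_commutator]
  refine commutator_le.2 ?_
  rintro _ ⟨s, hs, rfl⟩ _ ⟨_, ⟨i, rfl⟩, rfl⟩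
  have c : ψ (ρ ^ i) ∈ C[S'.map ψ'] := by
    rw [map_zpow]; exact zpow_mem (centralizer_le (map_le_range _ _) (rho_mem hR hT h h')) i
  exact mul_mem (C_conj (k2 s hs) c) (inv_mem c)

theorem core (hb : Base Γ) (hR : RD z b Λ Z) (hT : TC Λ Z ρ) (h : Sd ψ ψ' Λ Z) (h' : Sd ψ' ψ Λ Z) :
    False := by
  obtain ⟨V, hVΛ, el, hc⟩ := hT.ex
  have l1 := (map_mono hVΛ).trans (lam_le hR hT h h')
  have hV : V.map ψ = ((V.map ψ).comap ψ').map ψ' := (map_comap_eq_self (l1.trans (map_le_range _ _))).symm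
  have hV' : (V.map ψ).comap ψ' ≤ Λ := fun x hx => (mem_map_iff_mem h'.inj).1 (l1 hx)
  have el' : El ((V.map ψ).comap ψ') := fun x ⟨v, hv, e⟩ =>
    h'.inj (by rw [map_mul, ← e, ← map_mul, el v hv, map_one, map_one])
  obtain ⟨S, hS⟩ := hT.all V hVΛ el hc
  obtain ⟨S', hS'⟩ := hT.all _ hV' el' (by
    rw [← card_map_of_injective h'.inj, ← hV, card_map_of_injective h.inj, hc])
  generalize (V.map ψ).comap ψ' = V' at hV hV' el' hS'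
  have sc := S_cent hb hR hT h h' hVΛ hS hS' hV
  obtain ⟨v, hv, v1, hf⟩ := hS.fix
  obtain ⟨e, he, e', he', e1, e2, e3⟩ := exists_two hR.card
  obtain ⟨v', hv', ev⟩ : ψ v ∈ V'.map ψ' := hV ▸ ⟨v, hv, rfl⟩
  obtain ⟨s, hs, es⟩ := hS'.onto e he e1 v' hv'
  have hw' := hS'.br e' he' s hs
  obtain ⟨w, hw, ew⟩ : ψ' (s * e' * s⁻¹ * e'⁻¹) ∈ V.map ψ := hV ▸ ⟨_, hw', rfl⟩
  have key : ∀ x ∈ Z, x ≠ 1 → s * x = x * s → False := fun x hx x1 hc => by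
    have : Z ⊔ V' ≤ Cz e := sup_le (fun y hy => mem_Cz.2 (comm_of_sq hT.el hy he))
      fun y hy => mem_Cz.2 (mem_C.1 (hR.rc.ZC he) y (hV' hy))
    rw [mem_Cz.1 (this (hS'.ce x hx x1 s hs hc)), mul_inv_cancel_right, mul_inv_cancel] at es
    exact v1 (h.inj (by rw [← ev, ← es, map_one, map_one]))
  have a1 : ψ' s * ψ' e * (ψ' s)⁻¹ = ψ v * ψ' e := by rw [← ev, ← es]; simp
  have a2 : ψ' s * ψ' e' * (ψ' s)⁻¹ = ψ w * ψ' e' := by rw [ew]; simp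
  have cs : ∀ x ∈ S, Commute (ψ' s) (ψ x) := fun x hx => mem_C.1 (sc ⟨x, hx, rfl⟩) _ ⟨s, hs, rfl⟩
  refine (hf w hw fun n hn hc => ?_).elim (fun e => ?_) fun e => ?_
  rotate_left
  · exact key e' he' e2 (h'.inj (by rw [map_mul, map_mul, ← mul_inv_eq_iff_eq_mul, a2, e, map_one, one_mul]))
  · subst e
    refine key _ (mul_mem he he') (fun e => e3 ?_) (h'.inj ?_)
    · rw [eq_inv_of_mul_eq_one_left e, inv_eq_of_mul_eq_one_right (hT.el e' he')]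
    · rw [map_mul, map_mul ψ' _ s, ← mul_inv_eq_iff_eq_mul, map_mul, ← conj_mul, a1, a2, mul_assoc,
        ← mul_assoc (ψ' e), ← h'.cz he, ← mul_assoc, ← mul_assoc, ← map_mul, el w hw, map_one, one_mul]
  have cj : ∀ x ∈ S, Commute ((ψ' s)⁻¹ * (ψ n * ψ' s * (ψ n)⁻¹)) (ψ x) := fun x hx => by
    refine (cs x hx).inv_left.mul_left ?_
    have := comm_conj_iff (g := ψ n).2 (cs _ (norm_conj' (hS.NN hn) hx)).eq
    simpa [mul_assoc, commute_iff_eq] using this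
  have a3 : ∀ x ∈ Z, ∀ y ∈ V, ψ' s * ψ' x * (ψ' s)⁻¹ = ψ y * ψ' x →
      (ψ' s)⁻¹ * (ψ n * ψ' s * (ψ n)⁻¹) * ψ' x * ((ψ' s)⁻¹ * (ψ n * ψ' s * (ψ n)⁻¹))⁻¹ =
        ψ (n * y * n⁻¹ * y⁻¹) * ψ' x := fun x hx y hy e => by
    have c1 : (ψ n)⁻¹ * ψ' x * ψ n = ψ' x := by rw [mul_assoc, ← h'.cz hx, inv_mul_cancel_left]
    have c2 := (cs _ (hS.VS (mul_mem (norm_conj hn hy) (inv_mem hy)))).inv_left.eq
    calc _ = (ψ' s)⁻¹ * (ψ n * (ψ' s * ((ψ n)⁻¹ * ψ' x * ψ n) * (ψ' s)⁻¹) * (ψ n)⁻¹) * ψ' s := by group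
      _ = (ψ' s)⁻¹ * (ψ n * ψ y * ((ψ n)⁻¹ * ψ' x * ψ n) * (ψ n)⁻¹) * ψ' s := by rw [c1, e]; group
      _ = (ψ' s)⁻¹ * ψ (n * y * n⁻¹ * y⁻¹) * (ψ y * ψ' x) * ψ' s := by simp [mul_assoc]
      _ = _ := by rw [c2, ← e]; group
  obtain ⟨s0, -, k, hk, ek⟩ := star hR hT h.inj hVΛ hS (h'.nrm h hT he e1 (by
    rw [a3 e he v hv a1, hc, mul_inv_cancel_right, mul_inv_cancel, map_one, one_mul]
    exact h'.syl.le ⟨e, he, rfl⟩)) (fun x hx => cj x (hS.VS hx)) fun x hx => cj x (hS.ZS hx)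
  have a4 := a3 e' he' w hw a2
  have m : ψ' e' ∈ C[ψ.range] := h'.syl.le ⟨e', he', rfl⟩
  rw [ek, ← mul_inv_eq_iff_eq_mul] at a4
  have := AK hb h.inj (a4 ▸ mul_mem (C_conj (mul_mem (le_normalizer (MonoidHom.mem_range.2 ⟨s0, rfl⟩))
    (C_le_N hk)) m) (inv_mem m))
  rwa [mul_inv_eq_one, mul_inv_eq_iff_eq_mul] at this

theorem step1 {φ : Γ →* G} (hb : Base Γ) (hi : Function.Injective φ) (hA : IsStandardSubgroup φ.range)
    (hR : RD z b Λ Z) (hT : TC Λ Z ρ) {g : G} (hg : g ∉ N[φ.range]) {c : Γ} {T : Subgroup G}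
    (hP : PG φ g b Λ Z c T) : Z.map (φ.comp (MulAut.conj c).toMonoidHom) = T := by
  obtain ⟨h1, -, h3, -⟩ := red_data hA hg
  have key : ∀ k ∈ MulAut.conj g • C[φ.range], k ∈ C[φ.range] → (∃ n, k ^ 2 ^ n = 1) → k = 1 :=
    fun k a b ⟨n, hn⟩ => eq_one_of_odd_two (h1.of_dvd_nat (orderOf_dvd_natCard _ (mem_inf.2 ⟨a, b⟩))) hn
  refine eq_of_le_of_card_ge ?_ (by
    rw [hP.card, card_map_of_injective (f := φ.comp (MulAut.conj c).toMonoidHom)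
      (hi.comp (MulAut.conj c).injective), hR.card])
  rintro _ ⟨e, he, rfl⟩
  by_cases e1 : e = 1
  · rw [e1, map_one]; exact one_mem _
  obtain ⟨k, hk, hx⟩ := hP.all e he
  have x2 : φ (c * e * c⁻¹) * k * (φ (c * e * c⁻¹) * k) = k * k := by
    rw [mul_assoc, ← mul_assoc k, ← mem_C_range.1 hk, ← mul_assoc, ← mul_assoc, ← map_mul, conj_mul,
      hT.el e he]
    simp
  have k2 : k * k = 1 := key _ (x2 ▸ (hP.syl.le (mul_mem hx hx)).1) (mul_mem hk hk)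
    (x2 ▸ (hP.syl.isPGroup ⟨_, mul_mem hx hx⟩).imp fun n hn => congrArg Subtype.val hn)
  obtain ⟨e', he', d, hd, ed⟩ := hT.br e he
  obtain ⟨k', hk', hx'⟩ := hP.all e' he'
  have n1 : φ (c * d * c⁻¹) ∈ N[(MulAut.conj g • φ.range : Subgroup G)] :=
    h3 _ (hP.syl.le hx).1 (ord_of_sq (x2.trans k2) fun e => e1 (conj_eq_one_iff.1
      (AK hb hi (eq_inv_of_mul_eq_one_left e ▸ inv_mem hk)))) (mem_centralizer_singleton_iff.2 (by
      rw [mul_assoc _ k, ← mem_C_range.1 hk, ← mul_assoc, ← mul_assoc, ← map_mul, ← map_mul,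
        comm_conj_iff.2 hd]))
  have m1 : φ (c * e * c⁻¹) ∈ MulAut.conj g • C[φ.range] := by
    have a := (hP.syl.le hx').1
    rw [← centralizer_conj_smul] at a ⊢
    have := mul_mem (C_conj n1 a) (inv_mem a)
    rw [← mul_assoc, mul_assoc _ k', ← map_inv, ← mem_C_range.1 hk'] at this
    rw [← ed]
    simpa [mul_assoc] using this
  rw [key k ((mul_mem_cancel_left m1).1 (hP.syl.le hx).1) hk ⟨1, by rw [pow_one, sq, k2]⟩, mul_one] at hx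
  exact hx

theorem redS (hL : RedLStmt.{u}) : RedSStmt.{u} := by
  intro Γ _ G _ _ φ hb hi hA z b Λ Z ρ hR hT g hg c T c' T' hP hP'
  have hg' : g⁻¹ ∉ N[φ.range] := fun h => hg (inv_mem_iff.1 h)
  obtain ⟨a1, a2⟩ := hL Γ G φ hb hi hA z b Λ Z hR g hg c T c' T' hP hP'
  obtain ⟨b1, b2⟩ := hL Γ G φ hb hi hA z b Λ Z hR g⁻¹ hg' c' T' c T hP' (by rwa [inv_inv])
  have r : ∀ c : Γ, (φ.comp (MulAut.conj c).toMonoidHom).range = φ.range := fun c => by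
    rw [MonoidHom.range_comp, MonoidHom.range_eq_top.2 (MulAut.conj c).surjective, ← MonoidHom.range_eq_map]
  have i : ∀ c : Γ, Function.Injective (φ.comp (MulAut.conj c).toMonoidHom) :=
    fun c => hi.comp (MulAut.conj c).injective
  refine core (ψ := φ.comp (MulAut.conj c).toMonoidHom)
    (ψ' := (MulAut.conj g).toMonoidHom.comp (φ.comp (MulAut.conj c').toMonoidHom)) hb hR hT
    ⟨i c, (r c).symm ▸ hA, ?_, fun l hl => ?_⟩ ⟨(MulAut.conj g).injective.comp (i c'), ?_, ?_, fun l hl => ?_⟩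
  · rw [step1 hb hi hA hR hT hg hP, range_conj, r, centralizer_conj_smul, ← inf_eq_left.2 a1]
    exact hP.syl
  · rw [range_conj, r]; exact a2 l hl
  · rw [range_conj, r]; exact std_conj hA g
  · rw [← map_map, step1 hb hi hA hR hT hg' hP', r, map_conj_eq_smul, ← conj_smul_conj_inv_smul C[φ.range] g,
      ← inf_eq_left.2 b1]
    exact hP'.syl.conj_smul g
  · rw [r]
    simpa [mul_assoc] using mem_conj.1 (b2 l hl)

end Cfsg.Agent.H24.S95
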