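import Mathlib
import Cfsg.Agent.H24.Deg
import Cfsg.Agent.H3.Frattini
import Cfsg.Agent.H1.Nilp

/-!
# The Broline–Garrison theorem on kernels and degrees
-/

set_option autoImplicit false
set_option linter.unusedSectionVars false

namespace Cfsg.Agent.H24

open Cfsg Cfsg.Agent.H11

variable {G : Type*} [Group G]

theorem mem_normalCore_of_indFun_one [Fintype G] (H : Subgroup G) {g : G}
    (h : indFun H (fun _ => 1) g = H.index) : g ∈ H.normalCore := by
  rw [H14.indFun_one_eq_card_fixedBy] at h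
  have h1 : Nat.card (MulAction.fixedBy (G ⧸ H) g) = Nat.card (G ⧸ H) := by exact_mod_cast h
  have h2 : MulAction.fixedBy (G ⧸ H) g = Set.univ := by
    rw [Nat.card_coe_set_eq] at h1
    exact Set.eq_of_subset_of_ncard_le (Set.subset_univ _) (by rw [h1, Set.ncard_univ])
  rw [Subgroup.normalCore_eq_ker, MonoidHom.mem_ker]
  ext x
  have : x ∈ MulAction.fixedBy (G ⧸ H) g := h2 ▸ Set.mem_univ x
  exact this

/-- If `χ_H` is irreducible and no irreducible character above it has larger degree, then `χ`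
vanishes on `H` outside the core of `H`. -/
theorem mem_normalCore_of_forall_deg_le [Finite G] (H : Subgroup G) [Fintype H] {χ : G → ℂ}
    (hχ : IsCharacter G χ) (hr : IsIrrCharacter H (fun x : H => χ x))
    (hd : ∀ ψ, IsIrrCharacter G ψ → classInner (fun x : H => ψ x) (fun x : H => χ x) ≠ 0 →
      charDegree ψ ≤ charDegree χ) {g : G} (hg : g ∈ H) (h0 : χ g ≠ 0) : g ∈ H.normalCore := by
  have := Fintype.ofFinite G
  have hφ := H14.indFun_isClassFunction H (fun x : H => χ x)
  have h1 := H14.eq_inner_smul_of_unique (isClassFunction_restrict hφ H) hr (fun ξ hξ h => by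
    obtain ⟨ψ, hψ, h2, h3⟩ := H14.exists_constituent_inner_comp_ne_zero hφ H.subtype h
    rw [H14.classInner_indFun_left _ _ (isClassFunction_of_irr hψ), classInner_ne_zero_comm] at h2
    have h4 := res_eq_of_over_of_deg_le H (isCharacter_of_irr hψ) hr h2 (hd ψ hψ h2)
    have h5 : classInner (fun x : H => ψ x) ξ ≠ 0 := h3
    rw [h4] at h5
    exact (irr_eq_of_classInner_ne_zero hr hξ h5).symm)
  set c := classInner (fun h : H => indFun H (fun x : H => χ x) h) (fun x : H => χ x)
  have h2 := congrFun h1 1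
  have h3 := congrFun h1 ⟨g, hg⟩
  simp only [Pi.smul_apply, smul_eq_mul, OneMemClass.coe_one, H14.indFun_one] at h2 h3
  have h4 : (H.index : ℂ) = c := mul_right_cancel₀ (irr_apply_one_ne_zero hr) h2
  rw [H14.indFun_res H (isClassFunction_of_isCharacter hχ), Pi.mul_apply] at h3
  apply mem_normalCore_of_indFun_one
  rw [h4]
  exact mul_right_cancel₀ h0 h3

theorem res_isIrr_of_sup_charKer [Finite G] (H : Subgroup G) {χ : G → ℂ}
    (hχ : IsIrrCharacter G χ) (h : charKer χ ⊔ H = ⊤) : IsIrrCharacter H (fun x : H => χ x) := by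
  have := charKer_normal (isClassFunction_of_irr hχ)
  obtain ⟨ψ, hψ, h1⟩ := exists_irr_lift hχ (charKer χ) le_rfl
  have h2 : Function.Surjective ((QuotientGroup.mk' (charKer χ)).comp H.subtype) := by
    intro x
    obtain ⟨g, rfl⟩ := QuotientGroup.mk_surjective x
    have hg : g ∈ H ⊔ charKer χ := by rw [sup_comm, h]; trivial
    obtain ⟨a, ha, b, hb, rfl⟩ := Subgroup.mem_sup_of_normal_right.1 hg
    exact ⟨⟨a, ha⟩, by simp [(QuotientGroup.eq_one_iff b).2 hb]⟩
  have h3 := isIrrCharacter_comp_of_surjective hψ _ h2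
  have h4 : (fun x : H => χ x) =
      fun x : H => ψ (((QuotientGroup.mk' (charKer χ)).comp H.subtype) x) :=
    funext fun x => (h1 x).symm
  rwa [h4]

theorem broline_aux [Finite G] {χ : G → ℂ} (hχ : IsIrrCharacter G χ) (L P : Subgroup G) [L.Normal]
    {p : ℕ} [Fact p.Prime] (hP : IsPGroup p P) (hPi : ¬ p ∣ P.relIndex L)
    (hL : charKer χ ⊔ P = L) (hPn : ¬ P.Normal)
    (hmin : ∀ M : Subgroup G, M.Normal → charKer χ ≤ M → M ≤ L → M = charKer χ ∨ M = L) :
    ∃ ψ, IsIrrCharacter G ψ ∧ charDegree χ < charDegree ψ ∧ charKer ψ < charKer χ := by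
  classical
  have := Fintype.ofFinite G
  have hKn := charKer_normal (isClassFunction_of_irr hχ)
  set K := charKer χ with hK
  have hPL : P ≤ L := hL ▸ le_sup_right
  have hKL : K ≤ L := hL ▸ le_sup_left
  obtain ⟨H, hH, hNH⟩ := H3.exists_coatom_ge (H := Subgroup.normalizer (P : Set G))
    (fun h => hPn (Subgroup.normalizer_eq_top_iff.1 h))
  have hPH : P ≤ H := Subgroup.le_normalizer.trans hNH
  have hKH : K ⊔ H = ⊤ := by
    have h1 := H3.frattini_argument hPL hP hPi
    rw [eq_top_iff, ← h1, ← hL]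
    exact sup_le (hNH.trans le_sup_right) (sup_le le_sup_left (hPH.trans le_sup_right))
  have hr := res_isIrr_of_sup_charKer H hχ hKH
  by_cases hd : ∀ ψ, IsIrrCharacter G ψ →
      classInner (fun x : H => ψ x) (fun x : H => χ x) ≠ 0 → charDegree ψ ≤ charDegree χ
  · exfalso
    have hv := fun g hg h0 =>
      mem_normalCore_of_forall_deg_le H (isCharacter_of_irr hχ) hr hd (g := g) hg h0
    have hKC : K ⊓ H ≤ H.normalCore := fun g hg => hv g hg.2 (by
      rw [apply_eq_of_mem_charKer hg.1]; exact irr_apply_one_ne_zero hχ)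
    have hPC : ¬ P ≤ H.normalCore := by
      intro h
      have h1 := H3.frattini_argument (N := H.normalCore ⊓ L) (le_inf h hPL) hP (fun h2 => hPi
        (h2.trans (Dvd.intro _ (Subgroup.relIndex_mul_relIndex _ _ _ (le_inf h hPL) inf_le_right))))
      apply hH.1
      rw [eq_top_iff, ← h1]
      exact sup_le hNH (inf_le_left.trans H.normalCore_le)
    have hb : H.normalCore ⊓ L ⊔ K ≠ L := by
      intro h
      apply hPC
      intro x hx
      have h1 : x ∈ H.normalCore ⊓ L ⊔ K := by rw [h]; exact hPL hx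
      obtain ⟨a, ha, b, hb, rfl⟩ := Subgroup.mem_sup_of_normal_right.1 h1
      have h2 : b ∈ H := by
        have := H.mul_mem (H.inv_mem (H.normalCore_le ha.1)) (hPH hx)
        rwa [inv_mul_cancel_left] at this
      exact H.normalCore.mul_mem ha.1 (hKC ⟨hb, h2⟩)
    have hc := (hmin _ inferInstance le_sup_right (sup_le inf_le_right hKL)).resolve_right hb
    have hz : ∀ x ∈ L, x ∉ K → χ x = 0 := by
      intro x hx hxK
      have h1 : x ∈ K ⊔ H := by rw [hKH]; trivial
      obtain ⟨a, ha, b, hb, rfl⟩ := Subgroup.mem_sup_of_normal_left.1 h1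
      rw [apply_mul_of_mem_charKer ha]
      by_contra h0
      have h2 : b ∈ L := by
        have := L.mul_mem (L.inv_mem (hKL ha)) hx
        rwa [inv_mul_cancel_left] at this
      have h3 : b ∈ K := by
        rw [← hc]; exact Subgroup.mem_sup_left ⟨hv b hb h0, h2⟩
      exact hxK (K.mul_mem ha h3)
    have hLK : L ≤ K := by
      by_contra h
      have h1 := sum_restrict_eq_zero hχ L h
      rw [← Finset.sum_filter_of_ne (p := fun x : L => (x : G) ∈ K)
        (fun x _ h0 => by by_contra h2; exact h0 (hz x x.2 h2)),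
        Finset.sum_congr rfl (g := fun _ => χ 1)
          (fun x hx => apply_eq_of_mem_charKer (Finset.mem_filter.1 hx).2),
        Finset.sum_const, nsmul_eq_mul, mul_eq_zero] at h1
      rcases h1 with h1 | h1
      · have : (1 : L) ∈ Finset.univ.filter fun x : L => (x : G) ∈ K := by
          simp
        exact Finset.card_ne_zero_of_mem this (by exact_mod_cast h1)
      · exact irr_apply_one_ne_zero hχ h1
    exact hb (hc.trans (le_antisymm hKL hLK))
  · push Not at hd
    obtain ⟨ψ, hψ, h1, h2⟩ := hd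
    refine ⟨ψ, hψ, h2, ?_⟩
    have hMH : charKer ψ ≤ H := by
      by_contra h
      have h3 : charKer ψ ⊔ H = ⊤ :=
        hH.2 _ (lt_of_le_of_ne le_sup_right fun h' => h (h' ▸ le_sup_left))
      have h4 := irr_eq_of_classInner_ne_zero (res_isIrr_of_sup_charKer H hψ h3) hr h1
      exact h2.ne (deg_congr (congrFun h4 1).symm)
    have hMK : charKer ψ ≤ K := by
      intro x hx
      have h3 := charKer_le_of_constituent (isCharacter_restrict (isCharacter_of_irr hψ) H) hr h1
      have h4 : (⟨x, hMH hx⟩ : H) ∈ charKer (fun y : H => ψ y) := fun y => hx y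
      have h5 := apply_eq_of_mem_charKer (h3 h4)
      exact (mem_charKer_irr_iff hχ).2 h5
    refine lt_of_le_of_ne hMK fun h => hH.1 ?_
    rw [← hKH, ← h, sup_eq_right.2 hMH]

theorem exists_sylow_not_normal [Finite G] (L : Subgroup G) [L.Normal]
    (h : ¬ Group.IsNilpotent L) : ∃ (p : ℕ) (P : Subgroup G), p.Prime ∧ IsPGroup p P ∧ P ≤ L ∧
      ¬ p ∣ P.relIndex L ∧ ¬ P.Normal := by
  by_contra hc
  apply h
  apply H3.isNilpotent_of_sylow_normal
  intro p hp Q
  by_contra hn
  refine hc ⟨p, (Q : Subgroup L).map L.subtype, hp.out, Q.isPGroup'.map _,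
    Subgroup.map_subtype_le _, ?_, fun h1 => hn ?_⟩
  · rw [Subgroup.relIndex, Subgroup.subgroupOf, Subgroup.comap_map_eq_self_of_injective
      L.subtype_injective]
    exact Q.not_dvd_index
  · have := h1.comap L.subtype
    rwa [Subgroup.comap_map_eq_self_of_injective L.subtype_injective] at this

/-- Broline's theorem. -/
theorem exists_deg_gt_of_not_isNilpotent [Finite G] {χ : G → ℂ} (hχ : IsIrrCharacter G χ)
    (h : ¬ Group.IsNilpotent (charKer χ)) :
    ∃ ψ, IsIrrCharacter G ψ ∧ charDegree χ < charDegree ψ ∧ charKer ψ < charKer χ := by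
  have hKn := charKer_normal (isClassFunction_of_irr hχ)
  obtain ⟨p, P, hp, h1, h2, h3, h4⟩ := exists_sylow_not_normal _ h
  have := Fact.mk hp
  exact broline_aux hχ (charKer χ) P h1 h3 (sup_eq_left.2 h2) h4
    (fun M _ h5 h6 => Or.inl (le_antisymm h6 h5))

/-- Garrison's theorem. -/
theorem exists_deg_gt_of_eq_fitting [Finite G] [Group.IsSolvable G] {χ : G → ℂ}
    (hχ : IsIrrCharacter G χ) (h : charKer χ = fittingSubgroup G) (hne : charKer χ ≠ ⊤) :
    ∃ ψ, IsIrrCharacter G ψ ∧ charDegree χ < charDegree ψ ∧ charKer ψ < charKer χ := by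
  have hKn := charKer_normal (isClassFunction_of_irr hχ)
  obtain ⟨L, hL, hKL, -, hmin⟩ := H3.exists_chief_factor (lt_top_iff_ne_top.2 hne)
  obtain ⟨-, q, hq, -, n, -, hn⟩ := H3.chief_factor_elementary inferInstance hKL hmin
  obtain ⟨p, P, hp, h1, h2, h3, h4⟩ := exists_sylow_not_normal L
    (fun h5 => hKL.not_ge (h ▸ H3.le_fitting h5))
  have := Fact.mk hp
  have hPK : ¬ P ≤ charKer χ := by
    intro h5
    have h6 : P ≤ pCore p G := H3.le_pCore_of_le_fitting h1 (h ▸ h5)
    have h7 : pCore p G ≤ L := (H3.pCore_le_fitting.trans h.ge).trans hKL.le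
    obtain ⟨k, hk⟩ := (H3.pCore_isPGroup p G).index (P.subgroupOf (pCore p G))
    have h8 : P.relIndex (pCore p G) ∣ P.relIndex L :=
      Dvd.intro _ (Subgroup.relIndex_mul_relIndex _ _ _ h6 h7)
    rcases k with _ | k
    · have h9 : pCore p G ≤ P := Subgroup.relIndex_eq_one.1 (by simpa using hk)
      have := H3.pCore_characteristic p G
      exact h4 (le_antisymm h9 h6 ▸ inferInstance)
    · exact h3 ((dvd_pow_self p (Nat.succ_ne_zero k)).trans (hk ▸ h8))
  have hpq : p = q := by
    obtain ⟨k, hk⟩ := h1.index ((charKer χ).subgroupOf P)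
    have h5 : (charKer χ).relIndex P ∣ (charKer χ).relIndex L := by
      rw [← Subgroup.relIndex_subgroupOf h2]
      exact Subgroup.relIndex_dvd_index_of_normal _ _
    rcases k with _ | k
    · exact absurd (Subgroup.relIndex_eq_one.1 (by simpa using hk)) hPK
    · rw [hn, Subgroup.relIndex, hk] at h5
      exact (Nat.prime_dvd_prime_iff_eq hp hq).1 (hp.dvd_of_dvd_pow
        ((dvd_pow_self p (Nat.succ_ne_zero k)).trans h5))
  subst hpq
  refine broline_aux hχ L P h1 h3 ?_ h4 hmin
  have h5 : charKer χ ⊔ P ≤ L := sup_le hKL.le h2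
  refine le_antisymm h5 (Subgroup.relIndex_eq_one.1 ?_)
  have h6 := Subgroup.relIndex_dvd_of_le_left L (le_sup_left (a := charKer χ) (b := P))
  have h7 := Subgroup.relIndex_dvd_of_le_left L (le_sup_right (a := charKer χ) (b := P))
  rw [hn] at h6
  obtain ⟨k, -, hk⟩ := (Nat.dvd_prime_pow hp).1 h6
  rcases k with _ | k
  · simpa using hk
  · exact absurd ((dvd_pow_self p (Nat.succ_ne_zero k)).trans (hk ▸ h7)) h3

/-- The kernel of an irreducible character of maximal degree is nilpotent. -/
theorem isNilpotent_charKer_of_max [Finite G] {χ : G → ℂ} (hχ : IsIrrCharacter G χ)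
    (h : ∀ d ∈ charDegrees G, d ≤ charDegree χ) : Group.IsNilpotent (charKer χ) := by
  by_contra hc
  obtain ⟨ψ, hψ, h1, -⟩ := exists_deg_gt_of_not_isNilpotent hχ hc
  exact h1.not_ge (h _ (deg_mem_cd hψ))

theorem exists_irr_max (G : Type*) [Group G] [Finite G] :
    ∃ χ, IsIrrCharacter G χ ∧ ∀ d ∈ charDegrees G, d ≤ charDegree χ := by
  obtain ⟨d, hd, h⟩ := Set.exists_max_image (charDegrees G) id cd_finite ⟨1, one_mem_cd⟩
  obtain ⟨χ, hχ, rfl⟩ := mem_cd.1 hd
  exact ⟨χ, hχ, h⟩

/-- For solvable `G > F(G)`, the largest degree of `G` is not a degree of `G/F(G)`. -/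
theorem cd_quotient_fitting_ssubset [Finite G] [Group.IsSolvable G]
    [(fittingSubgroup G).Normal] (h : fittingSubgroup G ≠ ⊤) :
    charDegrees (G ⧸ fittingSubgroup G) ⊂ charDegrees G := by
  refine ⟨cd_quotient_subset _, fun hc => ?_⟩
  obtain ⟨χ, hχ, hmax⟩ := exists_irr_max G
  obtain ⟨ψ, hψ, h1, h2⟩ := (mem_cd_quotient_iff _).1 (hc (deg_mem_cd hχ))
  rw [← h2] at hmax
  have := charKer_normal (isClassFunction_of_irr hψ)
  have h3 : charKer ψ = fittingSubgroup G :=
    le_antisymm (H3.le_fitting (isNilpotent_charKer_of_max hψ hmax)) h1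
  obtain ⟨ξ, hξ, h4, -⟩ := exists_deg_gt_of_eq_fitting hψ h3 (h3 ▸ h)
  exact h4.not_ge (hmax _ (deg_mem_cd hξ))

end Cfsg.Agent.H24
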