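import Cfsg.Agent.H17.TwA

/-!
# The dichotomy for the action on the six reflections
-/

set_option autoImplicit false
set_option maxRecDepth 100000
set_option exponentiation.threshold 10000

namespace Cfsg.Agent.H24.A12D

open Equiv Subgroup Cfsg.Agent.H89.TG Cfsg.Agent.H89.Rec Cfsg.Agent.H17.Ya Cfsg.Agent.H17.Tw

universe u

/-! ### Permutations of seven points -/

/-- Generators of the stabiliser of the partition. -/
def pg : ℕ → Perm (Fin 7)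
  | 0 => swap 0 1 * swap 2 3
  | 1 => swap 0 2 * swap 1 3
  | _ => swap 2 4 * swap 3 5

/-- The partner of a point. -/
def ps : Perm (Fin 7) := swap 0 1 * (swap 2 3 * swap 4 5)

/-- The value of a word. -/
def pev : List ℕ → Perm (Fin 7)
  | [] => 1
  | x :: w => pg x * pev w

/-- Words for the stabiliser of the partition. -/
def ws : List (List ℕ) := [[], [0], [1], [2], [0, 1], [0, 2], [1, 2], [2, 0], [2, 1], [0, 1, 2],
  [0, 2, 0], [0, 2, 1], [1, 2, 0], [1, 2, 1], [2, 0, 1], [2, 0, 2], [0, 1, 2, 0], [0, 1, 2, 1],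
  [0, 2, 0, 1], [0, 2, 0, 2], [1, 2, 0, 1], [1, 2, 0, 2], [2, 0, 1, 2], [2, 0, 2, 1]]

/-- The double transposition preserves the partition. -/
abbrev Sd (p q r s : Fin 7) : Prop :=
  (ps p = q ∧ ps r = s) ∨ (ps p = r ∧ ps q = s) ∨ (ps p = s ∧ ps q = r)

set_option synthInstance.maxSize 4000 in
set_option synthInstance.maxHeartbeats 400000 in
theorem key0 : ∀ p0 : Fin 7, p0 ≠ 6 → ∀ p1 : Fin 7, p1 ≠ 6 → p0 ≠ p1 →
    ∀ p2 : Fin 7, p2 ≠ 6 → p0 ≠ p2 → p1 ≠ p2 →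
    ∀ p3 : Fin 7, p3 ≠ 6 → p0 ≠ p3 → p1 ≠ p3 → p2 ≠ p3 → Sd p0 p1 p2 p3 →
    ∀ p4 : Fin 7, p4 ≠ 6 → p0 ≠ p4 → p1 ≠ p4 → p2 ≠ p4 → p3 ≠ p4 →
    ∀ p5 : Fin 7, Sd p2 p3 p4 p5 → ps p0 = p1 ∧ ps p2 = p3 ∧ ps p4 = p5 := by decide +kernel

theorem key1 : ∀ p : Fin 7, p ≠ 6 → ∀ q : Fin 7, q ≠ 6 → p ≠ q →
    ∀ r : Fin 7, r ≠ 6 → p ≠ r → q ≠ r →
    ∀ s : Fin 7, s ≠ 6 → p ≠ s → q ≠ s → r ≠ s → ¬ Sd p q r s → ∃ w ∈ ws,
      swap (pev w p) (pev w q) * swap (pev w r) (pev w s) = swap 0 1 * swap 2 4 ∨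
      swap (pev w p) (pev w q) * swap (pev w r) (pev w s) = swap 0 2 * swap 1 4 := by
  decide +kernel

theorem key2 : ∀ x : Fin 7, x ≠ 6 → ∀ y : Fin 7, y ≠ 6 → x ≠ y →
    (∃ v ∈ ws, swap 0 1 * swap x y = pev v) ∨ ∃ w ∈ ws, pev w 0 = x ∧ pev w 2 = y ∧
      ∃ v ∈ ws, swap 0 1 * swap (pev w 0) (pev w 1) = pev v := by decide +kernel

theorem keyA : swap (0 : Fin 7) 1 * swap 0 2 =
    pev [2, 0, 1] * (swap 0 1 * swap 2 4) * pev [1, 2] := by decide +kernel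

theorem keyB : swap (0 : Fin 7) 1 * swap 0 2 =
    (swap 0 2 * swap 1 4) * pev [0, 1] * (swap 0 2 * swap 1 4) * pev [0] *
      (swap 0 2 * swap 1 4) := by decide +kernel

theorem keyC : swap (2 : Fin 7) 3 * swap 4 5 = pev [0, 2, 0, 2] := by decide +kernel

section Perms

variable {Γ : Subgroup (Perm (Fin 7))}

theorem pev_mem (hg : ∀ x, pg x ∈ Γ) : ∀ w, pev w ∈ Γ
  | [] => Γ.one_mem
  | x :: w => Γ.mul_mem (hg x) (pev_mem hg w)

theorem cj2 {γ : Perm (Fin 7)} (hγ : γ ∈ Γ) {p q r s : Fin 7} (h : swap p q * swap r s ∈ Γ) :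
    swap (γ p) (γ q) * swap (γ r) (γ s) ∈ Γ := by
  have := Γ.mul_mem (Γ.mul_mem hγ h) (Γ.inv_mem hγ)
  rwa [← conj_mul, ← swap_apply_apply, ← swap_apply_apply] at this

theorem t3_of (hg : ∀ x, pg x ∈ Γ) {p q r s : Fin 7} (hp : p ≠ 6) (hq : q ≠ 6) (hr : r ≠ 6)
    (hs : s ≠ 6) (h1 : p ≠ q) (h2 : p ≠ r) (h3 : q ≠ r) (h4 : p ≠ s) (h5 : q ≠ s) (h6 : r ≠ s)
    (hn : ¬ Sd p q r s) (h : swap p q * swap r s ∈ Γ) : swap (0 : Fin 7) 1 * swap 0 2 ∈ Γ := by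
  obtain ⟨w, -, e⟩ := key1 p hp q hq h1 r hr h2 h3 s hs h4 h5 h6 hn
  have h' := cj2 (pev_mem hg w) h
  rcases e with e | e <;> rw [e] at h'
  · rw [keyA]; exact Γ.mul_mem (Γ.mul_mem (pev_mem hg _) h') (pev_mem hg _)
  · rw [keyB]
    exact Γ.mul_mem (Γ.mul_mem (Γ.mul_mem (Γ.mul_mem h' (pev_mem hg _)) h') (pev_mem hg _)) h'

theorem all01 (hg : ∀ x, pg x ∈ Γ) (h : swap (0 : Fin 7) 1 * swap 0 2 ∈ Γ) {x y : Fin 7}
    (hx : x ≠ 6) (hy : y ≠ 6) (hxy : x ≠ y) : swap (0 : Fin 7) 1 * swap x y ∈ Γ := by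
  rcases key2 x hx y hy hxy with ⟨v, -, e⟩ | ⟨w, -, rfl, rfl, v, -, e⟩
  · rw [e]; exact pev_mem hg v
  · have := Γ.mul_mem (e ▸ pev_mem hg v) (cj2 (pev_mem hg w) h)
    rwa [mul_assoc, swap_mul_self_mul] at this

theorem even_mem (h : ∀ x y : Fin 7, x ≠ 6 → y ≠ 6 → x ≠ y → swap (0 : Fin 7) 1 * swap x y ∈ Γ) :
    ∀ (n : ℕ) (τ : Perm (Fin 7)), τ.support.card ≤ n → τ 6 = 6 → Perm.sign τ = 1 → τ ∈ Γ := by
  intro n
  induction n with
  | zero =>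
    intro τ hc _ _
    rw [Perm.support_eq_empty_iff.1 (Finset.card_eq_zero.1 (Nat.le_zero.1 hc))]
    exact Γ.one_mem
  | succ n ih =>
    intro τ hc h6 hs
    by_cases h1 : τ = 1
    · rw [h1]; exact Γ.one_mem
    have h2 : 1 < τ.support.card := Perm.one_lt_card_support_of_ne_one h1
    have h3 : τ.support.card ≠ 2 := fun e => by
      rw [(Perm.card_support_eq_two.1 e).sign_eq] at hs; exact absurd hs (by decide)
    obtain ⟨x, hx⟩ : τ.support.Nonempty := Finset.card_pos.1 (by omega)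
    obtain ⟨y, hy, hy'⟩ : ∃ y ∈ τ.support, y ∉ ({x, τ x} : Finset (Fin 7)) := by
      by_contra hn
      push Not at hn
      have := (Finset.card_le_card (show τ.support ⊆ {x, τ x} from hn)).trans Finset.card_le_two
      omega
    rw [Finset.mem_insert, Finset.mem_singleton, not_or] at hy'
    have hx' : τ x ≠ x := Perm.mem_support.1 hx
    have n6 : ∀ z ∈ τ.support, z ≠ 6 := fun z hz e => Perm.mem_support.1 hz (by rw [e, h6])
    have hτx : τ x ∈ τ.support := Perm.apply_mem_support.2 hx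
    have hγ : swap (τ x) y * swap x (τ x) ∈ Γ := by
      have := Γ.mul_mem (Γ.inv_mem (h _ _ (n6 _ hτx) (n6 _ hy) (Ne.symm hy'.2)))
        (h _ _ (n6 _ hx) (n6 _ hτx) hx'.symm)
      rwa [mul_inv_rev, swap_inv, swap_inv, mul_assoc, swap_mul_self_mul] at this
    have fx : ∀ z, z ∉ τ.support ∨ z = x → (swap (τ x) y * swap x (τ x) * τ) z = z := by
      rintro z (hz | rfl)
      · have a1 : z ≠ x := fun e => hz (e ▸ hx)
        have a2 : z ≠ τ x := fun e => hz (e ▸ hτx)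
        have a3 : z ≠ y := fun e => hz (e ▸ hy)
        rw [Perm.mul_apply, Perm.mul_apply, Perm.notMem_support.1 hz,
          swap_apply_of_ne_of_ne a1 a2, swap_apply_of_ne_of_ne a2 a3]
      · rw [Perm.mul_apply, Perm.mul_apply, swap_apply_right,
          swap_apply_of_ne_of_ne hx'.symm (Ne.symm hy'.1)]
    have := ih (swap (τ x) y * swap x (τ x) * τ) (by
      have hsub : (swap (τ x) y * swap x (τ x) * τ).support ⊆ τ.support.erase x := fun z hz => by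
        by_contra hn
        refine Perm.mem_support.1 hz (fx z ?_)
        rw [Finset.mem_erase, not_and_or, not_not] at hn
        exact hn.symm
      have := Finset.card_le_card hsub
      rw [Finset.card_erase_of_mem hx] at this
      omega) (fx 6 (Or.inl fun hz => n6 6 hz rfl)) (by
      rw [map_mul, map_mul, hs, Perm.sign_swap (Ne.symm hy'.2), Perm.sign_swap hx'.symm]
      decide)
    exact (Γ.mul_mem_cancel_left hγ).1 this

theorem dich_perm (hg : ∀ x, pg x ∈ Γ) :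
    (∀ π ∈ Γ, π 6 = 6 → ps (π 0) = π 1 ∧ ps (π 2) = π 3 ∧ ps (π 4) = π 5) ∨
      ∀ τ : Perm (Fin 7), τ 6 = 6 → Perm.sign τ = 1 → τ ∈ Γ := by
  by_cases h : swap (0 : Fin 7) 1 * swap 0 2 ∈ Γ
  · exact Or.inr fun τ => even_mem (fun x y => all01 hg h) _ τ le_rfl
  refine Or.inl fun π hπ h6 => ?_
  have n6 : ∀ i : Fin 7, i ≠ 6 → π i ≠ 6 := fun i hi e => hi (π.injective (e.trans h6.symm))
  have ne : ∀ i l : Fin 7, i ≠ l → π i ≠ π l := fun i l hi e => hi (π.injective e)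
  have a1 : Sd (π 0) (π 1) (π 2) (π 3) := by
    by_contra hn
    exact h (t3_of hg (n6 _ (by decide)) (n6 _ (by decide)) (n6 _ (by decide)) (n6 _ (by decide))
      (ne _ _ (by decide)) (ne _ _ (by decide)) (ne _ _ (by decide)) (ne _ _ (by decide))
      (ne _ _ (by decide)) (ne _ _ (by decide)) hn (cj2 hπ (hg 0)))
  have a2 : Sd (π 2) (π 3) (π 4) (π 5) := by
    by_contra hn
    exact h (t3_of hg (n6 _ (by decide)) (n6 _ (by decide)) (n6 _ (by decide)) (n6 _ (by decide))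
      (ne _ _ (by decide)) (ne _ _ (by decide)) (ne _ _ (by decide)) (ne _ _ (by decide))
      (ne _ _ (by decide)) (ne _ _ (by decide)) hn
      (cj2 hπ (by rw [keyC]; exact pev_mem hg _)))
  exact key0 _ (n6 _ (by decide)) _ (n6 _ (by decide)) (ne _ _ (by decide)) _ (n6 _ (by decide))
    (ne _ _ (by decide)) (ne _ _ (by decide)) _ (n6 _ (by decide)) (ne _ _ (by decide))
    (ne _ _ (by decide)) (ne _ _ (by decide)) a1 _ (n6 _ (by decide)) (ne _ _ (by decide))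
    (ne _ _ (by decide)) (ne _ _ (by decide)) (ne _ _ (by decide)) _ a2

end Perms

/-! ### Model facts -/

theorem m0 : ∀ i : Fin 7, x13 * av (cN i) * x13⁻¹ = av (cN (pg 0 i)) := by kdt
theorem m1 : ∀ i : Fin 7, sw * av (cN i) * sw⁻¹ = av (cN (pg 1 i)) := by kdt
theorem m2 : ∀ i : Fin 7, g4 * g3 * g5 * g4 * av (cN i) * (g4 * g3 * g5 * g4)⁻¹ =
    av (cN (pg 2 i)) := by kdt
theorem mE : ∀ i : Fin 7, i ≠ 6 → av (cN i) * av (cN (ps i)) ∈ E0 := by kdt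
theorem mD : ∀ a < 64, av a ∈ E0 → ∃ i < 2, ∃ k < 2, ∃ l < 2,
    av a = (av 2 * av 3) ^ i * (av 8 * av 12) ^ k * (av 32 * av 48) ^ l := by kdt
theorem cN_inj : ∀ i : Fin 7, cN i = 21 → i = 6 := by decide

section Grp

variable {G : Type u} [Group G]

/-- The permutations of the seven points induced by the group. -/
def Gam (j : T →* G) : Subgroup (Perm (Fin 7)) where
  carrier := {π | ∃ g, ∀ i, Cj j g (cv i) (cv (π i))}
  one_mem' := ⟨1, fun _ => Cj.refl _⟩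
  mul_mem' := by
    rintro π σ ⟨g, hg⟩ ⟨g', hg'⟩
    exact ⟨g * g', fun i => (hg' i).trans (hg (σ i))⟩
  inv_mem' := by
    rintro π ⟨g, hg⟩
    exact ⟨g⁻¹, fun i => (hg (π⁻¹ i)).symm.of_eq (congrArg cv (π.apply_symm_apply i)) rfl⟩

theorem pg_mem {j : T →* G} (h : MF j) : ∀ x, pg x ∈ Gam j
  | 0 => let ⟨g, _, H⟩ := h.mf x13; ⟨g, fun i => H _ _ (m0 i)⟩
  | 1 => let ⟨g, _, H⟩ := h.mf sw; ⟨g, fun i => H _ _ (m1 i)⟩
  | _ + 2 => let ⟨g, _, H⟩ := h.mf (g4 * g3 * g5 * g4); ⟨g, fun i => H _ _ (m2 i)⟩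

theorem fwd {j : T →* G} (hi : Function.Injective j) {g : G} {π : Perm (Fin 7)}
    (hg : ∀ i, Cj j g (cv i) (cv (π i))) (h6 : π 6 = 6)
    (hp : ps (π 0) = π 1 ∧ ps (π 2) = π 3 ∧ ps (π 4) = π 5) {a : ℕ} (ha : a < 64) {v : T}
    (h : Cj j g (tv a) v) (hE : tv a ∈ ET) : v ∈ ET := by
  have n6 : ∀ i : Fin 7, i ≠ 6 → π i ≠ 6 := fun i hi e => hi (π.injective (e.trans h6.symm))
  obtain ⟨i, -, k, -, l, -, e⟩ := mD a ha hE
  have e' : tv a = (cv 0 * cv 1) ^ i * (cv 2 * cv 3) ^ k * (cv 4 * cv 5) ^ l := Subtype.ext e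
  have H := ((((hg 0).mul (hg 1)).pow i).mul (((hg 2).mul (hg 3)).pow k)).mul
    (((hg 4).mul (hg 5)).pow l)
  rw [(h.of_eq e' rfl).uniq hi H, ← hp.1, ← hp.2.1, ← hp.2.2]
  exact ET.mul_mem (ET.mul_mem (ET.pow_mem (mE _ (n6 0 (by decide))) _)
    (ET.pow_mem (mE _ (n6 2 (by decide))) _)) (ET.pow_mem (mE _ (n6 4 (by decide))) _)

end Grp

/-- The dichotomy. -/
theorem dich0 : DichStmt.{u} := by
  intro G _ _ j h h7
  rcases dich_perm (pg_mem h) with H | H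
  · refine Or.inl fun g hg hc a ha b hb hab => ?_
    obtain ⟨π, hπ⟩ := h7.perm g hg
    have h6 : π 6 = 6 := cN_inj _ (tv_inj (cN_lt _) (by decide)
      ((hπ 6).uniq h.fr.inj (Cj.of_commute hc)))
    have hπ' : ∀ i, Cj j g⁻¹ (cv i) (cv (π⁻¹ i)) := fun i =>
      (hπ (π⁻¹ i)).symm.of_eq (congrArg cv (π.apply_symm_apply i)) rfl
    have h6' : π⁻¹ 6 = 6 := by rw [Perm.inv_eq_iff_eq, h6]
    exact ⟨fwd h.fr.inj hπ h6 (H π ⟨g, hπ⟩ h6) ha hab,
      fwd h.fr.inj hπ' h6' (H π⁻¹ ⟨g⁻¹, hπ'⟩ h6') hb hab.symm⟩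
  · exact Or.inr fun π h6 hs => H π h6 hs

/-- The dichotomy, in the form with the fusion hypothesis. -/
theorem dich (_ : BurnStmt.{u}) : DichStmt.{u} := dich0

theorem eqns_A12D : True := by
  have := @pg.eq_1
  have := @pg.eq_2
  have := @pg.eq_3
  have := @pg.eq_def
  have := @ps.eq_1
  have := @pev.eq_1
  have := @pev.eq_2
  have := @pev.eq_def
  have := @ws.eq_1
  have := @Gam.eq_1.{0}
  have := @Sd.eq_1
  trivial

end Cfsg.Agent.H24.A12D
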