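import Cfsg.Agent.H73.BdDefs

/-! Project BD, piece LAT: the lattice lemma. -/

set_option autoImplicit false

namespace Cfsg.Agent.H24.BdLat

open Cfsg.Agent.H73.Bd

universe u

theorem box {ι : Type u} [Fintype ι] (i0 : ι) (d : ι → ℤ) (h0 : d i0 = 1) (q m N : ℕ) (hm : 0 < m)
    (hN : m ^ Fintype.card ι ≤ N) (hq : N < q) : ∃ (u : ℤ) (n : ι → ℤ),
      (∀ i, (q : ℤ) ∣ n i - u * d i) ∧ (∀ i, |n i| * m ≤ q) ∧ (q : ℤ) ≤ n i0 * (4 * N) := by
  classical
  have N0 : 0 < N := lt_of_lt_of_le (pow_pos hm _) hN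
  have q0 : (0 : ℤ) < q := by omega
  set s : ℕ := q / (N + 1) with hs
  have s1 : (N + 1) * s ≤ q := Nat.mul_div_le _ _
  have s2 : q < (N + 1) * (s + 1) := Nat.lt_mul_div_succ _ (by omega)
  have s0 : 0 < s := Nat.div_pos (by omega) (by omega)
  let r : Fin (N + 1) → ι → ℤ := fun a i => ((a : ℕ) * s * d i) % q
  have r0 : ∀ a i, 0 ≤ r a i := fun a i => Int.emod_nonneg _ q0.ne'
  have r1 : ∀ a i, r a i < q := fun a i => Int.emod_lt_of_pos _ q0
  let f : Fin (N + 1) → ι → Fin m := fun a i => ⟨(r a i * m / q).toNat, by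
    have h1 : r a i * m / q < m := Int.ediv_lt_of_lt_mul q0 (by
      have := r1 a i
      have : (0 : ℤ) < m := by omega
      nlinarith)
    omega⟩
  have key : ∀ a b : Fin (N + 1), a < b → f a = f b → ∃ (u : ℤ) (n : ι → ℤ),
      (∀ i, (q : ℤ) ∣ n i - u * d i) ∧ (∀ i, |n i| * m ≤ q) ∧ (q : ℤ) ≤ n i0 * (4 * N) := by
    intro a b hab e
    refine ⟨(b : ℕ) * s - (a : ℕ) * s, fun i => r b i - r a i, fun i => ?_, fun i => ?_, ?_⟩
    · have h1 := Int.emod_add_mul_ediv ((b : ℕ) * s * d i) q
      have h2 := Int.emod_add_mul_ediv ((a : ℕ) * s * d i) q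
      exact ⟨((a : ℕ) * s * d i) / q - ((b : ℕ) * s * d i) / q, by
        simp only [r]; linear_combination h1 - h2⟩
    · have h1 : (r a i * m / q).toNat = (r b i * m / q).toNat :=
        congrArg Fin.val (congrFun e i)
      have a0 : 0 ≤ r a i * m / q := Int.ediv_nonneg (mul_nonneg (r0 a i) (by omega)) q0.le
      have b0 : 0 ≤ r b i * m / q := Int.ediv_nonneg (mul_nonneg (r0 b i) (by omega)) q0.le
      have h2 : r a i * m / q = r b i * m / q := by omega
      have h3 := Int.emod_add_mul_ediv (r a i * m) q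
      have h4 := Int.emod_add_mul_ediv (r b i * m) q
      have h5 := Int.emod_nonneg (r a i * m) q0.ne'
      have h6 := Int.emod_nonneg (r b i * m) q0.ne'
      have h7 := Int.emod_lt_of_pos (r a i * m) q0
      have h8 := Int.emod_lt_of_pos (r b i * m) q0
      rw [h2] at h3
      rw [← abs_of_nonneg (by omega : (0 : ℤ) ≤ m), ← abs_mul, abs_le]
      constructor <;> nlinarith
    · have h1 : ∀ c : Fin (N + 1), r c i0 = (c : ℕ) * s := fun c => by
        simp only [r, h0, mul_one]
        refine Int.emod_eq_of_lt (by positivity) ?_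
        have : (c : ℕ) * s < q := lt_of_lt_of_le (Nat.mul_lt_mul_of_pos_right c.2 s0) s1
        exact_mod_cast this
      simp only [h1]
      have h2 : ((a : ℕ) : ℤ) + 1 ≤ (b : ℕ) := by exact_mod_cast hab
      have h3 : q ≤ s * (4 * N) := by nlinarith
      have h4 : (q : ℤ) ≤ s * (4 * N) := by exact_mod_cast h3
      have h5 : (s : ℤ) ≤ (b : ℕ) * s - (a : ℕ) * s := by nlinarith
      have h6 : (0 : ℤ) ≤ 4 * N := by positivity
      nlinarith
  obtain ⟨a, b, hab, e⟩ := Fintype.exists_ne_map_eq_of_card_lt f (by simpa using by omega)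
  rcases lt_or_gt_of_ne hab with h | h
  · exact key a b h e
  · exact key b a h e.symm

theorem lat : LatStmt.{u} := by
  intro k
  classical
  let F : ℕ → ℕ := fun m => 512 * (k + 1) ^ 2 * (m ^ (k + 1)) ^ 2
  let m : ℕ → ℕ := fun j => F^[j] 1
  have ms : ∀ j, m (j + 1) = F (m j) := fun j => Function.iterate_succ_apply' _ _ _
  have m0 : ∀ j, 0 < m j := fun j => by
    induction j with
    | zero => exact one_pos
    | succ j ih => rw [ms]; positivity
  have mm : Monotone m := monotone_nat_of_le_succ fun j => by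
    rw [ms]
    have h1 : m j ≤ m j ^ (k + 1) := Nat.le_self_pow (by omega) _
    have h2 : m j ^ (k + 1) ≤ (m j ^ (k + 1)) ^ 2 := Nat.le_self_pow (by omega) _
    exact (h1.trans h2).trans (Nat.le_mul_of_pos_left _ (by positivity))
  refine ⟨m k ^ (k + 1), fun ι _ hk i0 d q q0 h0 h => ?_⟩
  by_contra hq
  choose u n h1 h2 h3 using fun j : Fin (k + 1) => box i0 d h0 q (m j) (m j ^ (k + 1)) (m0 j)
    (Nat.pow_le_pow_right (m0 j) (by omega))
    (lt_of_le_of_lt (Nat.pow_le_pow_left (mm (Nat.lt_succ_iff.1 j.2)) _) (not_le.1 hq))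
  have dep : ¬ LinearIndependent ℝ fun j : Fin (k + 1) => fun i => (n j i : ℝ) := fun li => by
    have := li.fintype_card_le_finrank
    simp at this
    omega
  obtain ⟨g, hg, hne⟩ := Fintype.not_linearIndependent_iff.1 dep
  obtain ⟨j, hj, hmin⟩ := (Finset.univ.filter fun i => g i ≠ 0).exists_min_image id
    (by obtain ⟨i, hi⟩ := hne; exact ⟨i, by simpa using hi⟩)
  have gj : g j ≠ 0 := by simpa using hj
  let a : Fin (k + 1) → ℝ := fun i => if i = j then 0 else -g i / g j
  have ha : ∀ l, ∑ i, a i * n i l = n j l := fun l => by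
    have e := congrFun hg l
    simp only [Finset.sum_apply, Pi.smul_apply, smul_eq_mul, Pi.zero_apply] at e
    have e2 : ∀ i, a i * n i l = (if i = j then (n j l : ℝ) else 0) - g i * n i l / g j := fun i => by
      by_cases c : i = j
      · subst c; simp only [a, if_true]; field_simp; ring
      · simp only [a, c, if_false]; ring
    simp only [e2, Finset.sum_sub_distrib, ← Finset.sum_div, e]
    simp
  set E : ℝ := ((m j ^ (k + 1) : ℕ) : ℝ) with hE
  have E1 : 1 ≤ E := by
    rw [hE]; exact_mod_cast pow_pos (m0 j) _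
  set K : ℝ := (k : ℝ) + 1 with hK
  have K1 : 1 ≤ K := by rw [hK]; linarith [Nat.cast_nonneg (α := ℝ) k]
  have q1 : (0 : ℝ) < q := by exact_mod_cast q0
  set t : ℝ := 1 / (32 * K * E) with ht
  have t0 : 0 < t := by positivity
  let y : ι → ℤ := fun l => ∑ i, ⌊t * a i⌋ * n i l
  have hy := h (∑ i, ⌊t * a i⌋ * u i) y fun l => by
    simp only [y, Finset.sum_mul, ← Finset.sum_sub_distrib, mul_assoc, ← mul_sub]
    exact Finset.dvd_sum fun i _ => (h1 i l).mul_left _
  have err : ∀ l, |(y l : ℝ) - t * n j l| ≤ q * (t / (16 * E)) := fun l => by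
    have e : (y l : ℝ) - t * n j l = ∑ i, ((⌊t * a i⌋ : ℝ) - t * a i) * n i l := by
      rw [← ha l]
      simp only [y, Int.cast_sum, Int.cast_mul, Finset.mul_sum, ← Finset.sum_sub_distrib]
      exact Finset.sum_congr rfl fun i _ => by ring
    have b : ∀ i, |((⌊t * a i⌋ : ℝ) - t * a i) * n i l| ≤ q / (512 * K ^ 2 * E ^ 2) := fun i => by
      by_cases c : j < i
      · have c1 : |(⌊t * a i⌋ : ℝ) - t * a i| ≤ 1 := by
          rw [abs_le]
          constructor <;> linarith [Int.floor_le (t * a i), Int.lt_floor_add_one (t * a i)]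
        have c2 : |(n i l : ℝ)| * m i ≤ q := by exact_mod_cast h2 i l
        have c3 : m (j + 1) ≤ m i := mm c
        rw [ms] at c3
        have c4 : 512 * K ^ 2 * E ^ 2 ≤ (m i : ℝ) := by
          rw [hK, hE]; exact_mod_cast c3
        rw [abs_mul, le_div_iff₀ (by positivity)]
        calc _ ≤ 1 * |(n i l : ℝ)| * m i := by gcongr
          _ ≤ q := by rw [one_mul]; exact c2
      · have c1 : a i = 0 := by
          by_cases c' : i = j
          · simp [a, c']
          · have : g i = 0 := by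
              by_contra hn
              exact c (lt_of_le_of_ne (hmin i (by simpa using hn)) (Ne.symm c'))
            simp [a, this]
        simp only [c1, mul_zero, Int.floor_zero, Int.cast_zero, sub_zero, zero_mul, abs_zero]
        positivity
    rw [e]
    refine (Finset.abs_sum_le_sum_abs _ _).trans ((Finset.sum_le_card_nsmul _ _ _ fun i _ => b i).trans ?_)
    simp only [Finset.card_univ, Fintype.card_fin, nsmul_eq_mul, Nat.cast_add, Nat.cast_one, ← hK, ht]
    apply le_of_eq
    field_simp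
    ring
  have up : ∀ l, (y l : ℝ) ^ 2 ≤ (2 * q * t) ^ 2 := fun l => by
    have c2 : |(n j l : ℝ)| * m j ≤ q := by exact_mod_cast h2 j l
    have c3 : (1 : ℝ) ≤ m j := by exact_mod_cast m0 j
    have c4 : |(n j l : ℝ)| ≤ q := by nlinarith [abs_nonneg (n j l : ℝ)]
    have c5 : t / (16 * E) ≤ t := div_le_self t0.le (by linarith)
    have c6 := abs_le.1 ((err l).trans (mul_le_mul_of_nonneg_left c5 q1.le))
    have c7 := abs_le.1 c4
    apply sq_le_sq'
    · nlinarith
    · nlinarith
  have hy' : (q : ℝ) * y i0 ≤ ∑ l, (y l : ℝ) ^ 2 := by exact_mod_cast hy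
  have s1 : ∑ l, (y l : ℝ) ^ 2 ≤ K * (2 * q * t) ^ 2 := by
    refine (Finset.sum_le_card_nsmul _ _ _ fun l _ => up l).trans ?_
    rw [nsmul_eq_mul, Finset.card_univ]
    have : (Fintype.card ι : ℝ) ≤ K := by
      rw [hK]; exact_mod_cast Nat.le_succ_of_le hk
    gcongr
  have s2 : K * (2 * q * t) ^ 2 = q * (q * (t / (16 * E))) * 2 := by
    rw [ht]; field_simp; ring
  have s3 : (q : ℝ) ≤ n j i0 * (4 * E) := by rw [hE]; exact_mod_cast h3 j
  have s4 : q * (t / (16 * E)) * 4 ≤ t * n j i0 := by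
    have : q * (t / (16 * E)) * 4 = t * (q / (4 * E)) := by field_simp; ring
    rw [this]
    exact mul_le_mul_of_nonneg_left ((div_le_iff₀ (by positivity)).2 s3) t0.le
  have s5 := (abs_le.1 (err i0)).1
  have s6 : 0 < q * (t / (16 * E)) := by positivity
  have s7 : (y i0 : ℝ) ≤ q * (t / (16 * E)) * 2 :=
    le_of_mul_le_mul_left (by linarith) q1
  linarith

end Cfsg.Agent.H24.BdLat
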