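import Cfsg.Agent.H74.CksDefs
import Cfsg.Agent.H75.O8XM2
import Cfsg.Agent.H36.VbReal
import Cfsg.Agent.H15.O8B
import Cfsg.Agent.S1068
import Cfsg.Agent.S1072

/-!
S2193, piece F4V: chamber-transitive subgroups of the large Ree groups.
-/

set_option autoImplicit false
set_option linter.unusedSimpArgs false

namespace Cfsg.Agent.H24.CkF

open Cfsg.Agent.H39 Cfsg.Agent.H83 Cfsg.Agent.H15.O8 Cfsg.Agent.H36.O8T Subgroup

theorem card_ne_one {G : Type*} [Group G] [Finite G] (A : Subgroup G) :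
    Nat.card {a // a ∈ A ∧ a ≠ 1} + 1 = Nat.card A := by
  have h1 : Nat.card {a // a ∈ A ∧ a ≠ 1} = ((A : Set G) \ {1}).ncard := rfl
  have h2 : Nat.card A = (A : Set G).ncard := rfl
  rw [h1, h2, Set.ncard_sdiff_singleton_add_one A.one_mem]

/-- The order of a group with a partition. -/
theorem card_part {G : Type*} [Group G] [Finite G] {I : Type*} [Finite I] (A : Subgroup G)
    (P : I → Subgroup G) (c : ℕ) (hle : ∀ i, P i ≤ A) (hc : ∀ i, Nat.card (P i) = c)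
    (hd : ∀ i j, ∀ a ∈ P i, a ∈ P j → a ≠ 1 → i = j) (hcov : ∀ a ∈ A, ∃ i, a ∈ P i) :
    Nat.card A = Nat.card I * (c - 1) + 1 := by
  have := Fintype.ofFinite I
  let f : (Σ i, {a // a ∈ P i ∧ a ≠ 1}) → {a // a ∈ A ∧ a ≠ 1} :=
    fun x => ⟨x.2.1, hle _ x.2.2.1, x.2.2.2⟩
  have hf : Function.Bijective f := by
    constructor
    · rintro ⟨i, a, ha⟩ ⟨j, b, hb⟩ e
      obtain rfl : a = b := congrArg Subtype.val e
      obtain rfl := hd i j a ha.1 hb.1 ha.2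
      rfl
    · rintro ⟨a, ha, h1⟩
      obtain ⟨i, hi⟩ := hcov a ha
      exact ⟨⟨i, a, hi, h1⟩, rfl⟩
  rw [← card_ne_one A, ← Nat.card_eq_of_bijective f hf, Nat.card_sigma,
    Finset.sum_congr rfl (fun i _ => show _ = c - 1 by rw [← hc i, ← card_ne_one (P i)]; rfl),
    Finset.sum_const, Finset.card_univ, smul_eq_mul, Nat.card_eq_fintype_card]

theorem ari {f b c : ℕ} (hb : b ≤ f) (h : 2 ^ c = (2 ^ f + 1) * (2 ^ b - 1) + 1) :
    b = 0 ∨ b = f := by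
  by_contra hc
  push Not at hc
  obtain ⟨d, rfl⟩ := Nat.exists_eq_add_of_lt (lt_of_le_of_ne hb hc.2)
  obtain ⟨k, hk⟩ : ∃ k, 2 ^ b = k + 1 := ⟨2 ^ b - 1, (Nat.sub_add_cancel Nat.one_le_two_pow).symm⟩
  have k0 : k ≠ 0 := by
    rintro rfl
    exact hc.1 (by simpa using hk)
  have e : 2 ^ c = 2 ^ b * (2 * (2 ^ d * k) + 1) := by
    rw [h, pow_succ, pow_add, hk, Nat.add_sub_cancel]; ring
  obtain ⟨i, -, hi⟩ := (Nat.dvd_prime_pow Nat.prime_two).1 (Dvd.intro_left _ e.symm)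
  have : 0 < 2 ^ d * k := by positivity
  rcases i with _ | i
  · omega
  · rw [pow_succ] at hi; omega

theorem card_le_mul {G : Type*} [Group G] [Finite G] (A B : Subgroup G) :
    Nat.card A ≤ Nat.card (A ⊓ B : Subgroup G) * B.index := by
  have h1 := relIndex_mul_relIndex ⊥ (A ⊓ B) A bot_le inf_le_left
  rw [relIndex_bot_left, relIndex_bot_left, inf_relIndex_left] at h1
  rw [← h1, ← relIndex_top_right]
  exact Nat.mul_le_mul_left _ (relIndex_le_of_le_right le_top (by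
    rw [relIndex_top_right]; exact index_ne_zero_of_finite))

variable {K : Type*} [Field K] {T : Tits K} {G : Type*} [Group G] (M : FF T G) {H : Subgroup G}

theorem cardH (P : Subgroup (U T)) :
    Nat.card (H ⊓ P.map M.φ : Subgroup G) = Nat.card (H.comap M.φ ⊓ P : Subgroup (U T)) := by
  rw [← card_map_of_injective (K := H.comap M.φ ⊓ P) M.inj]
  congr 2
  ext g
  constructor
  · intro hg
    obtain ⟨h1, y, hy, rfl⟩ := mem_inf.1 hg
    exact ⟨y, mem_inf.2 ⟨h1, hy⟩, rfl⟩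
  · rintro ⟨y, hy, rfl⟩
    exact mem_inf.2 ⟨(mem_inf.1 hy).1, y, (mem_inf.1 hy).2, rfl⟩

theorem Bo_le {P : Subgroup (U T)} (h1 : P.Normal) (h2 : ∀ c, ∀ u ∈ P, tor T c u ∈ P) :
    Bo M.toPF ≤ normalizer (P.map M.φ : Set G) := by
  have key : ∀ b ∈ Bo M.toPF, ∀ x ∈ P.map M.φ, b * x * b⁻¹ ∈ P.map M.φ := by
    rintro b hb _ ⟨y, hy, rfl⟩
    obtain ⟨u, c, rfl⟩ := (mem_Bo M.toPF).1 hb
    refine ⟨_, h1.conj_mem _ (h2 c y hy) u, ?_⟩
    rw [map_mul, map_mul, map_inv, ← M.hφ]; group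
  exact fun b hb => mem_normalizer_iff.2 fun x =>
    ⟨key b hb x, fun h => by simpa [mul_assoc] using key _ (inv_mem hb) _ h⟩

theorem nZ : (Z T).Normal := ⟨fun z hz g => by
  rw [cZ z hz g, mul_inv_cancel_right]; exact hz⟩

theorem tor_Z (c : Kˣ × Kˣ) (u : U T) (h : u ∈ Z T) : tor T c u ∈ Z T := by
  obtain ⟨h0, h1, h2, h3, h4, h5, h6, h7, h8, h9, h10⟩ := h
  rw [tor_apply]
  o8s
  simp only [h0, h1, h2, h3, h4, h5, h6, h7, h8, h9, h10, mul_zero, and_self]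

theorem card_cjH (ft : ∀ g, ∃ h ∈ H, ∃ b ∈ Bo M.toPF, g = h * b) {P : Subgroup G}
    (hP : Bo M.toPF ≤ normalizer (P : Set G)) (g : G) :
    Nat.card (H ⊓ cj g P : Subgroup G) = Nat.card (H ⊓ P : Subgroup G) := by
  obtain ⟨h, hh, b, hb, rfl⟩ := ft g
  rw [cj_mul, cj_eq_self (hP hb), ← card_cj h (H ⊓ P), cj_inf, cj_eq_self (le_normalizer hh)]

theorem conj_x4 (t s : K) : M.φ (x1 T t) * M.n1 * M.φ (x4 T s) * (M.φ (x1 T t) * M.n1)⁻¹ =
    M.φ (x4 T (t * s) * x6 T s) := by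
  have h1 := M.n1φ (x4 T s) (by o8s)
  rw [show w1 (x4 T s) = x6 T s by ext <;> o8s] at h1
  have h2 : x4 T (t * s) * x6 T s = x1 T t * x6 T s * (x1 T t)⁻¹ := by
    rw [← cm16, commutatorElement_def]; group
  rw [h2, map_mul, map_mul, map_inv, ← h1, mul_inv_rev, n1_inv]
  group

theorem mem_cj_Z (t : K) (y : G) : y ∈ cj (M.φ (x1 T t) * M.n1) ((Z T).map M.φ) ↔
    ∃ s, y = M.φ (x4 T (t * s) * x6 T s) := by
  constructor
  · rintro ⟨_, ⟨z, hz, rfl⟩, rfl⟩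
    exact ⟨z.a4, by rw [← conj_x4, ← eq_x4 hz]; rfl⟩
  · rintro ⟨s, rfl⟩
    rw [← conj_x4]
    exact conj_mem_cj (mem_map_of_mem _ (by o8s))

variable [Finite K] [Finite G]

theorem pow_card (P : Subgroup (U T)) : ∃ c, Nat.card (H ⊓ P.map M.φ : Subgroup G) = 2 ^ c :=
  IsPGroup.iff_card.1 ((M.cf.isPGroup_s P).to_inf_right)

theorem inf_W [IsSimpleGroup G] (hH : H ≠ ⊤) (ft : ∀ g, ∃ h ∈ H, ∃ b ∈ Bo M.toPF, g = h * b)
    {f : ℕ} (hq : Nat.card K = 2 ^ f) : H ⊓ (W T).map M.φ = ⊥ := by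
  have hB := Bo_le M nZ tor_Z
  have h := card_part (I := Option K) (H ⊓ (W T).map M.φ)
    (fun i => H ⊓ cj (i.elim 1 fun t => M.φ (x1 T t) * M.n1) ((Z T).map M.φ)) _ ?_
    (fun i => card_cjH M ft hB _) ?_ ?_
  · obtain ⟨c, hc⟩ := pow_card M (H := H) (W T)
    obtain ⟨b, hb⟩ := pow_card M (H := H) (Z T)
    have hZ : Nat.card ((Z T).map M.φ) = 2 ^ f := by
      rw [card_map_of_injective M.inj, card_Z, pow_one, hq]
    rw [hc, hb, Finite.card_option, hq] at h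
    rcases ari ((Nat.pow_le_pow_iff_right (show 1 < 2 by norm_num)).1
      (by rw [← hb, ← hZ]; exact card_le_of_le inf_le_right)) h with rfl | rfl
    · exact card_eq_one.1 (by rw [hc, h]; simp)
    · exfalso
      have h1 : (Z T).map M.φ ≤ H :=
        inf_eq_right.1 (eq_of_le_of_card_ge inf_le_right (by rw [hb, hZ]))
      have h2 : normalClosure ((Z T).map M.φ : Set G) ≤ H := by
        refine (closure_le _).2 fun y hy => ?_
        obtain ⟨z, hz, e⟩ := Group.mem_conjugatesOfSet_iff.1 hy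
        obtain ⟨g, rfl⟩ := isConj_iff.1 e
        obtain ⟨h, hh, b, hb, rfl⟩ := ft g
        have := mul_mem (mul_mem hh (h1 ((mem_normalizer_iff.1 (hB hb) z).1 hz))) (inv_mem hh)
        simpa [mul_assoc] using this
      rcases (normalClosure_normal (s := ((Z T).map M.φ : Set G))).eq_bot_or_eq_top with e | e
      · have h3 : M.φ (x4 T 1) ∈ normalClosure ((Z T).map M.φ : Set G) :=
          le_normalClosure (H := (Z T).map M.φ) (mem_map_of_mem _ (by o8s))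
        rw [e, mem_bot, map_eq_one_iff _ M.inj] at h3
        exact one_ne_zero (congrArg U.a4 h3)
      · exact hH (top_le_iff.1 (e ▸ h2))
  · rintro (_ | t)
    · exact inf_le_inf_left _ (by rw [Option.elim_none, cj_one]; exact map_mono Z_le_W)
    · refine inf_le_inf_left _ fun y hy => ?_
      obtain ⟨s, rfl⟩ := (mem_cj_Z M t y).1 hy
      exact (mem_map_of_mem _ (by o8s))
  · have k1 : ∀ t y, y ∈ cj (M.φ (x1 T t) * M.n1) ((Z T).map M.φ) → y ∈ cj 1 ((Z T).map M.φ) →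
        y = 1 := by
      intro t y h1 h2
      obtain ⟨s, rfl⟩ := (mem_cj_Z M t y).1 h1
      rw [cj_one, mem_map_iff_mem M.inj] at h2
      o8s at h2
      rw [h2, map_eq_one_iff _ M.inj]
      o8s
    rintro (_ | t) (_ | t') y h1 h2 h3
    · rfl
    · exact absurd (k1 t' y (mem_inf.1 h2).2 (mem_inf.1 h1).2) h3
    · exact absurd (k1 t y (mem_inf.1 h1).2 (mem_inf.1 h2).2) h3
    · obtain ⟨s, rfl⟩ := (mem_cj_Z M t y).1 (mem_inf.1 h1).2
      obtain ⟨s', e⟩ := (mem_cj_Z M t' _).1 (mem_inf.1 h2).2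
      have e' := M.inj e
      o8s at e'
      obtain ⟨e1, rfl⟩ := e'
      have s0 : s ≠ 0 := by
        rintro rfl
        refine h3 ?_
        rw [map_eq_one_iff _ M.inj]
        o8s
      rw [mul_right_cancel₀ s0 e1]
  · intro y hy
    obtain ⟨h1, w, hw, rfl⟩ := mem_inf.1 hy
    by_cases h6 : w.a6 = 0
    · refine ⟨none, mem_inf.2 ⟨h1, ?_⟩⟩
      rw [Option.elim_none, cj_one, eq_x4_x6 hw, h6]
      exact (mem_map_of_mem _ (by o8s))
    · refine ⟨some (w.a4 / w.a6), mem_inf.2 ⟨h1, (mem_cj_Z M _ _).2 ⟨w.a6, ?_⟩⟩⟩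
      rw [div_mul_cancel₀ _ h6, ← eq_x4_x6 hw]

omit [Finite K] [Finite G] in
theorem eq_one (P : Subgroup (U T)) (h : H ⊓ P.map M.φ = ⊥) {y : U T} (h1 : M.φ y ∈ H)
    (h2 : y ∈ P) : y = 1 :=
  (map_eq_one_iff _ M.inj).1 (mem_bot.1 (h ▸ mem_inf.2 ⟨h1, y, h2, rfl⟩))

omit [Finite G] in
theorem card_le_q (A : Subgroup (U T)) (f : U T → K)
    (h : ∀ a ∈ A, ∀ b ∈ A, f a = f b → a * b⁻¹ = 1) : Nat.card A ≤ Nat.card K :=
  Nat.card_le_card_of_injective (fun a : A => f a) fun a b e =>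
    Subtype.ext (mul_inv_eq_one.1 (h a a.2 b b.2 e))

theorem inf_V (ft : ∀ g, ∃ h ∈ H, ∃ b ∈ Bo M.toPF, g = h * b) {f : ℕ} (f0 : f ≠ 0)
    (hq : Nat.card K = 2 ^ f) (hW : H ⊓ (W T).map M.φ = ⊥) : H ⊓ (V T).map M.φ = ⊥ := by
  have hB := Bo_le M nR fun c u hu => tor_R c hu
  have hC : ∀ i : Option (U8 T), (i.elim 1 fun u => (M.φ u)⁻¹ * M.n8) ∈ M.cf.C := by
    rintro (_ | u)
    · exact one_mem _
    · exact mul_mem (inv_mem (M.cf.φ_mem u)) M.cf.n_mem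
  have h := card_part (I := Option (U8 T)) (H ⊓ (V T).map M.φ)
    (fun i => H ⊓ cj (i.elim 1 fun u => (M.φ u)⁻¹ * M.n8) ((R T).map M.φ)) _
    (fun i => inf_le_inf_left _ (cj_le_of_norm (map_mono R_le_V) (M.cf.nV (hC i))))
    (fun i => card_cjH M ft hB _) ?_ ?_
  · obtain ⟨c, hc⟩ := pow_card M (H := H) (V T)
    obtain ⟨b, hb⟩ := pow_card M (H := H) (R T)
    have hR : b ≤ f := by
      refine (Nat.pow_le_pow_iff_right (show 1 < 2 by norm_num)).1 ?_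
      rw [← hb, ← hq, cardH]
      refine card_le_q _ U.a5 fun x hx y hy e => eq_one M (W T) hW
        (mul_mem (mem_inf.1 hx).1 (inv_mem (mem_inf.1 hy).1) : x * y⁻¹ ∈ H.comap M.φ) ?_
      obtain ⟨h0, h1, h2, h3, h4, h5, h6, h7, h8⟩ := (mem_inf.1 hx).2
      obtain ⟨k0, k1, k2, k3, k4, k5, k6, k7, k8⟩ := (mem_inf.1 hy).2
      o8s
      simp only [h0, h1, h2, h3, h4, h5, h6, h7, h8, k0, k1, k2, k3, k4, k5, k6, k7, k8, e]
      o8ring T
    rw [hc, hb, Finite.card_option, card_U8, hq, ← pow_mul] at h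
    rcases ari (by omega) h with rfl | rfl
    · exact card_eq_one.1 (by rw [hc, h]; simp)
    · omega
  · have key : ∀ g ∈ M.cf.C, ∀ g' ∈ M.cf.C, ∀ y ∈ H, y ∈ cj g ((R T).map M.φ) →
        y ∈ cj g' ((R T).map M.φ) → y ≠ 1 → g'⁻¹ * g ∈ M.cf.B := by
      rintro g hg g' hg' _ hy ⟨_, ⟨r, hr, rfl⟩, rfl⟩ ⟨_, ⟨r', hr', rfl⟩, e⟩ h1
      have e' : g' * M.φ r' * g'⁻¹ = g * M.φ r * g⁻¹ := e
      refine M.cf.cen _ (mul_mem (inv_mem hg') hg) r r' ?_ (.inl ⟨hr, fun hz => h1 ?_, hr'⟩)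
      · show g'⁻¹ * g * M.φ r * (g'⁻¹ * g)⁻¹ = M.φ r'
        calc _ = g'⁻¹ * (g * M.φ r * g⁻¹) * g' := by group
          _ = _ := by rw [← e']; group
      · have h2 : M.φ r * g = g * M.φ r := M.cf.cZ hg _ ⟨r, hz, rfl⟩
        have h3 : g * M.φ r * g⁻¹ = M.φ r := by rw [← h2, mul_inv_cancel_right]
        have h4 : M.φ r ∈ H := h3 ▸ hy
        show g * M.φ r * g⁻¹ = 1
        rw [h3, eq_one M (W T) hW h4 (Z_le_W hz), map_one]
    intro i j y h1 h2 h3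
    have h4 := key _ (hC i) _ (hC j) y (mem_inf.1 h1).1 (mem_inf.1 h1).2 (mem_inf.1 h2).2 h3
    have h5 : ∀ u : U T, (M.φ u)⁻¹ * M.n8 ∉ M.cf.B := fun u h =>
      M.cf.n_not ((mul_mem_cancel_left (inv_mem (M.cf.φ_mem_B u))).1 h)
    rcases i with _ | u <;> rcases j with _ | u'
    · rfl
    · exact absurd (by simpa using inv_mem h4) (h5 u')
    · exact absurd (by simpa using h4) (h5 u)
    · have h6 := M.cf.mem_Q_of_conj (u := u' * (u : U T)⁻¹) (by
        have e : M.cf.n * M.cf.φ (u' * (u : U T)⁻¹) * M.cf.n =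
            ((M.φ u')⁻¹ * M.n8)⁻¹ * ((M.φ u)⁻¹ * M.n8) := by
          rw [mul_inv_rev, n8_inv, map_mul, map_inv]
          show M.n8 * (M.φ u' * (M.φ u)⁻¹) * M.n8 = _
          group
        rw [e]; exact h4)
      rw [Subtype.ext (mul_inv_eq_one.1 (eq_one_of_U8_Q (mul_mem u'.2 (inv_mem u.2)) h6))]
  · intro y hy
    obtain ⟨h1, v, hv, rfl⟩ := mem_inf.1 hy
    rcases repV v hv with h | ⟨u, hu, h⟩
    · exact ⟨none, mem_inf.2 ⟨h1, by rw [Option.elim_none, cj_one]; exact ⟨v, h, rfl⟩⟩⟩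
    · refine ⟨some ⟨u, hu⟩, mem_inf.2 ⟨h1, mem_cj.2 ⟨_, h, ?_⟩⟩⟩
      rw [← M.n8φ _ (nQ.conj_mem _ (V_le_Q hv) u), map_mul, map_mul, map_inv]
      show _ = ((M.φ u)⁻¹ * M.n8)⁻¹ * M.φ v * ((M.φ u)⁻¹ * M.n8)
      rw [mul_inv_rev, n8_inv]
      group

theorem card_A {A : Subgroup (U T)} (hV : ∀ y ∈ A, y ∈ V T → y = 1) :
    Nat.card A ≤ Nat.card K ^ 4 := by
  have pos : 0 < Nat.card K := Nat.card_pos
  have hD : ∀ y ∈ A, y ∈ D T → y = 1 := by
    intro y hy hd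
    obtain ⟨h0, h1, h2, h3, h4, h5⟩ := hd
    have e := congrArg U.a4 (hV _ (mul_mem hy hy) (by
      o8s
      simp only [h0, h1, h2, h3, h4, h5]
      o8ring T))
    o8s at e
    simp only [h0, h1, h2, h3, h4, h5] at e
    have e' : T.θ y.b4 * y.b4 = 0 := by
      revert e
      o8ring T
    refine hV y hy ⟨h0, h1, ?_, h2, h3, h4, h5⟩
    rcases mul_eq_zero.1 e' with h | h
    · exact (map_eq_zero T.θ).1 h
    · exact h
  have hY : ∀ y ∈ A ⊓ Q T ⊓ E T, y ∈ Y T := by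
    intro y hy
    obtain ⟨h1, hE⟩ := mem_inf.1 hy
    obtain ⟨hA, hQ⟩ := mem_inf.1 h1
    rcases invQ y hE hQ (hD _ (mul_mem hA hA) (by
      obtain ⟨h0, h1⟩ := hQ
      o8s
      simp only [h0, h1]
      o8ring T)) with h | h
    · rw [hV y hA h]; exact one_mem _
    · exact h
  have h1 : Nat.card (A ⊓ Q T ⊓ E T : Subgroup (U T)) ≤ Nat.card K := by
    refine card_le_q _ U.a7 fun x hx y hy e => hV _
      (mul_mem (mem_inf.1 (mem_inf.1 hx).1).1 (inv_mem (mem_inf.1 (mem_inf.1 hy).1).1)) ?_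
    obtain ⟨h0, h1, h2, h3, h4, h5, h6⟩ := hY x hx
    obtain ⟨k0, k1, k2, k3, k4, k5, k6⟩ := hY y hy
    o8s
    simp only [h0, h1, h2, h3, h4, h5, h6, k0, k1, k2, k3, k4, k5, k6, e]
    o8ring T
  have iQ : (Q T).index = Nat.card K ^ 2 := by
    have := (Q T).card_mul_index
    rw [card_Q, card_U, show 12 = 10 + 2 from rfl, pow_add] at this
    exact Nat.eq_of_mul_eq_mul_left (by positivity) this
  have iE : (E T).index = Nat.card K := by
    have := (E T).card_mul_index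
    rw [card_E, card_U, pow_succ _ 11] at this
    exact Nat.eq_of_mul_eq_mul_left (by positivity) this
  calc Nat.card A ≤ _ := card_le_mul A (Q T)
    _ ≤ Nat.card (A ⊓ Q T ⊓ E T : Subgroup (U T)) * (E T).index * (Q T).index :=
      Nat.mul_le_mul_right _ (card_le_mul _ (E T))
    _ ≤ Nat.card K * Nat.card K * Nat.card K ^ 2 := by rw [iQ, iE]; gcongr
    _ = _ := by ring

/-- Piece F4V. -/
theorem f4v : H74.Cks.F4vStmt := by
  intro K _ _ m hm hK H hH ft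
  obtain ⟨T, M, hX⟩ := H75.O8.xm m hK
  have hq : Nat.card K = 2 ^ (2 * m + 1) := Nat.card_eq_fintype_card.trans hK
  have hc := S1068.result hK
  have hs := (S1072.result hm hK).1
  rw [← hq] at hc
  have ev : Even (Nat.card K) := by rw [hq]; exact even_two.pow_of_ne_zero (by simp)
  have pos : 0 < Nat.card K := Nat.card_pos
  have : Finite (Lie.twistedF4 K (2 ^ m)) := inferInstance
  have hi : Odd M.φ.range.index := by
    have := M.φ.range.card_mul_index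
    rw [← Nat.card_congr (MonoidHom.ofInjective M.inj).toEquiv, card_U, hc, mul_assoc, mul_assoc,
      mul_assoc] at this
    rw [Nat.eq_of_mul_eq_mul_left (by positivity) this]
    exact (Nat.Even.sub_odd pos ev odd_one).mul (((ev.pow_of_ne_zero (by simp)).add_one).mul
      ((Nat.Even.sub_odd (Nat.one_le_pow _ _ pos) (ev.pow_of_ne_zero (by simp)) odd_one).mul
        (ev.pow_of_ne_zero (by simp)).add_one))
  let S : Sylow 2 (Lie.twistedF4 K (2 ^ m)) :=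
    (M.cf.isPGroup_S).toSylow (hi.not_two_dvd_nat)
  have hS : (S : Subgroup _) = M.φ.range := rfl
  have ft' : ∀ g, ∃ h ∈ H, ∃ b ∈ Bo M.toPF, g = h * b := fun g => by
    obtain ⟨h, hh, b, hb, e⟩ := ft S g
    exact ⟨h, hh, b, H36.VbR.mem_Bo_of_norm M (by rw [hX]; trivial) hb, e⟩
  have hV := inf_V M ft' (by omega) hq (inf_W M hH ft' hq)
  refine ⟨S, ?_⟩
  rw [hS, inf_comm, MonoidHom.range_eq_map, cardH, ← Nat.card_eq_fintype_card]
  exact card_A fun y hy hv => eq_one M (V T) hV (mem_inf.1 hy).1 hv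

end Cfsg.Agent.H24.CkF
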