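import Cfsg.Agent.H45.IvDefs
import Cfsg.Agent.S4006
import Cfsg.Agent.H61.RegLin2

/-! Project CY: a line group with quaternion radical is `SL₂(3)`. -/

set_option autoImplicit false

namespace Cfsg.Agent.H24.CySl2

open Cfsg.Agent.H11.Cy Cfsg.Agent.H45.Iv Subgroup

theorem sl2 : Sl2Stmt := by
  intro G _ _ Ω _ _ p A h _ ls x y n an p3 c2 c8
  subst p3
  obtain ⟨la, lb, lc, -⟩ := ls x y n
  have hR : Rl A x y ≤ Fl A x y := le_sup_left.trans la.sup.le
  have hq : Nonempty (Rl A x y ≃* QuaternionGroup 2) := by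
    have hz : ∀ r : Rl A x y, orderOf r = 2 → (r : G) ∈ Zl A x y ∧ (r : G) ≠ 1 := fun r hr => by
      have e : r * r = 1 := by rw [← sq, ← hr, pow_orderOf_eq_one]
      refine ⟨by_contra fun hn => an r r.2 hn (congrArg Subtype.val e), fun e1 => ?_⟩
      rw [(Subtype.ext e1 : r = 1), orderOf_one] at hr
      exact absurd hr (by decide)
    refine (S4006.q8_or_c4 la.r2 (fun r s hr hs => ?_) (by rw [c8]; decide) fun g => ?_).resolve_left
      fun e => absurd (c8.symm.trans e.2) (by decide)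
    · obtain ⟨t, -, ht⟩ := (Nat.card_eq_two_iff' (1 : Zl A x y)).1 c2
      have e1 := ht ⟨r, (hz r hr).1⟩ fun e => (hz r hr).2 (congrArg Subtype.val e)
      have e2 := ht ⟨s, (hz s hs).1⟩ fun e => (hz s hs).2 (congrArg Subtype.val e)
      exact Subtype.ext (congrArg Subtype.val (e1.trans e2.symm) :)
    · refine Subtype.ext ?_
      have := lc.zsq _ (lb.sq g g.2)
      rw [SubgroupClass.coe_pow, OneMemClass.coe_one, ← this]
      simp only [pow_succ, pow_zero, one_mul, mul_assoc]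
  have h24 : Nat.card (Fl A x y) = 24 := by
    have d8 : 8 ∣ Nat.card (Fl A x y) := c8 ▸ card_dvd_of_le hR
    have d3 : 3 ∣ Nat.card (Fl A x y) := h.card x ▸ card_dvd_of_le le_sup_left
    have le : Nat.card (Fl A x y) ≤ Nat.card (Rl A x y × A x) := by
      refine Nat.card_le_card_of_surjective
        (fun q : Rl A x y × A x => (⟨q.1 * q.2, mul_mem (hR q.1.2) (mem_sup_left q.2.2)⟩ : Fl A x y))
        fun g => ?_
      obtain ⟨r, hr, a, ha, e⟩ := la.dec g g.2
      exact ⟨(⟨r, hr⟩, ⟨a, ha⟩), Subtype.ext e.symm⟩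
    rw [Nat.card_prod, c8, h.card x] at le
    have := Nat.card_pos (α := Fl A x y)
    omega
  refine ⟨ZMod 3, inferInstance, inferInstance, rfl, H61.iso_sl23_of_card h24
    ((Rl A x y).subgroupOf _) ((subgroupOfEquivOfLe hR).trans hq.some) fun M hM => ?_⟩
  have key : ∀ z, A z ≤ Fl A x y → A z ≤ M.map (Fl A x y).subtype := fun z hz a ha => by
    have e : (⟨a, ha⟩ : A z) ^ 3 = 1 := by rw [← h.card z]; exact pow_card_eq_one'
    have e' : a ^ 3 = 1 := congrArg Subtype.val e
    refine ⟨(⟨a, hz ha⟩ ^ 2) ^ 2, sq_mem_of_index_two hM _, ?_⟩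
    change (a ^ 2) ^ 2 = a
    rw [← pow_mul, pow_succ, e', one_mul]
  have e : M = ⊤ := eq_top_iff.2 fun g _ => by
    obtain ⟨m, hm, e⟩ := sup_le (key x le_sup_left) (key y le_sup_right) g.2
    rwa [← (Subtype.ext e : m = g)]
  rw [e, index_top] at hM
  exact absurd hM (by decide)

end Cfsg.Agent.H24.CySl2
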