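import Cfsg.Agent.H24.GM2
import Cfsg.Agent.H8.Residual

/-!
# Sylow 2-subgroup of type `M₂₂`: finite checks in `GL₄(2)`
-/

set_option autoImplicit false
set_option maxRecDepth 1000000
set_option synthInstance.maxSize 2048
set_option linter.unusedSectionVars false

namespace Cfsg.Agent.H24.GM

open Cfsg.Agent.H24.MH Cfsg.Agent.H42 Cfsg.Agent.H70 Cfsg.Agent.H96 Cfsg.Agent.H96.SM22 Subgroup
open Cfsg.Agent.H44 hiding allL allL_iff fld Tr
open Cfsg.Agent.H8 Cfsg.Agent.H8.GHO Cfsg.Agent.H8.GHL Cfsg.Agent.H8.GHM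

/-- One of the first three powers is a transvection. -/
noncomputable def tv3 (N : ℕ) : Bool :=
  frc N fun N => tb tvm N || frc (mm N N) fun K => tb tvm K || tb tvm (mm N K)

/-- The matrix is singular. -/
noncomputable def sing (X : ℕ) : Bool :=
  anyL (fun v => Nat.beq (mm X v) 0) [1, 2, 3, 4, 5, 6, 7, 8, 9, 10, 11, 12, 13, 14, 15]

def X6 : ℕ := 18167
def Y6 : ℕ := 33268
def X7 : ℕ := 17144
def Y7 : ℕ := 63011
def rho : ℕ := 49761
def LP1 : List ℕ :=
  [6205, 6744, 11397, 15062, 18157, 21406, 33628, 29427, 48675, 57814, 44903, 49915, 6475]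
def LP2 : List ℕ := [6205, 6223, 6250, 7209, 7242, 7295]

theorem walk6' : walk X6 Y6 t6 I4 0 = m6 := by
  rw [← walk6]; congr 1
theorem walk7' : walk X7 Y7 t7 I4 0 = m7 := by
  rw [← walk7]; congr 1

theorem ck1 : allB (fun X => tb m7 X || (tb m7 (mm PM (mm X PM)) || (sing X ||
    anyL (fun p => tv3 (mm p X)) LP1))) 65536 = true := by decide +kernel
theorem ck2 : allB (fun X => Bool.rec true (tb m6 X || anyL (fun p => tb m6 (mm Y7 (mm p X))) LP2)
    (tb m7 X)) 65536 = true := by decide +kernel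
theorem ck3 : allB (fun X => Bool.rec true (tb m6 X) (tb m6 (mm PM (mm X PM)))) 65536 = true := by
  decide +kernel
theorem ck6 {X : ℕ} (hX : X < 65536) (h : tb m6 X = true) : mm X 1 = 1 →
    (∃ d ∈ LWR, mm X 42785 = mm d X) → X ∈ LD8 :=
  all_mask (p := fun X => mm X 1 = 1 → (∃ d ∈ LWR, mm X 42785 = mm d X) → X ∈ LD8)
    (by decide +kernel) hX h
theorem ck7 : allB (fun X => Bool.rec true (Bool.rec true (sing X || (decide (X ∈ LD8) ||
    (anyL (fun a => anyL (fun b => Nat.beq (mm a (mm X b)) rho) LD8) LD8 ||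
      anyL (fun p => tv3 (mm p X)) LD8)))
    (anyL (fun w => anyL (fun d => Nat.beq (mm X w) (mm d X)) LWQ) [50225, 58673]))
    (Nat.beq (mm X 1) 1)) 65536 = true := by decide +kernel
theorem ck8 : allB (fun X => Bool.rec true (decide (mm hM 46369 = mm (LWR.getD (mm X 4 / 4) 0) hM →
    mm hM 42785 = mm (LWR.getD (mm X 8 / 4) 0) hM → (∃ d ∈ LD8, mm d X = hM) ∨
      ∃ d ∈ LD8, tb tvm (mm d (mm X (mm X X))) = true))
    (Nat.beq (mm X 1) (mm hM 1) && Nat.beq (mm X 2) (mm hM 2))) 65536 = true := by decide +kernel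
theorem dm_xi : ∀ v < 16, dm (xi (el (sA v))) = LWR.getD (v / 4) 0 := by decide +kernel

/-- The vector of the product of two labels. -/
def lab (r s : Fin 6) : ℕ :=
  ![![0, 2, 4, 7, 13, 12], ![2, 0, 6, 5, 15, 14], ![4, 6, 0, 3, 9, 8], ![7, 5, 3, 0, 10, 11],
    ![13, 15, 9, 10, 0, 1], ![12, 14, 8, 11, 1, 0]] r s

/-- The matrix of `(0 1) (x y)`. -/
def swm (x y : Fin 6) : ℕ :=
  ![![33825, 33825, 58945, 33649, 35294, 26831], ![33825, 33825, 49761, 34385, 34556, 18157],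
    ![58945, 49761, 33825, 46369, 7976, 36393], ![33649, 34385, 46369, 33825, 34347, 13866],
    ![35294, 34556, 7976, 34347, 33825, 38433], ![26831, 18157, 36393, 13866, 38433, 33825]] x y

theorem lab_spec : ∀ r s, lab r s < 16 ∧ el (Jn r) * el (Jn s) = el (sA (lab r s)) := by
  decide +kernel

theorem swm_spec : ∀ x y, x ≠ y → tb m6 (swm x y) = true ∧ ∀ r s, mm (swm x y) (lab r s) =
    lab (Equiv.swap 0 1 (Equiv.swap x y r)) (Equiv.swap 0 1 (Equiv.swap x y s)) := by
  decide +kernel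

end Cfsg.Agent.H24.GM
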