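import Cfsg.Agent.H78.G40A
import Cfsg.Agent.H46.TE3
import Cfsg.Agent.H69.L40Fr2

/-! Project L40G, piece E3L: no conjugate of `t` normalises both factors of the base group. -/

set_option autoImplicit false
open scoped Pointwise
open Subgroup

namespace Cfsg.Agent.H24.L40E3

open Cfsg.Agent.H8 Cfsg.Agent.H46.S94 Cfsg.Agent.H46.L40 Cfsg.Agent.H78.G40
open Cfsg.Agent.H46.TE3 Cfsg.Agent.H69.L40Fr2

universe u

theorem d8 : ∃ f : DihedralGroup 4 →* S3, Function.Injective f ∧ ∀ x, tr (f x) = f x := by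
  refine ⟨MonoidHom.mk' (fun x => DihedralGroup.casesOn (motive := fun _ => S3) x
    (fun i => w0 ^ i.val) (fun i => a0 * w0 ^ i.val)) ?_, ?_, ?_⟩
  · rintro (i | i) (j | j) <;> revert i j <;> decide +kernel
  · refine (injective_iff_map_eq_one _).2 ?_
    rintro (i | i) <;> revert i <;> decide +kernel
  · rintro (i | i) <;> revert i <;> decide +kernel

theorem map_conj {H : Type} [Group H] {P : Subgroup H} (hP : IsPGroup 2 P) (g : H) :
    IsPGroup 2 (P.map (MulAut.conj g).toMonoidHom) ∧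
      Nat.card (P.map (MulAut.conj g).toMonoidHom) = Nat.card P :=
  ⟨hP.map _, card_map_of_injective (MulAut.conj g).injective⟩

theorem fix16 (K : Kit) {α : MulAut S3} (i : Inn α) (e : α * α = 1) :
    ∃ P : Subgroup S3, (∀ x ∈ P, α x = x) ∧ IsPGroup 2 P ∧ 16 ≤ Nat.card P := by
  haveI : Fact (Nat.Prime 2) := ⟨Nat.prime_two⟩
  obtain ⟨a, rfl⟩ := i
  have ha : a * a = 1 := K.base.conj_inj (by rw [map_mul, e, map_one])
  obtain ⟨P, hP⟩ := Sylow.exists_subgroup_card_pow_prime 2 (G := S3) (n := 4)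
    (by rw [K.card]; norm_num)
  have h2 : IsPGroup 2 P := IsPGroup.of_card hP
  by_cases h1 : a = 1
  · exact ⟨P, fun x _ => by simp [h1], h2, by rw [hP]; norm_num⟩
  haveI : Nontrivial P := Finite.one_lt_card_iff_nontrivial.1 (by rw [hP]; norm_num)
  haveI := h2.center_nontrivial
  have h3 : IsPGroup 2 (center P) := h2.to_subgroup _
  obtain ⟨n, hn0, hn⟩ := h3.nontrivial_iff_card.1 inferInstance
  obtain ⟨c, hc⟩ := exists_prime_orderOf_dvd_card' (G := center P) 2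
    (by rw [hn]; exact dvd_pow_self 2 hn0.ne')
  have hc' : orderOf ((c : P) : S3) = 2 := by rw [orderOf_coe, orderOf_coe, hc]
  have c2 : ((c : P) : S3) * ((c : P) : S3) = 1 := by
    rw [← pow_two, ← hc', pow_orderOf_eq_one]
  have c1 : ((c : P) : S3) ≠ 1 := fun e => by rw [e, orderOf_one] at hc'; omega
  obtain ⟨g, hg⟩ := isConj_iff.1 ((K.inv _ c2 c1).symm.trans (K.inv a ha h1))
  refine ⟨P.map (MulAut.conj g).toMonoidHom, ?_, (map_conj h2 g).1, by
    rw [(map_conj h2 g).2, hP]; norm_num⟩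
  rintro _ ⟨y, hy, rfl⟩
  have hy' : y * ((c : P) : S3) = ((c : P) : S3) * y :=
    congrArg Subtype.val (mem_center_iff.1 c.2 ⟨y, hy⟩)
  change a * (g * y * g⁻¹) * a⁻¹ = g * y * g⁻¹
  rw [← hg]
  calc g * ((c : P) : S3) * g⁻¹ * (g * y * g⁻¹) * (g * ((c : P) : S3) * g⁻¹)⁻¹
      = g * (((c : P) : S3) * y) * ((c : P) : S3)⁻¹ * g⁻¹ := by group
    _ = g * y * g⁻¹ := by rw [← hy']; group

theorem fix8 (K : Kit) {α : MulAut S3} (e : α * α = 1) :
    ∃ P : Subgroup S3, (∀ x ∈ P, α x = x) ∧ IsPGroup 2 P ∧ 8 ≤ Nat.card P := by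
  haveI : Fact (Nat.Prime 2) := ⟨Nat.prime_two⟩
  obtain ⟨m, hm | hm⟩ := K.aut α
  · obtain ⟨P, h1, h2, h3⟩ := fix16 K ⟨m, MulEquiv.ext hm⟩ e
    exact ⟨P, h1, h2, by omega⟩
  have h1 : m * tr m = 1 := ctr _ fun x => by
    have h2 : α (α x) = x := by rw [← MulAut.mul_apply, e]; rfl
    rw [hm, hm, tr_mul, tr_mul, tr_tr, tr_inv] at h2
    calc m * tr m * x = m * (tr m * x * (tr m)⁻¹) * m⁻¹ * (m * tr m) := by group
      _ = x * (m * tr m) := by rw [h2]
  obtain ⟨d, rfl⟩ := K.gr m h1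
  obtain ⟨f, f1, f2⟩ := d8
  have hc : Nat.card f.range = 2 ^ 3 := by
    rw [← Nat.card_congr (MonoidHom.ofInjective f1).toEquiv, DihedralGroup.nat_card]
    norm_num
  have h2 : IsPGroup 2 f.range := IsPGroup.of_card hc
  refine ⟨f.range.map (MulAut.conj d).toMonoidHom, ?_, (map_conj h2 d).1, by
    rw [(map_conj h2 d).2, hc]; norm_num⟩
  rintro _ ⟨_, ⟨y, rfl⟩, rfl⟩
  change α (d * f y * d⁻¹) = d * f y * d⁻¹
  rw [hm, tr_mul, tr_mul, tr_inv, f2]
  group

theorem e3l : E3lS.{u} := by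
  intro K nc G _ _ φ t O B d cx w k g hs
  haveI : Fact (Nat.Prime 2) := ⟨Nat.prime_two⟩
  have hb := (nc K G φ t O cx (g * t * g⁻¹) (isConj_iff.2 ⟨g, rfl⟩)).1
  have ss : g * t * g⁻¹ * (g * t * g⁻¹) = 1 := (cx.conj g).tt
  generalize g * t * g⁻¹ = s at hs hb ss
  have h2 : t * s * t ∈ normalizer (B : Set G) := by
    have := (mem_inf.1 hs).2
    rw [normalizer_conj_smul, mem_conj_smul, cx.tinv] at this
    exact this
  obtain ⟨α, ha⟩ := k.aut s hs.1
  obtain ⟨β, hβ⟩ := k.aut _ h2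
  have a2 := ind_sq k hs.1 ss ha
  have b2 := ind_sq k h2 (by
    calc t * s * t * (t * s * t) = t * (s * (t * t) * s) * t := by group
      _ = 1 := by rw [cx.tt, mul_one, ss, mul_one, cx.tt]) hβ
  have key : ∀ P R : Subgroup S3, IsPGroup 2 P → IsPGroup 2 R → (∀ x ∈ P, α x = x) →
      (∀ x ∈ R, β x = x) → Nat.card P * Nat.card R ≤ 64 ∧
        (¬ (Inn α ∧ Inn β) → Nat.card P * Nat.card R ≤ 32) := fun P R hP hR fP fR => by
    obtain ⟨j, j1, j2, j3⟩ := exists_j cx.tt w k hs.1 h2 ha hβ hP hR fP fR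
    have c1 : Nat.card j.range = Nat.card P * Nat.card R := by
      rw [← Nat.card_prod]; exact (Nat.card_congr (MonoidHom.ofInjective j1).toEquiv).symm
    have c2 : IsPGroup 2 j.range := (prod2 hP hR).of_equiv (MonoidHom.ofInjective j1)
    have c3 : j.range ≤ centralizer {s} := by
      rintro _ ⟨x, rfl⟩
      exact mem_centralizer_singleton_iff.2 (j2 x)
    refine ⟨c1 ▸ hb _ c3 c2, fun hn => ?_⟩
    have c0 : IsPGroup 2 (zpowers s) := el_two (by
      rintro _ ⟨n, rfl⟩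
      change s ^ n * s ^ n = 1
      rw [← (Commute.refl s).mul_zpow, ss, one_zpow])
    have c4 : IsPGroup 2 (zpowers s ⊔ j.range : Subgroup G) :=
      IsPGroup.to_sup_of_normal_right' c0 c2 (zpowers_le.2
        (centralizer_le_normalizer _ (by rintro _ ⟨x, rfl⟩; exact j2 x)))
    have c5 := hb _ (sup_le (zpowers_le.2 (mem_centralizer_singleton_iff.2 rfl)) c3) c4
    obtain ⟨m, hm⟩ := card_dvd_of_le (le_sup_right : j.range ≤ zpowers s ⊔ j.range)
    have c6 : m ≠ 1 := by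
      rintro rfl
      have := eq_of_le_of_card_ge (le_sup_right : j.range ≤ zpowers s ⊔ j.range) (by omega)
      obtain ⟨x, hx⟩ : s ∈ j.range := this ▸ mem_sup_left (mem_zpowers s)
      exact hn (j3 x hx)
    have c7 : m ≠ 0 := by
      rintro rfl
      exact Nat.card_pos.ne' hm
    rw [hm, c1] at c5
    have := Nat.mul_le_mul_left (Nat.card P * Nat.card R) (show 2 ≤ m by omega)
    omega
  by_cases i : Inn α ∧ Inn β
  · obtain ⟨P, p1, p2, p3⟩ := fix16 K i.1 a2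
    obtain ⟨R, r1, r2, r3⟩ := fix16 K i.2 b2
    have := (Nat.mul_le_mul p3 r3).trans (key P R p2 r2 p1 r1).1
    omega
  · obtain ⟨P, p1, p2, p3⟩ := fix8 K a2
    obtain ⟨R, r1, r2, r3⟩ := fix8 K b2
    have := (Nat.mul_le_mul p3 r3).trans ((key P R p2 r2 p1 r1).2 i)
    omega

end Cfsg.Agent.H24.L40E3
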