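import Cfsg.Agent.H78.G40B

/-! Project L40G, piece F2G: the centraliser of `J` in `PSp₆(3)` contains a `(2,3,7)` pair. -/

set_option autoImplicit false
set_option maxRecDepth 100000

namespace Cfsg.Agent.H24.L40F2g

open Matrix Cfsg.Agent.H78.G40

theorem pq : ∃ p q : Sp6, ¬ (p.1 = (1 : Sp6).1 ∨ p.1 = -(1 : Sp6).1) ∧ p * p = 1 ∧ q * q * q = 1 ∧
    p * q * (p * q) * (p * q) * (p * q) * (p * q) * (p * q) * (p * q) = 1 ∧
    J6 * p = p * J6 ∧ J6 * q = q * J6 :=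
  ⟨⟨fromBlocks !![1, 0, 0; 0, 2, 0; 0, 0, 2] !![0, 0, 0; 0, 0, 0; 0, 0, 0]
      !![0, 0, 0; 0, 0, 0; 0, 0, 0] !![1, 0, 0; 0, 2, 0; 0, 0, 2], by decide +kernel⟩,
    ⟨fromBlocks !![2, 0, 2; 2, 0, 2; 1, 1, 1] !![1, 2, 0; 0, 2, 1; 0, 1, 0]
      !![2, 1, 0; 0, 1, 2; 0, 2, 0] !![2, 0, 2; 2, 0, 2; 1, 1, 1], by decide +kernel⟩,
    by decide +kernel, by decide +kernel, by decide +kernel, by decide +kernel, by decide +kernel,
    by decide +kernel⟩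

theorem f2g : F2gS := by
  refine ⟨Or.inr ?_, ?_⟩
  · obtain ⟨p, q, h1, h2, h3, h4, h5, h6⟩ := pq
    refine ⟨mk2 p, mk2 q, 7, Or.inr rfl, fun h => h1 ((mk2_eq p 1).1 h), ?_, ?_, ?_, ?_, ?_⟩
    · rw [← map_mul, h2, map_one]
    · rw [← map_pow, pow_succ, pow_two, h3, map_one]
    · rw [← map_mul, ← map_pow, pow_succ, pow_succ, pow_succ, pow_succ, pow_succ, pow_two, h4, map_one]
    · rw [MulAut.conj_apply, ← map_mul, h5, map_mul, mul_inv_cancel_right]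
    · rw [MulAut.conj_apply, ← map_mul, h6, map_mul, mul_inv_cancel_right]
  · exact (mk2_eq (T2 J6) J6).2 (Or.inr D6_J)

end Cfsg.Agent.H24.L40F2g
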