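import Cfsg.Agent.H24.LT3Id

/-! The identification, with the case `A₆` in the Held group excluded by one hypothesis. -/

set_option autoImplicit false

namespace Cfsg.Agent.H24.LT3

open Subgroup Cfsg.Agent.H85 Cfsg.Agent.H93.LT

universe u

theorem idStmt' (hc : CoreStmt.{u}) (hk : KitStmt.{u}) (i7 : Id7Stmt.{u}) (a7 : IdA7Stmt.{u})
    (l5 : IdL5Stmt) (a6 : ∀ (G : Type u) [Group G] [Finite G] (h : H93.LT.Top G) (k : Hyp G), Fit h k →
      h.Quot (alternatingGroup (Fin 6)) → k.e = 1 → h.t ∉ h.X → Cfsg.Spor.IsoHe h.X → False) :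
    IdStmt.{u} := by
  intro G _ _ h hq
  obtain ⟨k, b1, b2, b3, b4, b5, b6, con⟩ := hc G h
  have f : Fit h k := ⟨b1, b2, b3, b4, b5, b6⟩
  have K := hk G k
  have eX : k.X = h.X := congrArg Base.X f.base
  have et : k.t = h.t := congrArg Base.t f.base
  have := h.Xn
  have KX : h.K ≤ h.X := by
    rcases h.sim (h.K ⊓ h.X) (le_inf h.OK fun o ho => eX ▸ K.odX o (odd_O h ho)) inf_le_left
      (le_normalizer_inf le_normalizer (le_normalizer_of_normal)) with e | e
    · have a1 := one_O h (e.le ⟨f.a, eX ▸ K.aX.1⟩) k.aa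
      have := k.ab
      rw [a1] at this
      exact absurd (by simpa [cn] using this.symm) k.z1
    · exact e.ge.trans inf_le_right
  have dv : ∀ {L : Type} [Group L], h.Quot L → Nat.card L ∣ Nat.card h.X := fun q =>
    (Dvd.intro _ (quot_card q).symm).trans (card_dvd_of_le KX)
  have c7 : Nat.card (alternatingGroup (Fin 7)) = 2520 := by
    rw [nat_card_alternatingGroup]; simp [Nat.factorial]
  have red : Nat.card h.X ∈ [979200, 13685760, 9999360, 4030387200, 44352000] →
      h.Quot (alternatingGroup (Fin 6)) ∨ h.Quot (alternatingGroup (Fin 7)) := fun hN => by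
    rcases hq with ⟨F, _, _, hF, q⟩ | q
    · have h1 := H28.card_PSL2 (F := F) rfl
      rw [Nat.gcd_eq_left (by omega)] at h1
      rcases qcase hN hF h1 (dv q) with e | e
      · refine absurd ((quot_card q).trans ?_) (i7 G h k f)
        rw [e] at h1
        congr 1
        change 2 * Nat.card (L2 F) = _ at h1
        omega
      · obtain ⟨g⟩ := S0254.result e
        exact Or.inl (quot_congr q g)
    · exact Or.inr q
  rw [eX, et] at con
  rcases con with ⟨tX, c32, con⟩ | ⟨top, c64, ⟨g⟩, ex⟩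
  · have e1 : k.e = 1 := by
      rcases K.cT with ⟨c, -⟩ | ⟨-, -, c⟩
      exacts [c, by omega]
    rcases con with ⟨F, i1, i2, hF, ⟨⟨g⟩⟩ | ⟨⟨g⟩⟩⟩ | ⟨⟨g⟩⟩ | ⟨⟨g⟩⟩ | ⟨⟨g⟩⟩
    · have c := (Nat.card_congr g.toEquiv).trans (card_psp F hF)
      rcases red (by simp [c]) with q | q
      · exact Or.inr (Or.inl ⟨q, tX, Or.inl ⟨F, i1, i2, hF, Or.inl ⟨g⟩⟩⟩)
      · exact absurd (dv q) (by rw [c, c7]; norm_num)
    · have c := (Nat.card_congr g.toEquiv).trans (card_u5 F hF)
      rcases red (by simp [c]) with q | q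
      · exact Or.inr (Or.inl ⟨q, tX, Or.inl ⟨F, i1, i2, hF, Or.inr ⟨g⟩⟩⟩)
      · exact absurd (dv q) (by rw [c, c7]; norm_num)
    · have c := (Nat.card_congr g.toEquiv).trans card_sl5
      rcases red (by simp [c]) with q | q
      · exact Or.inr (Or.inl ⟨q, tX, Or.inr ⟨g⟩⟩)
      · obtain ⟨x, hx, o⟩ := (a7 G h k f q).2 tX
        exact absurd ((g.orderOf_eq ⟨x, hx⟩).trans ((orderOf_mk _ _).trans o)) (l5 _)
    · exact (no24 h k K f KX tX c32 g).elim
    · have c := (Nat.card_congr g.toEquiv).trans S1695.result.2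
      rcases red (by simp [c]) with q | q
      · exact (a6 G h k f q e1 tX ⟨g⟩).elim
      · exact Or.inr (Or.inr ⟨q, tX, ⟨g⟩⟩)
  · have c : Nat.card h.X = 44352000 := by
      rw [top, card_top, Nat.card_congr g.toEquiv, H48.card_HS]
    rcases red (by simp [c]) with q | q
    · exact Or.inl ⟨q, top, ⟨g⟩, c64 ▸ et ▸ card_dvd_of_le k.syl.le, ex⟩
    · rcases K.cT with ⟨-, d⟩ | ⟨d, -⟩
      · rw [d, K.cT0] at c64; omega
      · exact absurd (a7 G h k f q).1 d

end Cfsg.Agent.H24.LT3
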