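import Cfsg.Agent.H93.LTDefs
import Cfsg.Agent.H90.Cocycle

/-!
# The transfer of an involution evaluated with the help of a `2`-subgroup of its centraliser
-/

set_option autoImplicit false

namespace Cfsg.Agent.H24.LT

open Subgroup MulAction Cfsg.Agent.H93.LT Cfsg.Agent.H85

universe u

theorem prod_inv {B Ω A : Type*} [Group B] [MulAction B Ω] [Fintype Ω] [CommGroup A]
    (hB : IsPGroup 2 B) (ho : ¬ 2 ∣ Nat.card Ω) (f : Ω → A) (c : A) (hf : ∀ (b : B) q, f (b • q) = f q)
    (h2 : ∀ q, f q ^ 2 = 1) (hc : ∀ q, (∀ b : B, b • q = q) → f q = c) : ∏ q, f q = c := by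
  classical
  obtain ⟨q0, h0⟩ := hB.nonempty_fixed_point_of_prime_not_dvd_card Ω ho
  have c2 : c ^ 2 = 1 := hc q0 h0 ▸ h2 q0
  have h1 : ∏ q, (f q * c) = 1 := by
    refine (Finset.prod_comp (s := Finset.univ) id fun q => f q * c).trans
      (Finset.prod_eq_one fun a ha => ?_)
    obtain ⟨q, -, rfl⟩ := Finset.mem_image.1 ha
    let X : SubMulAction B Ω := ⟨{r | f r * c = f q * c}, fun b r h => by
      change f (b • r) * c = _
      rw [hf]; exact h⟩
    by_cases e : 2 ∣ Nat.card X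
    · obtain ⟨k, hk⟩ := e
      rw [← Nat.subtype_card (p := fun r => r ∈ X) (Finset.univ.filter fun r => f r * c = f q * c)
        fun r => Finset.mem_filter.trans (and_iff_right (Finset.mem_univ r)), hk, pow_mul, id, mul_pow,
        h2, c2, one_mul, one_pow]
    · obtain ⟨r, hr⟩ := hB.nonempty_fixed_point_of_prime_not_dvd_card X e
      rw [id, ← show f r * c = f q * c from r.2, hc r fun b => congrArg Subtype.val (hr b), ← sq, c2,
        one_pow]
  obtain ⟨k, hk⟩ : Odd (Fintype.card Ω) := by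
    rw [← Nat.card_eq_fintype_card]; exact Nat.odd_iff.2 (by omega)
  rw [Finset.prod_mul_distrib, Finset.prod_const, Finset.card_univ, hk, pow_succ, pow_mul, c2, one_pow,
    one_mul] at h1
  rw [eq_inv_of_mul_eq_one_left h1, inv_eq_iff_mul_eq_one, ← sq, c2]

theorem transfer_eq {G A : Type*} [Group G] [Finite G] [CommGroup A] {H B : Subgroup G} (φ : H →* A)
    (ho : ¬ 2 ∣ H.index) {t : G} (tt : t * t = 1) (tB : t ∈ B) (hB : IsPGroup 2 B)
    (hc : B ≤ centralizer {t}) {c : A}
    (h : ∀ g : G, (∀ x ∈ B, g⁻¹ * x * g ∈ H) → ∀ e : g⁻¹ * t * g ∈ H, φ ⟨_, e⟩ = c) :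
    φ.transfer t = c := by
  classical
  let : Fintype (G ⧸ H) := H.fintypeQuotientOfFiniteIndex
  have hfix : ∀ x g : G, x • (g : G ⧸ H) = g ↔ g⁻¹ * x * g ∈ H := fun x g => by
    rw [Quotient.smul_mk, eq_comm, QuotientGroup.eq, smul_eq_mul, ← mul_assoc]
  have h0 : ∀ q, H90.trCoc φ t (t • q) * H90.trCoc φ t q = 1 := fun q => by
    rw [← H90.isCoc_trCoc φ t t q, tt, (H90.isCoc_trCoc φ).one]
  rw [H90.transfer_eq_prod_trCoc,
    ← Finset.prod_filter_mul_prod_filter_not Finset.univ (fun q => t • q = q)]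
  have h2 : ∏ q ∈ Finset.univ.filter (fun q : G ⧸ H => ¬ t • q = q), H90.trCoc φ t q = 1 := by
    refine Finset.prod_involution (fun q _ => t • q) (fun q _ => by rw [mul_comm, h0])
      (fun q hq _ => (Finset.mem_filter.1 hq).2) (fun q hq => ?_) (fun q _ => ?_)
    · refine Finset.mem_filter.2 ⟨Finset.mem_univ _, fun h => (Finset.mem_filter.1 hq).2 ?_⟩
      rw [smul_smul, tt, one_smul] at h
      exact h.symm
    · rw [smul_smul, tt, one_smul]
  rw [h2, mul_one, Finset.prod_filter]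
  refine prod_inv hB ho _ c (fun b q => ?_) (fun q => ?_) (fun q hq => ?_)
  · induction q using QuotientGroup.induction_on with
    | H g =>
      have e : ((b : G) * g)⁻¹ * t * (b * g) = g⁻¹ * t * g := by
        calc _ = g⁻¹ * ((b : G)⁻¹ * (t * b)) * g := by group
          _ = _ := by rw [← mem_centralizer_singleton_iff.1 (hc b.2), inv_mul_cancel_left]
      change (if t • (((b : G) * g : G) : G ⧸ H) = ((b : G) * g : G) then
        H90.trCoc φ t ((b : G) * g : G) else 1) = _
      simp only [hfix, e]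
      split_ifs with e1
      · rw [H90.trCoc_of_fixed φ e1, H90.trCoc_of_fixed φ (e ▸ e1)]
        congr 2
      · rfl
  · split_ifs with e1
    · rw [sq]; exact (by rw [e1] : _ = _).trans (h0 q)
    · exact one_pow _
  · induction q using QuotientGroup.induction_on with
    | H g =>
      have e : ∀ x ∈ B, g⁻¹ * x * g ∈ H := fun x hx => (hfix x g).1 (hq ⟨x, hx⟩)
      rw [if_pos ((hfix t g).2 (e t tB)), H90.trCoc_of_fixed φ (e t tB), h g e]

theorem trStmt : TrStmt.{u} := by
  intro G _ _ Y S N hS hN hc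
  let H := S.subgroupOf Y
  let N' := (N.subgroupOf Y).subgroupOf H
  have cm : commutator H ≤ N' := by
    rw [commutator_def, commutator_le]
    intro x _ y _
    simpa [N', mem_subgroupOf, commutatorElement_def] using hc _ (inv_mem x.2) _ (inv_mem y.2)
  have : N'.Normal := Normal.of_commutator_le _ cm
  have : IsMulCommutative (H ⧸ N') := (Normal.quotient_commutative_iff_commutator_le).2 cm
  let : CommGroup (H ⧸ N') := { mul_comm := mul_comm' }
  let V := (QuotientGroup.mk' N').transfer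
  refine ⟨V.ker.map Y.subtype, map_subtype_le _, fun x hx y hy => ⟨(⟨x, hx⟩ : Y)⁻¹ * (⟨y, hy⟩ : Y)⁻¹ *
    ⟨x, hx⟩ * ⟨y, hy⟩, by simp [mul_comm], rfl⟩, fun t c B tt tB BY hB Bt cS h => ?_⟩
  have e : V ⟨t, BY tB⟩ = QuotientGroup.mk' N' ⟨⟨c, hS.le cS⟩, cS⟩ :=
    transfer_eq (B := B.subgroupOf Y) _ hS.not_dvd_relIndex (Subtype.ext tt) tB hB.comap_subtype
      (fun x hx => mem_centralizer_singleton_iff.2 (Subtype.ext
        (mem_centralizer_singleton_iff.1 (Bt hx)))) fun g hg e =>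
      Eq.symm (QuotientGroup.eq.2 (show (_ : H) ∈ N' from h g g.2 fun x hx => hg ⟨x, BY hx⟩ hx))
  have e2 : (⟨t, BY tB⟩ : Y) ∈ V.ker ↔ c ∈ N := by
    rw [MonoidHom.mem_ker, e]; exact QuotientGroup.eq_one_iff _
  rw [← e2]
  exact mem_map_iff_mem Y.subtype_injective (x := ⟨t, BY tB⟩)

end Cfsg.Agent.H24.LT
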