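import Cfsg.Agent.H48.M2Defs

/-! The two lines of commuting involutions meet. -/

set_option autoImplicit false

namespace Cfsg.Agent.H48.M2

open Cfsg Subgroup Cfsg.Agent.H48 Cfsg.Agent.H48.Rec Cfsg.Agent.H49 Cfsg.Agent.H95.Par
open Cfsg.Agent.H97.Gr (DD ZZ)
open Cfsg.Agent.H97.Yt (M)

theorem bm_of (bu : BuStmt) (bw : BwStmt) (b5 : B5Stmt) (tr1 : Tr1Stmt) (qa : QaStmt)
    (ta : TaStmt) : BmStmt := by
  intro w w' y y' h l l' c e
  have ark := h.t1.ark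
  have wA := (ta w w' h.t1).2.2.2.1
  obtain ⟨-, u2, -, -, u5, u6, -⟩ := bu w w' h
  have sp : Sp (Ak w w') w y := ⟨mem_sup_left l.mem.1, u2 l.mem, l.sq,
    fun t => l.out ⟨l.mem, mem_sup_left t⟩⟩
  obtain ⟨-, t2, -, -, t5⟩ := tr1 _ w y ark wA h.z1 sp
  have n : y' ∈ NN (Us (Ak w w') y) := n_Us (n_Ak h.z1
    (mem_centralizer_singleton_iff.1 l'.mem.2) ((lx h.z2).cen y' l'.mem.1)) c.symm
  have c4 := (bw w' w y' h.symm l').1
  haveI : Finite (WW w' w y') := Nat.finite_of_card_ne_zero (by omega)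
  have : Nontrivial (WW w' w y') := Finite.one_lt_card_iff_nontrivial.1 (by omega)
  obtain ⟨⟨u, hu⟩, u1⟩ := exists_ne (1 : WW w' w y')
  have u1 : u ≠ 1 := fun t => u1 (Subtype.ext t)
  have uU : u ∈ U0 w w' := U0_comm w w' ▸ hu.1
  have key : Us (Ak w w') y ≤ Qz u := fun a ha => by
    obtain ⟨b1, b2⟩ := b5 w' w y' h.symm l' a (mem_sup_left (t2 ha))
    have k : a * y' * a⁻¹ * y'⁻¹ ∈ Us (Ak w w') y := by
      have := mul_mem ha ((mem_normalizer_iff.1 n _).1 (inv_mem ha))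
      simpa only [mul_assoc] using this
    have k2 : a * y' * a⁻¹ * y'⁻¹ ∈ WW w w' y ⊓ WW w' w y' := ⟨⟨U0_comm w w' ▸ b1.1, k⟩, b1⟩
    rw [e, mem_bot] at k2
    exact b2 u hu u1 (k2 ▸ one_mem _)
  have k3 : u ∈ WW w w' y ⊓ WW w' w y' := ⟨((bw w w' y h l).2.1 u uU u1).2
    ((qa _ ark u (u5 uU) (u6 u uU u1).1 y sp.cp).2 fun p' hp => key (t5 p' hp)), hu⟩
  rw [e, mem_bot] at k3
  exact u1 k3

end Cfsg.Agent.H48.M2
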