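import Mathlib
import Cfsg.Agent.H24.Thompson
import Cfsg.Agent.H23.MultDeg
import Cfsg.Agent.H23.Count
import Cfsg.Agent.H3.Primitive

/-!
# Kernels of characters of `p'`-degree
-/

set_option autoImplicit false
set_option linter.unusedSectionVars false

namespace Cfsg.Agent.H24

open Cfsg Cfsg.Agent.H11 Subgroup
open scoped ComplexConjugate

variable {G : Type*} [Group G] [Finite G] {p : ℕ}

/-- Going up from a subgroup of `p'`-index preserves the existence of `p'`-degree. -/
theorem exists_over_not_dvd (hp : p.Prime) (H : Subgroup G) [Fintype H] (hH : ¬ p ∣ H.index)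
    {ψ : H → ℂ} (hψ : IsIrrCharacter H ψ) (hd : ¬ p ∣ charDegree ψ) :
    ∃ χ, IsIrrCharacter G χ ∧ ¬ p ∣ charDegree χ ∧ classInner (fun h : H => χ h) ψ ≠ 0 := by
  have := Fintype.ofFinite G
  by_contra h
  push Not at h
  have h1 : p ∣ charDegree (indFun H ψ) := by
    apply dvd_deg_of_forall_constituent (H14.IsCharacter.indFun H (isCharacter_of_irr hψ))
    intro χ hχ h2
    by_contra h3
    apply h2
    rw [H14.classInner_indFun_left H ψ (isClassFunction_of_irr hχ), classInner_eq_zero_comm,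
      h χ hχ h3]
  rw [deg_indFun H (isCharacter_of_irr hψ)] at h1
  exact (hp.dvd_or_dvd h1).elim hH hd

/-- A character of `p'`-degree has a constituent of `p'`-degree on every subgroup. -/
theorem exists_under_not_dvd (H : Subgroup G) [Fintype H] {χ : G → ℂ} (hχ : IsCharacter G χ)
    (hd : ¬ p ∣ charDegree χ) :
    ∃ ψ, IsIrrCharacter H ψ ∧ ¬ p ∣ charDegree ψ ∧ classInner (fun h : H => χ h) ψ ≠ 0 := by
  by_contra h
  push Not at h
  apply hd
  rw [← deg_res H χ]
  apply dvd_deg_of_forall_constituent (isCharacter_restrict hχ H)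
  intro ψ hψ h2
  by_contra h3
  exact h2 (h ψ hψ h3)

/-- Gallagher's coprime extension theorem inside an ambient group. -/
theorem extends_of_coprime {N A : Subgroup G} (h : N ≤ A) (hN : A ≤ normalizer (N : Set G))
    {θ : IrrCharacter N} (hθ : H23.InvBy N A θ.1)
    (hc : (N.relIndex A).Coprime (detOrder θ.1 * charDegree θ.1)) : H23.Extends θ.1 A := by
  have hn : (N.subgroupOf A).Normal := (normal_subgroupOf_iff_le_normalizer h).2 hN
  have h1 := isIrr_subgroupOf h θ.2
  have h2 : detOrder (fun x : N.subgroupOf A => θ.1 ⟨(x : A), Subgroup.mem_subgroupOf.1 x.2⟩) ∣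
      detOrder θ.1 := by
    apply orderOf_dvd_of_pow_eq_one
    have := H72.detChar_comp (isCharacter_of_irr θ.2)
      (Subgroup.subgroupOfEquivOfLe h).toMonoidHom
    funext x
    have h3 := congrFun this x
    have h4 : detChar θ.1 ((Subgroup.subgroupOfEquivOfLe h) x) ^ detOrder θ.1 = 1 :=
      congrFun (pow_orderOf_eq_one (detChar θ.1)) _
    rw [Pi.pow_apply]
    exact (congrArg (· ^ detOrder θ.1) h3).trans h4
  obtain ⟨χ, hχ, h3, -⟩ := H72.exists_irr_extension_of_coprime (N.subgroupOf A) h1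
    (fun g n => hθ g g.2 _ _ rfl) (d := charDegree θ.1) (irr_deg θ.2)
    (hc.coprime_dvd_right (Nat.mul_dvd_mul_right h2 _))
  rw [H23.extends_iff h]
  exact ⟨⟨χ, hχ⟩, fun n => h3 ⟨⟨n, h n.2⟩, n.2⟩⟩

theorem mult_one_eq_zero {C M : Subgroup G} (h : C ≤ M) {ξ : IrrCharacter C}
    (hξ : ξ.1 ≠ fun _ => 1) :
    H23.mult h ⟨fun _ => 1, isIrrCharacter_one⟩ ξ = 0 := by
  by_contra h1
  exact hξ (congrArg Subtype.val (H23.eq_of_res_eq_of_mult_ne_zero h
    (θ := ⟨fun _ => 1, isIrrCharacter_one⟩) (fun _ => rfl) h1)).symm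

/-- If a `p`-group `P` normalizing `M` fixes no nontrivial irreducible character of `p'`-degree
of `M`, then `C_M(P) = 1`. -/
theorem inf_centralizer_eq_bot_of_inv [hp : Fact p.Prime] {M P : Subgroup G}
    (hP : IsPGroup p P) (hn : P ≤ normalizer (M : Set G))
    (h : ∀ θ : IrrCharacter M, H23.InvBy M P θ.1 → ¬ p ∣ charDegree θ.1 → θ.1 = fun _ => 1) :
    M ⊓ centralizer (P : Set G) = ⊥ := by
  classical
  rw [eq_bot_iff]
  intro c hc
  by_contra hc1
  have hc1 : c ≠ 1 := hc1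
  have := Fintype.ofFinite (IrrCharacter M)
  have hC : zpowers c ≤ M := (zpowers_le).2 hc.1
  have hCP : zpowers c ≤ centralizer (P : Set G) := (zpowers_le).2 hc.2
  have hPC : P ≤ normalizer ((zpowers c : Subgroup G) : Set G) :=
    (le_centralizer_iff.1 hCP).trans (centralizer_le_normalizer _)
  have key : ∀ ξ : IrrCharacter (zpowers c), (((zpowers c).relIndex M * charDegree ξ.1 : ℕ) :
      ZMod p) = H23.mult hC ⟨fun _ => 1, isIrrCharacter_one⟩ ξ := by
    intro ξ
    rw [← H23.sum_mult_mul_deg hC ξ, Nat.cast_sum,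
      H23.sum_zmod_eq_single hn hP _ ?_ (ψ := ⟨fun _ => 1, isIrrCharacter_one⟩)
        (fun _ _ _ _ _ => rfl) ?_]
    · rw [show charDegree (fun _ : M => (1 : ℂ)) = 1 from deg_one, mul_one]
    · intro x θ
      rw [H23.deg_cj, H23.mult_cj_left hC _ (hPC x.2) θ
        (H23.invBy_of_le_centralizer hCP ξ.1 x x.2)]
    · intro θ hθ hne
      rw [ZMod.natCast_eq_zero_iff]
      apply Dvd.dvd.mul_left
      by_contra h1
      exact hne (Subtype.ext (h θ hθ h1))
  have hcomm : ∀ a b : zpowers c, a * b = b * a := fun a b => mul_comm' a b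
  obtain ⟨ξ, hξ, hξc⟩ := exists_irr_apply_ne (G := zpowers c) (g := ⟨c, mem_zpowers c⟩)
    (fun h => hc1 (congrArg Subtype.val h))
  have h1 := key ⟨ξ, hξ⟩
  have h2 := key ⟨fun _ => 1, isIrrCharacter_one⟩
  rw [mult_one_eq_zero hC (fun h => hξc (by rw [show ξ = _ from h])),
    eq_one_of_mem_cd_of_comm hcomm (deg_mem_cd hξ)] at h1
  rw [H23.mult_eq_one_of_res_eq hC (fun _ => rfl),
    show charDegree (fun _ : zpowers c => (1 : ℂ)) = 1 from deg_one, h1] at h2
  simp at h2

theorem not_dvd_card_of_inf_centralizer_eq_bot [hp : Fact p.Prime] {N P : Subgroup G}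
    (hP : IsPGroup p P) (hn : P ≤ normalizer (N : Set G))
    (h : N ⊓ centralizer (P : Set G) = ⊥) : ¬ p ∣ Nat.card N := by
  have h1 := H3.card_modEq_card_inf_centralizer hP hn
  rw [h, card_bot] at h1
  intro h2
  exact hp.out.not_dvd_one ((h1.dvd_iff dvd_rfl).1 h2)

/-- If a `p`-group `P` acts on `N` with `C_N(P) = 1`, only the trivial character is invariant. -/
theorem eq_one_of_inv_of_inf_centralizer_eq_bot [hp : Fact p.Prime] {N P : Subgroup G}
    (hP : IsPGroup p P) (hn : P ≤ normalizer (N : Set G))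
    (h : N ⊓ centralizer (P : Set G) = ⊥) {θ : IrrCharacter N} (hθ : H23.InvBy N P θ.1) :
    θ.1 = fun _ => 1 := by
  have h1 := not_dvd_card_of_inf_centralizer_eq_bot hP hn h
  obtain ⟨k, hk⟩ := hP.exists_card_eq
  have hnil := hP.isNilpotent
  have h2 := H23.card_inv_eq_card_irr hn (by
    rw [hk]; exact Nat.Coprime.pow_right _ ((Nat.Prime.coprime_iff_not_dvd hp.out).2 h1).symm)
    inferInstance
  rw [h, card_irr_of_comm (fun a b => Subsingleton.elim _ _), card_bot] at h2
  have h3 := (Nat.card_eq_one_iff_unique.1 h2).1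
  exact congrArg (fun t => t.1.1) (h3.elim ⟨θ, hθ⟩
    ⟨⟨fun _ => 1, isIrrCharacter_one⟩, fun _ _ _ _ _ => rfl⟩)

/-- If `C_N(P) = 1` for a `p`-subgroup `P` and `N ⊴ G`, then `N` lies in the kernel of every
irreducible character of `p'`-degree. -/
theorem le_charKer_of_inf_centralizer_eq_bot [hp : Fact p.Prime] {N P : Subgroup G} [N.Normal]
    (hP : IsPGroup p P) (h : N ⊓ centralizer (P : Set G) = ⊥) {χ : G → ℂ}
    (hχ : IsIrrCharacter G χ) (hd : ¬ p ∣ charDegree χ) : N ≤ charKer χ := by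
  classical
  have := Fintype.ofFinite (IrrCharacter N)
  have := Fintype.ofFinite N
  have hn : P ≤ normalizer (N : Set G) := H23.le_normalizer'
  have h1 := H23.deg_eq_sum_mult (le_top : N ≤ ⊤) (H23.topIrr ⟨χ, hχ⟩)
  rw [H23.deg_topIrr] at h1
  have h2 := congrArg (Nat.cast : ℕ → ZMod p) h1
  rw [Nat.cast_sum, H23.sum_zmod_eq_single hn hP _ ?_ (ψ := ⟨fun _ => 1, isIrrCharacter_one⟩)
    (fun _ _ _ _ _ => rfl) ?_] at h2
  · apply le_charKer_of_classInner_ne_zero hχ
    have h3 := H23.mult_topIrr (C := N) ⟨χ, hχ⟩ ⟨fun _ => 1, isIrrCharacter_one⟩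
    intro h4
    rw [show classInner (fun c : N => χ c) (fun _ => 1) = _ from h3, Nat.cast_eq_zero] at h4
    rw [h4, zero_mul, Nat.cast_zero, ZMod.natCast_eq_zero_iff] at h2
    exact hd h2
  · intro x θ
    rw [H23.deg_cj, H23.mult_cj_of_mem _ (mem_top _)]
  · intro θ hθ hne
    exact absurd (Subtype.ext (eq_one_of_inv_of_inf_centralizer_eq_bot hP hn h hθ)) hne

theorem not_dvd_index_sup_sylow [hp : Fact p.Prime] (P : Sylow p G) (M : Subgroup G) :
    ¬ p ∣ (M ⊔ (P : Subgroup G)).index :=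
  fun h => P.not_dvd_index (h.trans (index_dvd_of_le le_sup_right))

theorem exists_relIndex_sup_eq_pow [hp : Fact p.Prime] {P : Subgroup G} (hP : IsPGroup p P)
    (M : Subgroup G) [M.Normal] : ∃ k, M.relIndex (M ⊔ P) = p ^ k := by
  rw [relIndex_sup_left]
  obtain ⟨k, hk⟩ := hP.exists_card_eq
  have : M.relIndex P ∣ p ^ k := hk ▸ index_dvd_card (M.subgroupOf P)
  obtain ⟨j, -, hj⟩ := (Nat.dvd_prime_pow hp.out).1 this
  exact ⟨j, hj⟩

/-- A `P`-invariant character of `p'`-degree and `p'`-determinantal order of a normal subgroup lies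
under an irreducible character of `p'`-degree. -/
theorem exists_over_not_dvd_of_inv [hp : Fact p.Prime] (P : Sylow p G) (M : Subgroup G)
    [M.Normal] [Fintype M] {θ : IrrCharacter M} (hθ : H23.InvBy M P θ.1)
    (hd : ¬ p ∣ charDegree θ.1) (ho : ¬ p ∣ detOrder θ.1) :
    ∃ χ, IsIrrCharacter G χ ∧ ¬ p ∣ charDegree χ ∧ classInner (fun m : M => χ m) θ.1 ≠ 0 := by
  have := Fintype.ofFinite (M ⊔ (P : Subgroup G) : Subgroup G)
  obtain ⟨k, hk⟩ := exists_relIndex_sup_eq_pow P.isPGroup' M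
  obtain ⟨ψ, hψ⟩ := (H23.extends_iff le_sup_left).1 (extends_of_coprime
    (le_sup_left : M ≤ M ⊔ (P : Subgroup G)) H23.le_normalizer'
    (H23.InvBy.sup H23.le_normalizer' H23.le_normalizer'
      (H23.invBy_self (isClassFunction_of_irr θ.2)) hθ) (by
      rw [hk]
      exact Nat.Coprime.pow_left _ ((Nat.Prime.coprime_iff_not_dvd hp.out).2 fun h =>
        (hp.out.dvd_or_dvd h).elim ho hd)))
  obtain ⟨χ, hχ, h1, h2⟩ := exists_over_not_dvd hp.out _ (not_dvd_index_sup_sylow P M) ψ.2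
    (by rw [deg_congr (ψ := θ.1) (hψ 1)]; exact hd)
  refine ⟨χ, hχ, h1, over_trans le_sup_left (isCharacter_of_irr hχ) ψ.2
    (isCharacter_of_irr θ.2) h2 ?_⟩
  rw [show (fun n : M => ψ.1 ⟨n, _⟩) = θ.1 from funext hψ, classInner_irr_self θ.2]
  exact one_ne_zero

/-- If `M ⊴ G`, `O^p(M) = M`, lies in the kernel of all `p'`-degree irreducible characters, then
`C_M(P) = 1`. -/
theorem inf_centralizer_eq_bot_of_le_charKer [hp : Fact p.Prime] (P : Sylow p G) (M : Subgroup G)
    [M.Normal] (hM : pResidual p M = ⊤)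
    (h : ∀ χ, IsIrrCharacter G χ → ¬ p ∣ charDegree χ → M ≤ charKer χ) :
    M ⊓ centralizer ((P : Subgroup G) : Set G) = ⊥ := by
  have := Fintype.ofFinite M
  apply inf_centralizer_eq_bot_of_inv P.isPGroup' H23.le_normalizer'
  intro θ hθ hd
  obtain ⟨χ, hχ, h1, h2⟩ := exists_over_not_dvd_of_inv P M hθ hd
    (not_dvd_detOrder_of_pResidual_eq_top hp.out hM (isCharacter_of_irr θ.2))
  apply irr_eq_one_of_charKer_eq_top θ.2
  rw [eq_top_iff]
  refine le_trans ?_ (charKer_le_of_constituent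
    (isCharacter_restrict (isCharacter_of_irr hχ) M) θ.2 h2)
  intro m _ x
  exact h χ hχ h1 m.2 x

end Cfsg.Agent.H24
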