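import Cfsg.Agent.H42.PcDefs

/-! Project PC, piece ORB: counting orbits of a subgroup on a transversal set. -/

set_option autoImplicit false

namespace Cfsg.Agent.H24.PcOrb

open Subgroup MulAction Cfsg.Agent.H42.Pc

universe u

theorem sum_stab (H X : Type u) [Group H] [Finite H] [Fintype X] [MulAction H X] :
    ∑ x : X, Nat.card (stabilizer H x) = Nat.card (orbitRel.Quotient H X) * Nat.card H := by
  rw [← Nat.card_sigma, ← Nat.card_prod, ← Nat.card_congr (sigmaFixedByEquivOrbitsProdGroup H X)]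
  exact Nat.card_congr ⟨fun p => ⟨p.2.1, p.1, p.2.2⟩, fun p => ⟨p.2.1, p.1, p.2.2⟩,
    fun _ => rfl, fun _ => rfl⟩

theorem orb : OrbStmt.{u} := by
  intro S Ω _ _ _ _ T A c l hT hl h1 hc hA inv meet x hx s hs
  classical
  haveI := Fintype.ofFinite Ω
  haveI : Nonempty Ω := ⟨x⟩
  have e1 := sum_stab S Ω
  simp only [hc, Finset.sum_const, Finset.card_univ, smul_eq_mul] at e1
  rw [← Nat.card_eq_fintype_card, ← h1] at e1
  have e2 : c = Nat.card (orbitRel.Quotient S Ω) * l :=
    Nat.eq_of_mul_eq_mul_left (Nat.card_pos (α := Ω)) (by rw [e1]; ring)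
  let B : SubMulAction T Ω := ⟨A, fun t y hy => inv y hy t t.2⟩
  haveI := Fintype.ofFinite B
  haveI : Nonempty (orbitRel.Quotient S Ω) := ⟨Quotient.mk _ x⟩
  have e3 : ∀ b : B, Nat.card (stabilizer T b) ≤ Nat.card (orbitRel.Quotient S Ω) := by
    intro b
    have l1 : (stabilizer T b).map T.subtype ≤ stabilizer S b.1 := by
      rintro _ ⟨t, ht, rfl⟩
      exact congrArg Subtype.val (mem_stabilizer_iff.1 ht)
    have l2 := card_dvd_of_le l1
    rw [card_map_of_injective T.subtype_injective, hc, e2] at l2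
    obtain ⟨k, hk⟩ := IsPGroup.iff_card.1 (hT.to_subgroup (stabilizer T b))
    refine Nat.le_of_dvd Nat.card_pos (Nat.Coprime.dvd_of_dvd_mul_right ?_ l2)
    rw [hk]
    exact Nat.Coprime.pow_left _ (Nat.coprime_two_left.2 hl)
  have e4 : Nat.card (orbitRel.Quotient T B) ≤ Nat.card (orbitRel.Quotient S Ω) := by
    have l1 := Finset.sum_le_card_nsmul Finset.univ _ _ fun b _ => e3 b
    rw [sum_stab T B, Finset.card_univ, ← Nat.card_eq_fintype_card, smul_eq_mul] at l1
    have l2 : Nat.card B = Nat.card T := hA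
    rw [l2, mul_comm] at l1
    exact Nat.le_of_mul_le_mul_left l1 Nat.card_pos
  let φ : orbitRel.Quotient T B → orbitRel.Quotient S Ω :=
    Quotient.map' (fun b => b.1) fun a b h => by
      obtain ⟨t, ht⟩ := orbitRel_apply.1 h
      exact orbitRel_apply.2 ⟨t, congrArg Subtype.val ht⟩
  have sj : Function.Surjective φ := by
    intro q
    induction q using Quotient.inductionOn' with
    | h y =>
      obtain ⟨g, hg⟩ := meet y
      exact ⟨Quotient.mk'' ⟨g • y, hg⟩, Quotient.sound' (orbitRel_apply.2 ⟨g, rfl⟩)⟩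
  have ij := (sj.bijective_of_nat_card_le e4).1
  have e5 : (Quotient.mk'' ⟨s • x, hs⟩ : orbitRel.Quotient T B) = Quotient.mk'' ⟨x, hx⟩ :=
    ij (Quotient.sound' (orbitRel_apply.2 ⟨s, rfl⟩))
  obtain ⟨t, ht⟩ := orbitRel_apply.1 (Quotient.exact' e5)
  exact ⟨t, t.2, congrArg Subtype.val ht⟩

end Cfsg.Agent.H24.PcOrb
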