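import Cfsg.Agent.Lead.PcDefs
import Cfsg.Agent.H6.PcPick
import Cfsg.Agent.H33.PcFix
import Cfsg.Agent.H39.PcTrans
import Cfsg.Agent.H60.PcCv1
import Cfsg.Agent.H68.PcC2

/-! Project PL, piece Fxp: an outer involution which centralises `V` as soon as it moves `W / V`. -/

set_option autoImplicit false

namespace Cfsg.Agent.H24.PlFxp

open Subgroup Cfsg.Agent.Lead.Pc
open scoped commutatorElement

universe u

theorem fxp : FxpStmt.{u} := by
  intro G _ _ V W h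
  haveI := h.nW
  have pW : IsPGroup 2 W := fun w => ⟨1, Subtype.ext (by
    have := h.el w w.2
    simpa [pow_two] using this)⟩
  have sq : ∀ x ∈ H42.Pc.Sq V, x = 1 := by
    intro x hx
    have : H42.Pc.Sq V ≤ ⊥ := (closure_le _).2 (by
      rintro _ ⟨w, hw, rfl⟩
      exact h.el w (h.vw hw))
    exact this hx
  have cf : H42.Pc.Cf2 V W := by
    refine ⟨h.nV, h.nW, pW, fun y => ⟨fun hy => ?_, fun hy => ?_⟩, h.vw, fun y hy y' hy' n n' => ?_,
      fun y hy => ?_, fun y _ _ w hw => ?_⟩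
    · rw [h.el y hy]; exact one_mem _
    · by_contra hn
      exact h.sq y hn (h.vw hy) hy
    · obtain ⟨g, hg⟩ := h.tr y hy y' hy' n n'
      exact ⟨g, by rw [hg]⟩
    · rw [h.el y hy]; exact one_mem _
    · rw [h.el w (h.vw hw)]; exact one_mem _
  obtain ⟨P⟩ : Nonempty (Sylow 2 G) := inferInstance
  obtain ⟨t, -, t1, t2, t3⟩ := H6.PcPick.pick G W P h.ev
  refine ⟨t, t1, t2, ?_⟩
  rintro ⟨w, hw, hn⟩ v hv
  obtain ⟨a, ha, a1, a2⟩ := H33.PcFix.fix H68.PcC2.ab G V W P t cf P.isPGroup' t3 ⟨w, hw, by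
    rw [h.cen w⁻¹ (inv_mem hw) _ (h.nW.conj_mem w hw t)]
    exact hn⟩
  have hz : a⁻¹ * (t * a * t⁻¹) ∈ W := mul_mem (inv_mem ha) (h.nW.conj_mem a ha t)
  have e := sq _ (H60.PcCv1.cv1 H68.PcC2.ab (H39.PcTrans.trans H68.PcC2.ab) G V W P t _ cf t3 hz a1 a2
    (by
      have e1 : t * (a⁻¹ * (t * a * t⁻¹)) * t⁻¹ = (a⁻¹ * (t * a * t⁻¹))⁻¹ := by
        calc _ = t * a⁻¹ * t⁻¹ * (t * t * a) * t⁻¹ * t⁻¹ := by group
          _ = _ := by rw [h.cen _ t2 a ha]; group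
      rw [e1, h.el _ (inv_mem hz)]
      exact one_mem _) v hv)
  calc t * v = v * (v⁻¹ * (t * v * t⁻¹)) * t := by group
    _ = v * t := by rw [e, mul_one]

end Cfsg.Agent.H24.PlFxp
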