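import Cfsg.Agent.H46.UDefs
import Cfsg.Agent.S0249
import Cfsg.Agent.S0820
import Cfsg.Agent.H61.L34Rec
import Mathlib.LinearAlgebra.Matrix.GeneralLinearGroup.Projective

/-!
# Facts on `L₃(4) ≤ PGL₃(4)`
-/

set_option autoImplicit false
open Subgroup

namespace Cfsg.Agent.H24.S94q
open Cfsg.Agent.H46.S94 Matrix

variable {F : Type} [Field F]

/-- a matrix commuting with a regular nilpotent matrix is a polynomial in it -/
theorem comm_poly (N X : Matrix (Fin 3) (Fin 3) F) (w : Fin 3 → F)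
    (h2 : (N * N).mulVec w ≠ 0) (h3 : (N * N * N).mulVec w = 0) (hc : X * N = N * X) :
    ∃ a b c : F, X = a • (1 : Matrix (Fin 3) (Fin 3) F) + b • N + c • (N * N) := by
  let v : Fin 3 → (Fin 3 → F) := ![w, N.mulVec w, (N * N).mulVec w]
  have h4 : (N * N * (N * N)).mulVec w = 0 := by
    have : N * N * (N * N) = N * (N * N * N) := by simp only [mul_assoc]
    rw [this, ← mulVec_mulVec, h3, mulVec_zero]
  have hli : LinearIndependent F v := by
    rw [Fintype.linearIndependent_iff]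
    intro g hg
    rw [Fin.sum_univ_three] at hg
    have hg' : g 0 • w + g 1 • N.mulVec w + g 2 • (N * N).mulVec w = 0 := hg
    have e0 : g 0 = 0 := by
      have := congrArg (N * N).mulVec hg'
      rw [mulVec_add, mulVec_add, mulVec_smul, mulVec_smul, mulVec_smul, mulVec_mulVec,
        mulVec_mulVec, h3, h4, smul_zero, smul_zero, add_zero, add_zero, mulVec_zero] at this
      exact (smul_eq_zero.1 this).resolve_right h2
    have e1 : g 1 = 0 := by
      have := congrArg N.mulVec hg'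
      rw [e0, zero_smul, zero_add, mulVec_add, mulVec_smul, mulVec_smul, mulVec_mulVec,
        mulVec_mulVec, ← mul_assoc, h3, smul_zero, add_zero, mulVec_zero] at this
      exact (smul_eq_zero.1 this).resolve_right h2
    have e2 : g 2 = 0 := by
      rw [e0, e1, zero_smul, zero_smul, zero_add, zero_add] at hg'
      exact (smul_eq_zero.1 hg').resolve_right h2
    intro i
    fin_cases i
    · exact e0
    · exact e1
    · exact e2
  have hsp : Submodule.span F (Set.range v) = ⊤ :=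
    hli.span_eq_top_of_card_eq_finrank' (by simp)
  have hX : X.mulVec w ∈ Submodule.span F (Set.range v) := by rw [hsp]; trivial
  obtain ⟨g, hg⟩ := (Submodule.mem_span_range_iff_exists_fun F).1 hX
  rw [Fin.sum_univ_three] at hg
  have hg' : g 0 • w + g 1 • N.mulVec w + g 2 • (N * N).mulVec w = X.mulVec w := hg
  refine ⟨g 0, g 1, g 2, ?_⟩
  set Q : Matrix (Fin 3) (Fin 3) F := g 0 • (1 : Matrix (Fin 3) (Fin 3) F) + g 1 • N +
    g 2 • (N * N) with hQ
  have hQw : X.mulVec w = Q.mulVec w := by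
    rw [← hg', hQ, add_mulVec, add_mulVec, smul_mulVec, smul_mulVec, smul_mulVec, one_mulVec]
  have hQN : Q * N = N * Q := by
    rw [hQ]
    simp only [add_mul, mul_add, smul_mul_assoc, mul_smul_comm, one_mul, mul_one, mul_assoc]
  have hext : X.mulVecLin = Q.mulVecLin := by
    refine LinearMap.ext_on_range hsp fun i => ?_
    fin_cases i
    · exact hQw
    · change X.mulVec (N.mulVec w) = Q.mulVec (N.mulVec w)
      rw [mulVec_mulVec, mulVec_mulVec, hc, hQN, ← mulVec_mulVec, ← mulVec_mulVec, hQw]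
    · change X.mulVec ((N * N).mulVec w) = Q.mulVec ((N * N).mulVec w)
      have a1 : X * (N * N) = N * N * X := by rw [← mul_assoc, hc, mul_assoc, hc, mul_assoc]
      have a2 : Q * (N * N) = N * N * Q := by rw [← mul_assoc, hQN, mul_assoc, hQN, mul_assoc]
      rw [mulVec_mulVec, mulVec_mulVec, a1, a2, ← mulVec_mulVec, ← mulVec_mulVec _ _ Q, hQw]
  exact Matrix.toLin'.injective hext

theorem exists_w (N : Matrix (Fin 3) (Fin 3) F) (h2 : N * N ≠ 0) (h4 : N * N * (N * N) = 0) :
    ∃ w : Fin 3 → F, (N * N).mulVec w ≠ 0 ∧ (N * N * N).mulVec w = 0 := by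
  have ex : ∀ M : Matrix (Fin 3) (Fin 3) F, M ≠ 0 → ∃ v, M.mulVec v ≠ 0 := by
    intro M hM
    by_contra h
    push Not at h
    apply hM
    apply Matrix.toLin'.injective
    refine LinearMap.ext fun v => ?_
    simp [Matrix.toLin'_apply, h]
  by_cases h3 : N * N * N = 0
  · obtain ⟨v, hv⟩ := ex _ h2
    exact ⟨v, hv, by rw [h3, zero_mulVec]⟩
  · obtain ⟨v, hv⟩ := ex _ h3
    refine ⟨N.mulVec v, by rwa [mulVec_mulVec], ?_⟩
    rw [mulVec_mulVec, mul_assoc (N * N), h4, zero_mulVec]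

/-- in characteristic two, the centraliser of an element of order four has scalar fourth powers -/
theorem pow_four_scalar (h2 : (2 : F) = 0) (X Y : Matrix (Fin 3) (Fin 3) F)
    (hY4 : Y ^ 4 = 1) (hY2 : Y ^ 2 ≠ 1) (hc : X * Y = Y * X) :
    ∃ a : F, X ^ 4 = a • (1 : Matrix (Fin 3) (Fin 3) F) := by
  have t2 : ∀ M : Matrix (Fin 3) (Fin 3) F, M + M = 0 := fun M => by
    rw [← two_smul F M, h2, zero_smul]
  have sq : ∀ A B : Matrix (Fin 3) (Fin 3) F, A * B = B * A →
      (A + B) * (A + B) = A * A + B * B := fun A B h => by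
    rw [add_mul, mul_add, mul_add, ← h, add_assoc, ← add_assoc (A * B), t2, zero_add]
  obtain ⟨N, hN⟩ : ∃ N : Matrix (Fin 3) (Fin 3) F, N = Y + 1 := ⟨_, rfl⟩
  have hNN : N * N = Y * Y + 1 := by rw [hN, sq Y 1 (by simp), mul_one]
  have hN2 : N * N ≠ 0 := by
    rw [hNN]
    intro h
    apply hY2
    rw [pow_two, eq_neg_of_add_eq_zero_left h, neg_eq_of_add_eq_zero_left (t2 1)]
  have hN4 : N * N * (N * N) = 0 := by
    rw [hNN, sq _ 1 (by simp), mul_one]
    have : Y * Y * (Y * Y) = Y ^ 4 := by simp only [pow_succ, pow_zero, one_mul, mul_assoc]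
    rw [this, hY4, t2]
  obtain ⟨w, hw2, hw3⟩ := exists_w N hN2 hN4
  have hXN : X * N = N * X := by rw [hN, mul_add, add_mul, hc, mul_one, one_mul]
  obtain ⟨a, b, c, hX⟩ := comm_poly N X w hw2 hw3 hXN
  obtain ⟨M, hM⟩ : ∃ M : Matrix (Fin 3) (Fin 3) F, M = b • N + c • (N * N) := ⟨_, rfl⟩
  have hMM : M * M = (b * b) • (N * N) := by
    rw [hM, sq _ _ (by simp only [smul_mul_assoc, mul_smul_comm, mul_assoc, smul_comm b c])]
    simp only [smul_mul_assoc, mul_smul_comm, hN4, smul_zero, add_zero, smul_smul]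
  have hX' : X = a • (1 : Matrix (Fin 3) (Fin 3) F) + M := by rw [hX, hM, add_assoc]
  have hXX : X * X = (a * a) • (1 : Matrix (Fin 3) (Fin 3) F) + M * M := by
    rw [hX', sq _ _ (by simp only [smul_mul_assoc, mul_smul_comm, one_mul, mul_one])]
    simp only [smul_mul_assoc, mul_smul_comm, mul_one, smul_smul]
  refine ⟨a * a * (a * a), ?_⟩
  have : X ^ 4 = X * X * (X * X) := by simp only [pow_succ, pow_zero, one_mul, mul_assoc]
  rw [this, hXX, sq _ _ (by simp only [smul_mul_assoc, mul_smul_comm, one_mul, mul_one]), hMM]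
  simp only [smul_mul_assoc, mul_smul_comm, mul_one, smul_smul, hN4, smul_zero, add_zero]

/-- the determinant on `PGL₃(F)` when all cubes of units are trivial -/
def dbar (h3 : ∀ u : Fˣ, u ^ 3 = 1) : PG3 F →* Fˣ :=
  QuotientGroup.lift _ GeneralLinearGroup.det (by
    intro g hg
    rw [GeneralLinearGroup.center_eq_range_scalar] at hg
    obtain ⟨u, rfl⟩ := hg
    rw [MonoidHom.mem_ker, GeneralLinearGroup.det_scalar, Fintype.card_fin, h3])

theorem ker_dbar (h3 : ∀ u : Fˣ, u ^ 3 = 1) : (dbar h3).ker = KK F := by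
  ext x
  induction x using QuotientGroup.induction_on with | H g =>
  rw [MonoidHom.mem_ker]
  constructor
  · intro h
    have h' : GeneralLinearGroup.det g = 1 := h
    refine ⟨⟨g.1, ?_⟩, ?_⟩
    · rw [← GeneralLinearGroup.val_det_apply, h', Units.val_one]
    · change QuotientGroup.mk _ = QuotientGroup.mk g
      congr 1
      exact Units.ext rfl
  · rintro ⟨s, hs⟩
    rw [← hs]
    change GeneralLinearGroup.det (SpecialLinearGroup.toGL s) = 1
    exact Units.ext (by simp)

theorem dbar_surj (h3 : ∀ u : Fˣ, u ^ 3 = 1) : Function.Surjective (dbar h3) := fun u => by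
  obtain ⟨g, hg⟩ := GeneralLinearGroup.det_surjective (n := Fin 3) u
  exact ⟨QuotientGroup.mk g, hg⟩

theorem iso_psl : Nonempty (KK F ≃* Matrix.ProjectiveSpecialLinearGroup (Fin 3) F) := by
  have hk : ((QuotientGroup.mk' (center (GL (Fin 3) F))).comp
      Matrix.SpecialLinearGroup.toGL).ker = center (SpecialLinearGroup (Fin 3) F) :=
    SpecialLinearGroup.toPGL_ker
  exact ⟨(QuotientGroup.quotientKerEquivRange _).symm.trans
    (QuotientGroup.quotientMulEquivOfEq hk)⟩

theorem odd_cent (h2 : (2 : F) = 0) (h3 : ∀ u : Fˣ, u ^ 3 = 1) (x y : PG3 F)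
    (hx : Odd (orderOf x)) (hy : orderOf y = 4) (hc : x * y = y * x) : x = 1 := by
  have hmk : ∀ g : GL (Fin 3) F, (QuotientGroup.mk g : PG3 F) = 1 ↔
      ∃ u : Fˣ, GeneralLinearGroup.scalar (Fin 3) u = g := fun g => by
    rw [QuotientGroup.eq_one_iff, GeneralLinearGroup.center_eq_range_scalar]; rfl
  have hcen : ∀ (u : Fˣ) (g : GL (Fin 3) F),
      Commute (GeneralLinearGroup.scalar (Fin 3) u) g := fun u g => by
    have : GeneralLinearGroup.scalar (Fin 3) u ∈ center (GL (Fin 3) F) := by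
      rw [GeneralLinearGroup.center_eq_range_scalar]; exact ⟨u, rfl⟩
    exact (mem_center_iff.1 this g).symm
  have h4 : ∀ u : Fˣ, u ^ 4 = u := fun u => by rw [pow_succ, h3, one_mul]
  induction x using QuotientGroup.induction_on with | H X =>
  obtain ⟨Y, rfl, hY4⟩ : ∃ Y : GL (Fin 3) F, (QuotientGroup.mk Y : PG3 F) = y ∧ Y ^ 4 = 1 := by
    induction y using QuotientGroup.induction_on with | H Y0 =>
    have : (QuotientGroup.mk (Y0 ^ 4) : PG3 F) = 1 := by
      rw [QuotientGroup.mk_pow, ← hy, pow_orderOf_eq_one]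
    obtain ⟨u, hu⟩ := (hmk _).1 this
    refine ⟨GeneralLinearGroup.scalar (Fin 3) u⁻¹ * Y0, ?_, ?_⟩
    · rw [QuotientGroup.mk_mul, (hmk _).2 ⟨_, rfl⟩, one_mul]
    · rw [(hcen _ _).mul_pow, ← map_pow, h4, ← hu, ← map_mul, inv_mul_cancel, map_one]
  have hY2 : Y ^ 2 ≠ 1 := by
    intro h
    have : (QuotientGroup.mk Y : PG3 F) ^ 2 = 1 := by rw [← QuotientGroup.mk_pow, h]; rfl
    have := orderOf_dvd_of_pow_eq_one this
    rw [hy] at this
    omega
  have hXY : X * Y = Y * X := by
    have : (QuotientGroup.mk (X * Y * X⁻¹ * Y⁻¹) : PG3 F) = 1 := by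
      rw [QuotientGroup.mk_mul, QuotientGroup.mk_mul, QuotientGroup.mk_mul, hc,
        QuotientGroup.mk_inv, QuotientGroup.mk_inv]
      group
    obtain ⟨u, hu⟩ := (hmk _).1 this
    have e : X * Y * X⁻¹ = GeneralLinearGroup.scalar (Fin 3) u * Y := by rw [hu]; group
    have e4 : (X * Y * X⁻¹) ^ 4 = (GeneralLinearGroup.scalar (Fin 3) u * Y) ^ 4 := by rw [e]
    rw [conj_pow, hY4, (hcen _ _).mul_pow, ← map_pow, h4, hY4, mul_one, mul_one,
      mul_inv_cancel] at e4
    rw [← e4, one_mul] at e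
    exact mul_inv_eq_iff_eq_mul.1 e
  obtain ⟨a, ha⟩ := pow_four_scalar h2 X.1 Y.1
    (by rw [← Units.val_pow_eq_pow_val, hY4, Units.val_one])
    (fun h => hY2 (Units.ext (by rw [Units.val_pow_eq_pow_val, h, Units.val_one])))
    (by rw [← Units.val_mul, hXY, Units.val_mul])
  have hX4 : (QuotientGroup.mk X : PG3 F) ^ 4 = 1 := by
    rw [← QuotientGroup.mk_pow, QuotientGroup.eq_one_iff, mem_center_iff]
    intro g
    apply Units.ext
    rw [Units.val_mul, Units.val_mul, Units.val_pow_eq_pow_val, ha, smul_mul_assoc,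
      mul_smul_comm, one_mul, mul_one]
  have hd := orderOf_dvd_of_pow_eq_one hX4
  have : Nat.Coprime (orderOf (QuotientGroup.mk X : PG3 F)) 4 := by
    have : (4 : ℕ) = 2 ^ 2 := by norm_num
    rw [this]
    exact Nat.Coprime.pow_right _ (Nat.coprime_two_right.2 hx)
  exact orderOf_eq_one_iff.1 (Nat.Coprime.eq_one_of_dvd this hd)

theorem lq1 : LQ1Stmt := by
  intro F _ _ hF
  classical
  have hu : Nat.card Fˣ = 3 := by
    rw [Nat.card_eq_fintype_card, Fintype.card_units, hF]
  have h3 : ∀ u : Fˣ, u ^ 3 = 1 := fun u => by rw [← hu, pow_card_eq_one']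
  have h2 : (2 : F) = 0 := by
    have h4 : ((4 : ℕ) : F) = 0 := by rw [← hF]; exact FiniteField.cast_card_eq_zero F
    have : (2 : F) ^ 2 = 0 := by rw [← h4]; norm_num
    exact pow_eq_zero_iff (by norm_num) |>.1 this
  obtain ⟨e⟩ := iso_psl (F := F)
  have hsimple : IsSimpleGroup (KK F) := by
    have := Cfsg.Agent.S0249.result (F := F) 3 le_rfl
    exact e.isSimpleGroup
  have hcard : Nat.card (KK F) = 20160 := by
    rw [Nat.card_congr e.toEquiv, Cfsg.Agent.H61.card_PSL34 hF]
  refine ⟨?_, ?_, hsimple, ?_, ⟨e⟩, hcard, ?_, odd_cent h2 h3⟩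
  · rw [← ker_dbar h3]; infer_instance
  · rw [← ker_dbar h3, Subgroup.index_ker, MonoidHom.range_eq_top.2 (dbar_surj h3),
      Subgroup.card_top, hu]
  · intro h
    have := Group.is_simple_iff_prime_card.1 hsimple
    rw [hcard] at this
    norm_num at this
  · intro x y hx hy
    have hin : ∀ z : PG3 F, orderOf z = 2 → z ∈ KK F := fun z hz => by
      rw [← ker_dbar h3, MonoidHom.mem_ker]
      have a2 : dbar h3 z ^ 2 = 1 := by rw [← map_pow, ← hz, pow_orderOf_eq_one, map_one]
      have a3 := h3 (dbar h3 z)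
      rwa [pow_succ, a2, one_mul] at a3
    have ho : ∀ (z : PG3 F) (hz : orderOf z = 2), orderOf (e ⟨z, hin z hz⟩) = 2 := fun z hz => by
      rw [MulEquiv.orderOf_eq, ← Subgroup.orderOf_coe, hz]
    obtain ⟨c, hc⟩ := isConj_iff.1 (Cfsg.Agent.S0820.result hF _ _ (ho x hx) (ho y hy))
    refine ⟨(e.symm c : KK F), (e.symm c).2, ?_⟩
    have := congrArg (fun t => ((e.symm t : KK F) : PG3 F)) hc
    simpa using this

theorem eqns_S94q : True := by
  have := @dbar.eq_1
  trivial

end Cfsg.Agent.H24.S94q
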