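import Cfsg.Agent.H46.SKit
import Cfsg.Agent.H44.KiA
import Cfsg.Agent.H59.KO
import Cfsg.Prelude.Def_KGroupFacts

/-!
# General lemmas for the facts about automorphisms of permutation models
-/

set_option autoImplicit false
open scoped Pointwise commutatorElement
open Subgroup

namespace Cfsg.Agent.H24.S95G
open Cfsg.Agent.H44 Cfsg.Agent.H44.Ki Cfsg.Agent.H59 Equiv
open Cfsg.Agent.H43 hiding allL allL_iff anyL anyL_iff

local notation "C[" A "]" => Subgroup.centralizer (SetLike.coe A)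
local notation "N[" A "]" => Subgroup.normalizer (SetLike.coe A)

section words
variable {G : Type*} [Group G]

/-- The normal forms of a polycyclic series. -/
def subl : ℕ → List (List ℕ)
  | 0 => [[]]
  | j + 1 => subl j ++ (subl j).map ((j + 1) :: ·)

theorem nf {μ : ℕ → G} {k : ℕ} (h : Pc μ k) {j : ℕ} (hj : j ≤ k) :
    ∀ y ∈ gen μ j, ∃ l ∈ subl j, y = ev μ l := by
  induction j with
  | zero => intro y hy; rw [gen_zero, mem_bot] at hy; exact ⟨[], by simp [subl], hy⟩
  | succ j ih =>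
    intro y hy
    rcases h.two j hj y hy with e | e <;> obtain ⟨l, hl, e⟩ := ih (by omega) _ e
    · exact ⟨l, List.mem_append_left _ hl, e⟩
    · exact ⟨_, List.mem_append_right _ (List.mem_map_of_mem hl), by
        rw [ev_cons, ← e, mul_inv_cancel_left]⟩

theorem subl_letters {j : ℕ} : ∀ l ∈ subl j, ∀ x ∈ l, 1 ≤ x ∧ x ≤ j := by
  induction j with
  | zero => simp [subl]
  | succ j ih =>
    intro l hl x hx
    rcases List.mem_append.1 hl with h | h
    · have := ih l h x hx; omega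
    · obtain ⟨u, hu, rfl⟩ := List.mem_map.1 h
      rcases List.mem_cons.1 hx with rfl | hx
      · omega
      · have := ih u hu x hx; omega

theorem subl_mem (μ : ℕ → G) {j : ℕ} {l : List ℕ} (hl : l ∈ subl j) : ev μ l ∈ gen μ j :=
  ev_mem fun x hx => mem_gen μ (subl_letters l hl x hx).1 (subl_letters l hl x hx).2

theorem gen_eq (μ : ℕ → G) (k : ℕ) : gen μ k = wgen μ (sing (List.range' 1 k)) :=
  le_antisymm (gen_le.2 fun x h1 h2 => ev_single μ x ▸ mem_wgen μ _
      (List.mem_map.2 ⟨x, List.mem_range'_1.2 ⟨h1, by omega⟩, rfl⟩))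
    (wgen_le.2 fun s hs => by
      obtain ⟨x, hx, rfl⟩ := List.mem_map.1 hs
      rw [ev_single]
      have := List.mem_range'_1.1 hx
      exact mem_gen μ this.1 (by omega))

variable {D : MD} {ι : G →* Perm (Fin D.n)} {ν : ℕ → G}

theorem ok_iff (h : D.Ok ι ν) (l r : List ℕ) : D.eqW l r = true ↔ ev ν l = ev ν r :=
  ⟨h.eq, fun e => by
    have h1 := mov_evL (rep_FK h.hn.1 D.k) h.ok D.code l D.L
    rw [← h.map_ev, e, h.map_ev] at h1
    rw [MD.eqW, h1.unique (mov_evL (rep_FK h.hn.1 D.k) h.ok D.code r D.L), Nat.beq_refl]⟩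

theorem ko_of (h : D.Ok ι ν) : KO ν D.eqW D.key := ⟨ok_iff h, fun _ _ => h.key_eq⟩

theorem com_wgen {eqB : List ℕ → List ℕ → Bool} {key : List ℕ → ℕ} (ko : KO ν eqB key)
    {S S' : List (List ℕ)} (h : comK eqB S' S = true) : wgen ν S ≤ C[wgen ν S'] :=
  wgen_le.2 fun s hs => by
    rw [wgen, centralizer_closure]
    rintro _ ⟨x, hx, rfl⟩
    exact (ko.com h s hs x hx).symm

/-- the number of elements with a property, bounded by a count over a list of words -/
theorem card_le_count {W : List (List ℕ)} {O : Set G} {p : List ℕ → Bool}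
    (h : ∀ x ∈ O, ∃ w ∈ W, x = ev ν w ∧ p w = true) : O.ncard ≤ (W.filter p).length := by
  rw [← List.length_map (ev ν)]
  refine ncard_le_len fun x hx => ?_
  obtain ⟨w, hw, rfl, e⟩ := h x hx
  exact List.mem_map_of_mem (List.mem_filter.2 ⟨hw, e⟩)

/-- the products of the sublists -/
def subs : List (List ℕ) → List (List ℕ)
  | [] => [[]]
  | s :: S => subs S ++ (subs S).map (· ++ s)

theorem wgen_cons (s : List ℕ) (S : List (List ℕ)) :
    wgen ν (s :: S) = zpowers (ev ν s) ⊔ wgen ν S :=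
  le_antisymm (wgen_le.2 fun t ht => (List.mem_cons.1 ht).elim
      (fun e => e ▸ mem_sup_left (mem_zpowers _)) fun h => mem_sup_right (mem_wgen ν t h))
    (sup_le (zpowers_le.2 (mem_wgen ν s List.mem_cons_self))
      (wgen_le.2 fun t ht => mem_wgen ν t (List.mem_cons_of_mem _ ht)))

theorem subs_mem {S : List (List ℕ)} : ∀ u ∈ subs S, ev ν u ∈ wgen ν S := by
  induction S with
  | nil => intro u hu; rw [List.mem_singleton.1 hu]; exact one_mem _
  | cons s S ih =>
    intro u hu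
    rw [wgen_cons]
    rcases List.mem_append.1 hu with h | h
    · exact mem_sup_right (ih u h)
    · obtain ⟨w, hw, rfl⟩ := List.mem_map.1 h
      rw [ev_append]
      exact mul_mem (mem_sup_right (ih w hw)) (mem_sup_left (mem_zpowers _))

theorem length_subs (S : List (List ℕ)) : (subs S).length = 2 ^ S.length := by
  induction S with
  | nil => rfl
  | cons s S ih => simp [subs, ih, pow_succ, mul_two]

/-- the elements of a group generated by commuting involutions -/
theorem el_cover {S : List (List ℕ)} (h1 : ∀ s ∈ S, ev ν s * ev ν s = 1)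
    (h2 : ∀ s ∈ S, ∀ t ∈ S, ev ν s * ev ν t = ev ν t * ev ν s) :
    ∀ ξ ∈ wgen ν S, ∃ u ∈ subs S, ξ = ev ν u := by
  induction S with
  | nil =>
    intro ξ hξ
    exact ⟨[], List.mem_singleton_self _, mem_bot.1 (wgen_le.2 (by simp) hξ)⟩
  | cons s S ih =>
    intro ξ hξ
    have ih := ih (fun t ht => h1 t (List.mem_cons_of_mem _ ht)) fun t ht u hu =>
      h2 t (List.mem_cons_of_mem _ ht) u (List.mem_cons_of_mem _ hu)
    have e := h1 s List.mem_cons_self
    have hn : ev ν s ∈ N[wgen ν S] := centralizer_le_normalizer _ (by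
      rw [wgen, centralizer_closure]
      rintro _ ⟨t, ht, rfl⟩
      exact h2 t (List.mem_cons_of_mem _ ht) s List.mem_cons_self)
    rw [wgen_cons, H23.D2.mem_sup_zp e hn] at hξ
    rcases hξ with h | h <;> obtain ⟨u, hu, k⟩ := ih _ h
    · exact ⟨u, List.mem_append_left _ hu, k⟩
    · exact ⟨_, List.mem_append_right _ (List.mem_map_of_mem hu), by
        rw [ev_append, ← k, mul_assoc, e, mul_one]⟩

section ko
variable {eqB : List ℕ → List ℕ → Bool} {key : List ℕ → ℕ}

theorem el_cov (ko : KO ν eqB key) {S : List (List ℕ)}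
    (h : bA (allL (fun s => eqB (s ++ s) []) S) (comK eqB S S) = true) :
    ∀ ξ ∈ wgen ν S, ∃ u ∈ subs S, ξ = ev ν u :=
  el_cover (fun s hs => by
    rw [← ev_append]; exact ko.eq _ _ (allL_iff.1 (bA_iff.1 h).1 s hs)) (ko.com (bA_iff.1 h).2)

theorem el_sq (ko : KO ν eqB key) {S : List (List ℕ)}
    (h : bA (allL (fun s => eqB (s ++ s) []) S) (comK eqB S S) = true) :
    ∀ ξ ∈ wgen ν S, ξ * ξ = 1 := fun ξ hξ => by
  have hc := com_wgen ko (bA_iff.1 h).2
  induction hξ using closure_induction with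
  | mem x hx =>
    obtain ⟨s, hs, rfl⟩ := hx
    rw [← ev_append]; exact ko.eq _ _ (allL_iff.1 (bA_iff.1 h).1 s hs)
  | one => exact mul_one 1
  | mul x y hx hy e1 e2 =>
    rw [mul_assoc, ← mul_assoc y, hc hx y hy, mul_assoc, e2, mul_one, e1]
  | inv x _ e => rw [← mul_inv_rev, e, inv_one]

theorem norm_of [Finite G] (ko : KO ν eqB key) {K S W : List (List ℕ)}
    (hW : ∀ u ∈ W, ev ν u ∈ wgen ν S)
    (h : allL (fun c => allL (fun s => anyL (fun u => eqB (c ++ s) (u ++ c)) W) S) K = true) :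
    wgen ν K ≤ N[wgen ν S] := wgen_le.2 fun c hc => mem_norm (by
  rintro _ ⟨s, hs, rfl⟩
  obtain ⟨u, hu, e⟩ := anyL_iff.1 (allL_iff.1 (allL_iff.1 h c hc) s hs)
  have := ko.eq _ _ e
  rw [ev_append, ev_append] at this
  rw [this, mul_inv_cancel_right]
  exact hW u hu)

/-- the generators are commutators -/
theorem perf_of (ko : KO ν eqB key) {S : List ℕ} {W : List (List ℕ × List ℕ)}
    (h : allP (fun s p => p.1.all S.contains && p.2.all S.contains &&
      eqB (p.1 ++ p.2) (s :: (p.2 ++ p.1))) S W = true) :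
    ⁅wgen ν (sing S), wgen ν (sing S)⁆ = wgen ν (sing S) :=
  le_antisymm (commutator_le.2 fun a ha b hb =>
      mul_mem (mul_mem (mul_mem ha hb) (inv_mem ha)) (inv_mem hb))
    (wgen_le.2 fun s hs => by
      obtain ⟨x, hx, rfl⟩ := List.mem_map.1 hs
      obtain ⟨p, e⟩ := allP_spec h x hx
      simp only [Bool.and_eq_true] at e
      have k := ko.eq _ _ e.2
      rw [ev_append, ev_cons, ev_append] at k
      have : ev ν [x] = ⁅ev ν p.1, ev ν p.2⁆ := by
        rw [ev_single, commutatorElement_def, k]; group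
      rw [this]
      exact commutator_mem_commutator (ev_sing ν e.1.1) (ev_sing ν e.1.2))

end ko

end words

section nets

theorem pt_of {n : ℕ} {E : List Net} (hE : okE n E = true) {code w : List ℕ} {a b : ℕ}
    (ha : a < n) (hb : b < n)
    (h : Nat.beq (evL F1 E code w (Nat.shiftLeft 1 a)) (Nat.shiftLeft 1 b) = true) :
    ev (gp n E code) w ⟨a, ha⟩ = ⟨b, hb⟩ := by
  have h1 := (mov_evL (rep_F1 n) hE code w (Nat.shiftLeft 1 a)).image_pset
  rwa [Nat.eq_of_beq_eq_true h, pset_one_shiftLeft ha, pset_one_shiftLeft hb,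
    Set.image_singleton, Set.singleton_eq_singleton_iff] at h1

theorem getN_lt {E E' : List Net} {c : ℕ} (h : c < E.length) : getN (E ++ E') c = getN E c := by
  induction E generalizing c with
  | nil => simp at h
  | cons o E ih =>
    cases c with
    | zero => rfl
    | succ c => exact ih (by simpa using h)

theorem getN_len (E : List Net) (o : Net) : getN (E ++ [o]) E.length = o := by
  induction E with
  | nil => rfl
  | cons _ E ih => exact ih

theorem nth_snoc (l : List ℕ) (c x : ℕ) :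
    nth 0 (l ++ [c]) x = if x = l.length then c else nth 0 l x := by
  induction l generalizing x with
  | nil => cases x <;> simp [nth_cons_zero, nth_cons_succ, nth_nil]
  | cons a l ih =>
    cases x with
    | zero => simp [nth_cons_zero]
    | succ x => simpa [nth_cons_succ] using ih x

/-- one more network, one more letter -/
theorem gp_snoc {n : ℕ} {E : List Net} {code : List ℕ} (o : Net) {a b : ℕ} (ha : E.length = a)
    (hb : code.length = b) (h0 : 0 < a) (h : code.all (· / 2 < a) = true) (x : ℕ) :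
    gp n (E ++ [o]) (code ++ [2 * a]) x = if x = b then o.toPerm n else gp n E code x := by
  subst ha hb
  unfold gp
  rw [nth_snoc]
  split_ifs with e
  · unfold letterG
    rw [if_pos (by omega), Nat.mul_div_cancel_left _ two_pos]
    simp only [getN_len]
  · have : nth 0 code x / 2 < E.length := by
      rcases nth_mem 0 code x with e | e
      · rw [e]; exact h0
      · simpa using List.all_eq_true.1 h _ e
    unfold letterG
    simp only [getN_lt this]

end nets

section aut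
variable {Γ : Type} [Group Γ]
open Cfsg.Agent.H46.S95

theorem card_out_congr {G H : Type*} [Group G] [Group H] (e : G ≃* H) :
    Nat.card (Cfsg.Out G) = Nat.card (Cfsg.Out H) := by
  have h : (Cfsg.Inn G).map (MulAut.congr e).toMonoidHom = Cfsg.Inn H := by
    ext ψ
    constructor
    · rintro ⟨_, ⟨g, rfl⟩, rfl⟩
      refine ⟨e g, ?_⟩
      ext x
      simp [MulAut.congr]
    · rintro ⟨g, rfl⟩
      refine ⟨MulAut.conj (e.symm g), ⟨_, rfl⟩, ?_⟩
      ext x
      simp [MulAut.congr]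
  have h2 := Subgroup.index_map_equiv (Cfsg.Inn G) (MulAut.congr e)
  rw [← Subgroup.index_eq_card, ← Subgroup.index_eq_card, ← h2, ← h]
  rfl

theorem cases_of_out (hc : Nat.card (Cfsg.Out Γ) = 2) {ω : MulAut Γ} (hω : ¬ H46.S95.Inn ω)
    (α : MulAut Γ) : ∃ g, α = MulAut.conj g ∨ α = MulAut.conj g * ω := by
  by_cases h : α ∈ Cfsg.Inn Γ
  · exact let ⟨g, e⟩ := h; ⟨g, .inl e.symm⟩
  obtain ⟨g, e⟩ : α * ω⁻¹ ∈ Cfsg.Inn Γ := by
    rw [← QuotientGroup.eq_one_iff, QuotientGroup.mk_mul, QuotientGroup.mk_inv, mul_inv_eq_one]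
    exact ((Nat.card_eq_two_iff' (1 : Cfsg.Out Γ)).1 hc).unique
      (mt (QuotientGroup.eq_one_iff _).1 h)
      (mt (QuotientGroup.eq_one_iff _).1 fun ⟨g, e⟩ => hω ⟨g, e.symm⟩)
  exact ⟨g, .inr (by rw [e, inv_mul_cancel_right])⟩

theorem conj_cj (α : MulAut Γ) (g : Γ) : α * MulAut.conj g * α⁻¹ = MulAut.conj (α g) := by
  ext x; simp

theorem out2_of {ω : MulAut Γ} (h2 : ω * ω = 1)
    (hc : ∀ α : MulAut Γ, ∃ g, α = MulAut.conj g ∨ α = MulAut.conj g * ω) (α β : MulAut Γ) :
    H46.S95.Inn α ∨ H46.S95.Inn β ∨ H46.S95.Inn (α * β) := by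
  obtain ⟨g, rfl | rfl⟩ := hc α
  · exact .inl ⟨g, rfl⟩
  obtain ⟨k, rfl | rfl⟩ := hc β
  · exact .inr (.inl ⟨k, rfl⟩)
  refine .inr (.inr ⟨g * ω k, ?_⟩)
  rw [map_mul, ← conj_cj, inv_eq_of_mul_eq_one_right h2]
  simp only [mul_assoc]

theorem conj_inj (hZ : ∀ a : Γ, (∀ x, a * x = x * a) → a = 1) :
    Function.Injective (MulAut.conj : Γ →* MulAut Γ) :=
  (injective_iff_map_eq_one _).2 fun a e => hZ a fun x => by
    have := DFunLike.congr_fun e x
    simpa [mul_inv_eq_iff_eq_mul] using this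

theorem card_aut [Finite Γ] (hZ : ∀ a : Γ, (∀ x, a * x = x * a) → a = 1)
    (hc : Nat.card (Cfsg.Out Γ) = 2) : Nat.card (MulAut Γ) = 2 * Nat.card Γ := by
  rw [← (Cfsg.Inn Γ).index_mul_card, index_eq_card, hc,
    Nat.card_congr (MonoidHom.ofInjective (conj_inj hZ)).toEquiv.symm]

/-- the automorphism group inside the normaliser -/
theorem exists_iota {P : Type} [Group P] {Λ : Subgroup P} {π : P} (hπ : π * π = 1)
    (hn : π ∈ N[Λ]) (hZ : ∀ a : Λ, (∀ x, a * x = x * a) → a = 1) {ω : MulAut Λ}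
    (hω : ∀ x, (ω x : P) = π * x * π⁻¹) (ho : ¬ H46.S95.Inn ω)
    (hc : ∀ α : MulAut Λ, ∃ g, α = MulAut.conj g ∨ α = MulAut.conj g * ω) :
    ∃ ι : MulAut Λ →* P, Function.Injective ι ∧ (∀ g, ι (MulAut.conj g) = g) ∧ ι ω = π := by
  have hK : zpowers π ⊔ Λ ≤ N[Λ] := sup_le (zpowers_le.2 hn) le_normalizer
  let Φ : ↥(zpowers π ⊔ Λ) →* MulAut Λ := (normalizerMonoidHom Λ).comp (inclusion hK)
  have hΦ : ∀ k x, (Φ k x : P) = k * x * (k : P)⁻¹ := fun _ _ => rfl
  have e1 : ∀ g : Λ, Φ ⟨g, mem_sup_right g.2⟩ = MulAut.conj g := fun g => by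
    ext x; rw [hΦ]; rfl
  have e2 : Φ ⟨π, mem_sup_left (mem_zpowers π)⟩ = ω := by
    ext x; rw [hΦ, hω]
  have hb : Function.Bijective Φ := by
    refine ⟨(injective_iff_map_eq_one _).2 fun k e => ?_, fun α => ?_⟩
    · rcases (H23.D2.mem_sup_zp hπ hn).1 k.2 with h | h
      · have := conj_inj hZ ((e1 ⟨k, h⟩).symm.trans (e.trans (map_one _).symm))
        exact Subtype.ext (congrArg (Subtype.val : Λ → P) this)
      · refine absurd ⟨⟨k * π, h⟩, ?_⟩ ho
        rw [← e1, ← e2, ← one_mul (Φ ⟨π, _⟩), ← e, ← map_mul]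
        rfl
    · obtain ⟨g, rfl | rfl⟩ := hc α
      · exact ⟨_, e1 g⟩
      · exact ⟨_, by rw [← e1, ← e2, ← map_mul]⟩
  let e := MulEquiv.ofBijective Φ hb
  refine ⟨(zpowers π ⊔ Λ).subtype.comp e.symm.toMonoidHom,
    (subtype_injective _).comp e.symm.injective, fun g => ?_, ?_⟩
  · rw [← e1]; exact congrArg Subtype.val (e.symm_apply_apply _)
  · rw [← e2]; exact congrArg Subtype.val (e.symm_apply_apply _)

end aut

section pure
variable {G : Type*} [Group G]

/-- an endomorphism of a perfect group fixing a normal subgroup with central centraliser -/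
theorem triv_of {L : Type*} [Group L] (θ : L →* L) (Q : Subgroup L) [hQ : Q.Normal]
    (h : ∀ q ∈ Q, θ q = q) (hC : C[Q] ≤ center L) (hp : commutator L = ⊤) (l : L) : θ l = l := by
  have h1 : ∀ l : L, l⁻¹ * θ l ∈ center L := fun l => hC fun q hq => by
    have e := h _ (hQ.conj_mem q hq l)
    rw [map_mul, map_mul, map_inv, h q hq] at e
    calc q * (l⁻¹ * θ l) = l⁻¹ * (l * q * l⁻¹) * θ l := by group
      _ = _ := by rw [← e]; group
  have h2 : commutator L ≤ θ.eqLocus (MonoidHom.id L) := by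
    rw [commutator_def, commutator_le]
    intro a _ b _
    change θ ⁅a, b⁆ = ⁅a, b⁆
    obtain ⟨c, hc, ea⟩ : ∃ c ∈ center L, θ a = a * c := ⟨_, h1 a, by group⟩
    obtain ⟨d, hd, eb⟩ : ∃ d ∈ center L, θ b = b * d := ⟨_, h1 b, by group⟩
    have hc' := mem_center_iff.1 hc
    have hd' := mem_center_iff.1 hd
    rw [map_commutatorElement, ea, eb, commutatorElement_def, commutatorElement_def]
    calc a * c * (b * d) * (a * c)⁻¹ * (b * d)⁻¹
        = a * (c * (b * d)) * c⁻¹ * a⁻¹ * d⁻¹ * b⁻¹ := by group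
      _ = a * b * (d * a⁻¹) * d⁻¹ * b⁻¹ := by rw [← hc' (b * d)]; group
      _ = _ := by rw [← hd' a⁻¹]; group
  exact h2 (by rw [hp]; exact mem_top l)

theorem comm_top {L : Subgroup G} (hp : ⁅L, L⁆ = L) : commutator L = ⊤ := by
  apply map_injective L.subtype_injective
  rw [commutator_def, map_commutator, ← MonoidHom.range_eq_map, range_subtype, hp]

/-- lemma (A) for an automorphism of the ambient group -/
theorem triv_amb {L Q : Subgroup G} (α : MulAut G) (hL : ∀ l ∈ L, α l ∈ L) (hQ : Q ≤ L)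
    (hn : L ≤ N[Q]) (h : ∀ q ∈ Q, α q = q) (hC : L ⊓ C[Q] ≤ C[L]) (hp : ⁅L, L⁆ = L) :
    ∀ l ∈ L, α l = l := fun l hl => by
  have := normal_subgroupOf_of_le_normalizer hn
  exact congrArg Subtype.val (triv_of ((α.toMonoidHom.comp L.subtype).codRestrict L fun l => hL l l.2)
    (Q.subgroupOf L) (fun q hq => Subtype.ext (h q hq))
    (fun c hc => mem_center_iff.2 fun g => Subtype.ext (hC (mem_inf.2 ⟨c.2, fun q hq =>
      congrArg Subtype.val (hc ⟨q, hQ hq⟩ hq)⟩) g g.2)) (comm_top hp) ⟨l, hl⟩)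

/-- a `p`-subgroup is conjugate into a subgroup of order the full power of `p` -/
theorem conj_into [Finite G] {p k : ℕ} [hp : Fact p.Prime] {T P : Subgroup G}
    (hT : Nat.card T = p ^ k) (hG : ¬ p ^ (k + 1) ∣ Nat.card G) (hP : IsPGroup p P) :
    ∃ g : G, ∀ x ∈ P, g * x * g⁻¹ ∈ T := by
  let S : Sylow p G := (IsPGroup.of_card hT).toSylow fun e => hG (by
    rw [← T.index_mul_card, hT, pow_succ']
    exact mul_dvd_mul_right e _)
  obtain ⟨R, hR⟩ := hP.exists_le_sylow
  obtain ⟨g, hg⟩ := MulAction.exists_smul_eq G R S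
  refine ⟨g, fun x hx => ?_⟩
  change _ ∈ (S : Subgroup G)
  rw [← hg, Sylow.coe_subgroup_smul]
  exact smul_mem_pointwise_smul _ _ _ (hR hx)

/-- the same inside a subgroup `L` -/
theorem conj_into' [Finite G] {p k : ℕ} [hp : Fact p.Prime] {L T P : Subgroup G} (h1 : T ≤ L)
    (h2 : P ≤ L) (hT : Nat.card T = p ^ k) (hG : ¬ p ^ (k + 1) ∣ Nat.card L)
    (hP : IsPGroup p P) : ∃ g ∈ L, ∀ x ∈ P, g * x * g⁻¹ ∈ T := by
  obtain ⟨g, hg⟩ := conj_into (T := T.subgroupOf L) (P := P.subgroupOf L)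
    (by rw [Nat.card_congr (subgroupOfEquivOfLe h1).toEquiv, hT]) hG
    (hP.of_equiv (subgroupOfEquivOfLe h2).symm)
  exact ⟨g, g.2, fun x hx => hg ⟨x, h2 hx⟩ hx⟩

/-- a normal subgroup missing an element of order `p` for each odd prime `p` -/
theorem two_of_normal [Finite G] {L M : Subgroup G} (h1 : M ≤ L) (hn : L ≤ N[M])
    (h : ∀ p, p.Prime → p ∣ Nat.card L → p = 2 ∨ ¬ p ^ 2 ∣ Nat.card L ∧
      ∃ x ∈ L, x ^ p = 1 ∧ x ∉ M) : IsPGroup 2 M := by
  have := Fact.mk Nat.prime_two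
  have := normal_subgroupOf_of_le_normalizer hn
  refine IsPGroup.of_card (Nat.eq_prime_pow_of_unique_prime_dvd Nat.card_pos.ne' fun {p} hp h2 => ?_)
  refine (h p hp (h2.trans (card_dvd_of_le h1))).resolve_right ?_
  rintro ⟨h3, x, hx, h4, h5⟩
  exact h5 (mem_normal_of_pow_dvd (M.subgroupOf L) hp (k := 1)
    (by rwa [pow_one, Nat.card_congr (subgroupOfEquivOfLe h1).toEquiv]) h3
    (g := ⟨x, hx⟩) (Subtype.ext h4))

/-- a normal `p`-subgroup lies in a Sylow subgroup -/
theorem le_of_normal [Finite G] {p k : ℕ} [hp : Fact p.Prime] {L T M : Subgroup G} (h1 : T ≤ L)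
    (h2 : M ≤ L) (hn : L ≤ N[M]) (hT : Nat.card T = p ^ k) (hG : ¬ p ^ (k + 1) ∣ Nat.card L)
    (hM : IsPGroup p M) : M ≤ T := fun x hx => by
  obtain ⟨g, hg, e⟩ := conj_into' h1 h2 hT hG hM
  simpa [mul_assoc] using e _ ((mem_normalizer_iff''.1 (hn hg) x).1 hx)

theorem card_ext [Finite G] {X : Subgroup G} {t : G} (tt : t * t = 1) (hX : t ∈ N[X])
    (ht : t ∉ X) : Nat.card (zpowers t ⊔ X : Subgroup G) = Nat.card X * 2 := by
  have idx : (X.subgroupOf (zpowers t ⊔ X)).index = 2 := by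
    refine (index_eq_two_iff').2 ⟨⟨t, mem_sup_left (mem_zpowers t)⟩, fun x => ?_⟩
    simp only [mem_subgroupOf, coe_mul]
    by_cases c : (x : G) ∈ X
    · exact Or.inr ⟨c, fun k => ht ((mul_mem_cancel_right c).1 k)⟩
    · have := ((H23.D2.mem_sup_zp tt hX).1 x.2).resolve_left c
      refine Or.inl ⟨?_, c⟩
      have k := (mem_normalizer_iff.1 hX _).1 this
      rwa [mul_assoc, mul_inv_cancel_right] at k
  rw [← idx, ← Nat.card_congr (subgroupOfEquivOfLe (le_sup_right : X ≤ zpowers t ⊔ X)).toEquiv]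
  exact (card_mul_index _).symm

theorem norm_C (X : Subgroup G) : N[X] ≤ N[C[X]] := fun g hg => by
  have k : ∀ g ∈ N[X], ∀ c ∈ C[X], g * c * g⁻¹ ∈ C[X] := fun g hg c hc x hx => by
    have := hc _ ((mem_normalizer_iff''.1 hg x).1 hx)
    calc x * (g * c * g⁻¹) = g * (g⁻¹ * x * g * c) * g⁻¹ := by group
      _ = _ := by rw [this]; group
  exact mem_normalizer_iff.2 fun c => ⟨k g hg c, fun h => by
    simpa [mul_assoc] using k _ (inv_mem hg) _ h⟩

end pure

set_option linter.unusedTactic false in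
theorem eqns_S95G : True := by
  have := @subl.eq_1
  have := @subl.eq_2
  have := @subl.eq_def
  have := @subs.eq_1
  have := @subs.eq_2
  have := @subs.eq_def
  trivial

end Cfsg.Agent.H24.S95G
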