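import Cfsg.Agent.H46.SHe
import Cfsg.Agent.H43.HeO
import Cfsg.Agent.H24.S95G

/-!
# The automorphism group of the Held group as a permutation model
-/

set_option autoImplicit false
set_option maxRecDepth 200000
set_option linter.style.longLine false
open scoped Pointwise commutatorElement
open Subgroup

namespace Cfsg.Agent.H24.HeA
open Cfsg.Agent.H44 Cfsg.Agent.H44.Ki Cfsg.Agent.H59 Cfsg.Agent.H44.KiHe Equiv
open Cfsg.Agent.H46.S95 Cfsg.Agent.H46.S95.He Cfsg.Agent.H24.S95G
open Cfsg.Agent.H43 hiding allL allL_iff anyL anyL_iff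

local notation "C[" A "]" => Subgroup.centralizer (SetLike.coe A)
local notation "N[" A "]" => Subgroup.normalizer (SetLike.coe A)

/-! ### The group -/

/-- the isomorphism with the presented group -/
noncomputable def iso : Spor.He ≃* Γ :=
  (MonoidHom.ofInjective HeM.inj).trans (MulEquiv.subgroupCongr HeM.range_eq)

theorem ko : KO ν D.eqW D.key := ko_of ok

theorem simple : IsSimpleGroup Γ := haveI := HeM.simple; iso.symm.isSimpleGroup

theorem card_G : Nat.card Γ = 4030387200 := HeM.card_grp

theorem ne (l r : List ℕ) (h : D.neW l r = true) : ev ν l ≠ ev ν r := ok.ne h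

theorem eq (l r : List ℕ) (h : D.eqW l r = true) : ev ν l = ev ν r := ok.eq h

theorem hZ (a : Γ) (h : ∀ x, a * x = x * a) : a = 1 := by
  have := simple
  rcases (inferInstance : (center Γ).Normal).eq_bot_or_eq_top with e | e
  · exact mem_bot.1 (e ▸ mem_center_iff.2 fun x => (h x).symm)
  · refine absurd ?_ (ne [3, 6] [6, 3] (by decide +kernel))
    simp only [ev_cons, ev_nil, mul_one]
    exact mem_center_iff.1 (e ▸ mem_top (ν 6)) (ν 3)

theorem cinj : Function.Injective (MulAut.conj : Γ →* MulAut Γ) := conj_inj hZ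

theorem card_out : Nat.card (Cfsg.Out Γ) = 2 := (card_out_congr iso).symm.trans HeO.card_out

theorem card_A : Nat.card (MulAut Γ) = 8060774400 := by rw [card_aut hZ card_out, card_G]

theorem z_sq : ν 1 * ν 1 = 1 := by simpa [ev_cons, ev_nil] using eq [1, 1] [] (by decide +kernel)

theorem z_ne : ν 1 ≠ 1 := by simpa [ev_cons, ev_nil] using ne [1] [] (by decide +kernel)

/-! ### The centraliser `L` of `z` -/

theorem w_L (w : List ℕ) (h : D.eqW (w ++ [1]) (1 :: w) = true) : ev ν w ∈ Cz (ν 1) :=
  mem_cent ok h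

theorem ν_L {i : ℕ} (h1 : 1 ≤ i) (h2 : i ≤ 17) : ν i ∈ Cz (ν 1) :=
  ev_single ν i ▸ w_L [i] (allL_iff.1 (by decide +kernel :
    allL (fun i => D.eqW ([i] ++ [1]) (1 :: [i])) (List.range' 1 17) = true) i
      (List.mem_range'_1.2 ⟨h1, by omega⟩))

theorem ev_L {w : List ℕ} (h : lettersIn 17 w = true) : ev ν w ∈ Cz (ν 1) :=
  gen_le.2 (fun _ => ν_L) (ev_gen ν h)

theorem gen_L {j : ℕ} (h : j ≤ 17) : gen ν j ≤ Cz (ν 1) :=
  gen_le.2 fun _ h1 h2 => ν_L h1 (h2.trans h)

theorem L_eq : Cz (ν 1) = wgen ν (sing [11, 12, 13, 16, 17]) := by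
  refine le_antisymm (cz_c.trans (wgen_le.2 fun s hs => ?_)) (wgen_le.2 fun s hs => ev_L ?_)
  · obtain ⟨w, -, e⟩ := anyL_iff.1 (allL_iff.1 (by decide +kernel : allL (fun s => anyL
      (fun w => bA (w.all [11, 12, 13, 16, 17].contains) (D.eqW s w))
      [[11], [12], [13], [16], [17], [12, 16, 12, 17, 13], [12, 16, 12, 16, 13, 17]])
      (sing [11, 12, 13, 14, 15, 16, 17]) = true) s hs)
    rw [eq _ _ (bA_iff.1 e).2]
    exact ev_sing ν (bA_iff.1 e).1
  · revert s; decide

theorem L_perf : ⁅Cz (ν 1), Cz (ν 1)⁆ = Cz (ν 1) := by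
  rw [L_eq]
  exact perf_of ko (W := [([17, 11, 17, 12, 17, 11, 11], [11, 13]),
    ([11, 12, 16, 12, 17, 12], [11, 17]), ([11, 17, 13], [11, 17]), ([12, 12, 11, 16], [11, 11]),
    ([16, 12, 11, 17, 12, 12], [12, 11])]) (by decide +kernel)

theorem card_L : Nat.card (Cz (ν 1)) = 21504 := cz_n

theorem card_gen {j : ℕ} (h : j ≤ 10) : Nat.card (gen ν j) = 2 ^ j := pc.card j h

theorem two_gen {j : ℕ} (h : j ≤ 10) : IsPGroup 2 (gen ν j) := IsPGroup.of_card (card_gen h)

theorem nQ : Cz (ν 1) ≤ N[gen ν 7] := by
  rw [gen_eq]; exact cz_c.trans (le_norm (orc ok) nq)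

/-- generators of the first normal subgroup of order 16 -/
def g1 : List (List ℕ) := [[1], [2], [3], [4]]
/-- generators of the second normal subgroup of order 16 -/
def g2 : List (List ℕ) := [[1], [6], [7], [5, 3]]

theorem nV1 : Cz (ν 1) ≤ N[wgen ν g1] := by
  rw [L_eq]; exact norm_of ko subs_mem (by decide +kernel)

theorem nV2 : Cz (ν 1) ≤ N[wgen ν g2] := by
  rw [L_eq]; exact norm_of ko subs_mem (by decide +kernel)

theorem V1_cov : ∀ ξ ∈ wgen ν g1, ∃ u ∈ subs g1, ξ = ev ν u := el_cov ko (by decide +kernel)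
theorem V2_cov : ∀ ξ ∈ wgen ν g2, ∃ u ∈ subs g2, ξ = ev ν u := el_cov ko (by decide +kernel)
theorem V1_com : wgen ν g1 ≤ C[wgen ν g1] := com_wgen ko (by decide +kernel)
theorem V2_com : wgen ν g2 ≤ C[wgen ν g2] := com_wgen ko (by decide +kernel)

theorem T_cov : ∀ ξ ∈ gen ν 10, ∃ w ∈ subl 10, ξ = ev ν w := nf pc le_rfl

theorem Q_cov : ∀ ξ ∈ gen ν 7, ∃ w ∈ subl 7, ξ = ev ν w := nf pc (by decide)

/-- a normal subgroup of `L` without the elements of order 3 and 7 lies in `T` -/
theorem le_T {M : Subgroup Γ} (h1 : M ≤ Cz (ν 1)) (hn : Cz (ν 1) ≤ N[M])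
    (h3 : ev ν [13, 11, 15] ∉ M) (h7 : ev ν [11, 16] ∉ M) : IsPGroup 2 M ∧ M ≤ gen ν 10 := by
  have := Fact.mk Nat.prime_two
  have h2 : IsPGroup 2 M := two_of_normal h1 hn fun p hp h => by
    rw [card_L] at h ⊢
    have : p ∈ (21504 : ℕ).primeFactorsList := (Nat.mem_primeFactorsList (by decide)).2 ⟨hp, h⟩
    simp only [Nat.primeFactorsList_ofNat, List.mem_cons, List.not_mem_nil, or_false,
      or_self_left] at this
    rcases this with rfl | rfl | rfl
    · exact .inl rfl
    · refine .inr ⟨by norm_num, _, ev_L (by decide), ?_, h3⟩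
      rw [pow_three, ← ev_append, ← ev_append]; exact eq _ [] (by decide +kernel)
    · refine .inr ⟨by norm_num, _, ev_L (by decide), ?_, h7⟩
      simp only [pow_succ, pow_zero, one_mul, ← ev_append]; exact eq _ [] (by decide +kernel)
  exact ⟨h2, le_of_normal (gen_L (by decide)) h1 hn (card_gen le_rfl)
    (by rw [card_L]; norm_num) h2⟩

theorem cQ : C[gen ν 7] ≤ zpowers (ν 1) := by
  have h0 : ∀ {c : Γ} {i : ℕ}, c ∈ C[gen ν 7] → 1 ≤ i → i ≤ 7 → ν i * c = c * ν i :=
    fun hc h1 h2 => hc _ (mem_gen ν h1 h2)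
  have h1 : C[gen ν 7] ≤ Cz (ν 1) := fun c hc => mem_Cz.2 (h0 hc le_rfl (by decide)).symm
  have k : ∀ w, D.neW (2 :: w) (w ++ [2]) = true → ev ν w ∉ C[gen ν 7] := fun w e hc =>
    ne _ _ e (by rw [ev_cons, ev_append, ev_single, h0 hc (by decide) (by decide)])
  have h2 := (le_T h1 (nQ.trans (norm_C _)) (k _ (by decide +kernel))
    (k _ (by decide +kernel))).2
  intro c hc
  obtain ⟨e, he, k⟩ := ok.allE T_cov (hyps := (List.range' 2 6).map fun i => ([i, 0], [0, i]))
    (concl := [[([0], [])], [([0], [1])]]) (by decide +kernel) c (h2 hc) fun p hp => by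
      obtain ⟨i, hi, rfl⟩ := List.mem_map.1 hp
      have := List.mem_range'_1.1 hi
      simp only [ev_cons, ev_nil, mul_one, ux, if_true, if_neg (show i ≠ 0 by omega)]
      exact h0 hc (by omega) (by omega)
  simp only [List.mem_cons, List.not_mem_nil, or_false] at he
  rcases he with rfl | rfl <;> have := k _ List.mem_cons_self <;>
    simp [ev_cons, ev_nil, ux] at this <;> rw [this]
  exacts [one_mem _, mem_zpowers _]

theorem z_cent : zpowers (ν 1) ≤ C[Cz (ν 1)] := zpowers_le.2 fun _ hl => mem_Cz.1 hl

/-- lemma (A) -/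
theorem trivL {α : MulAut Γ} (h : ∀ q ∈ gen ν 7, α q = q) : ∀ l ∈ Cz (ν 1), α l = l :=
  triv_amb α (fun l hl => mem_Cz.2 (by
      rw [← h _ (mem_gen ν le_rfl (by decide)), ← map_mul, ← map_mul, mem_Cz.1 hl]))
    (gen_L (by decide)) nQ h (inf_le_right.trans (cQ.trans z_cent)) L_perf

/-- lemma (A) for automorphisms of `L` -/
theorem trivL' (θ : MulAut (Cz (ν 1))) (h : ∀ q : Cz (ν 1), (q : Γ) ∈ gen ν 7 → θ q = q) :
    θ = 1 := by
  have := normal_subgroupOf_of_le_normalizer nQ
  exact MulEquiv.ext fun l => (triv_of θ.toMonoidHom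
    ((gen ν 7).subgroupOf _) h (fun c hc => mem_center_iff.2 fun g => Subtype.ext
      (z_cent (cQ fun q hq => congrArg Subtype.val (hc ⟨q, gen_L (by decide) hq⟩ hq)) g g.2))
    (comm_top L_perf) l)

/-! ### The outer automorphism -/

noncomputable def om : Net := (Net.cons (nat_lit 1) (nat_lit 0x5045550544150404454501141145010111450550044115004405411455041444405440100554114414514455051404501504400101010004155050044511150545501150405155010051010005455510114555141545411401515100000405544415044044401445154440450504105555550004540544054141511140445054101440541454405044145054544410511455104115404500040150105540405040005050010051051445451555540455441004155454544414544514554514010000010400450115405111414004014455044554404511515411050540050141441400450401410441444545140545440410105401005444540500504545111110) (Net.cons (nat_lit 2) (nat_lit 0x3001101212021102301021320300000311022112112101231230231310022322130203313100021313312232101121100131232220131111003300011311121031333103033300200330123103300002000323101003002122323332302000330023110232333223211130300310210230022301012131201202123323303220311102022102123231111203322313110110100333131233200310021120122010103213101201231130213331303033300133210121003101112312210000231221122223303111311301212231020220132032321000300010111330111233331230230201121232333200302221112021112233110320212001010213202221)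 (Net.cons (nat_lit 4) (nat_lit 0x80a0d050b070b0d03030002040c0803090d070e04090c070e020c000c0b03020806000007000707060c0901020a06080f020401080b0608080804020a080901040c0e0f03060b00050f0a0b080c0a0e0b0c0102030501010e0d0b000f07070b0d0e030704040b04030e0b09000407070e030e020a0a01070b0d0a00030001030d040603000c0e0a060004010409050f090801040307090b010d07040c070407020302010c0b0600040f040908080606040d070b0304020c0a050a0c0c010e0d0b0d0d0f08070f0f0d040204000509080006090f080c0b0d040c0c04070a07020c05020c0b0106030d0205020906090e0d0003010f07030906020b0e0b0b000201) (Net.cons (nat_lit 8) (nat_lit 0x300b800270090005b00a60074008c00f900ae00ed00ca00d8002e00fb00f5005800b300ab00ea00b0005b00b00010001d00b600c3002d00b2008f008d00de0064008e00e00054009f003000f9007500a200df006f00ac00fc00b50088005d00a200db00ae0075001d00ca00f100c600bc005500ce00390079001a00d9009800f900a0002f00e0005100bb00d2006400bd00f200fc00840064009f00c1004d00a300d800c100e50095006800ab003300c100dd0054006700a3008300ad00ab009100710093002a000b00a500ae004700e70016005d00d80027008200580016006e00e7000b0041002d00df00050038002c007300660015006700980095002d00cc)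 (Net.cons (nat_lit 16) (nat_lit 0x2c6c000074fd0000eeaf0000053d000040de0000ebcd0000b25d00006f8e000000a5000025f40000b28e0000e12300002e5f0000986d00002aeb00000b680000dd230000809400002b7300000dbf00007587000020350000164b000059410000c8cf0000bd200000080f0000855f00002c9a00009dcc00003d9900006a950000164f00007b520000b2d40000061f000041e0000063240000362b0000239f000055d9000068fe000089cc0000df7f0000e6d000001eb6000000620000c2c80000cbe20000d015000077b900005a0b0000cb70000048f50000df9c0000fc670000e00b00002d400000932a0000baa5000048470000226600001f4200000020) (Net.cons (nat_lit 32) (nat_lit 0x374a414500000000b4739214000000000ad357ee00000000012d5112000000008c49ea26000000002e99aaef000000001218276500000000432d23e30000000082de2424000000006c75c19e00000000d10239b800000000c4287f9600000000beb1d4d500000000b3460e8a0000000084984c6e00000000ad0a3fe200000000e811b547000000004bf5b50400000000fa86b08100000000eb04d50e0000000004e185e9000000005573102100000000570a57c700000000384eab39000000002960d10400000000cb8c915100000000a641260100000000bf7cc3ef0000000080b417a7000000008b19d44e0000000074540a1d0000000000000212)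 (Net.cons (nat_lit 64) (nat_lit 0xbc1e7bb3ebc59876000000000000000087cd324c994b812300000000000000008a513b4f8075448b0000000000000000abbeb99fa58ba7c100000000000000006ffbe5d201f4a96f00000000000000001b4f3217186ff08000000000000000003171a2d18c1543690000000000000000e429cf9212430164000000000000000081916f2aaa04524e0000000000000000885aad5b8481322b0000000000000000bfaf055830422bc200000000000000004e1825381ec5a6540000000000000000461103c9b148934900000000000000009fa514d41aae1c0900000000000000004232732317b4983800000000000000000000000000000083) (Net.cons (nat_lit 128) (nat_lit 0x3888c74d8d58be49cf2de94b5f98b82100000000000000000000000000000000b4c9274af0ee662a4aaf0fc031f0dfc400000000000000000000000000000000325ce4872e874a0548870c0fc4ad5afc00000000000000000000000000000000020125bae49900f03eabb4c312f0a23700000000000000000000000000000000d01b049f16eef44e67031b42a0c612080000000000000000000000000000000006471e14d65873a7c5725080d16109d20000000000000000000000000000000090a1a62a431ad098036c01088246c68c0000000000000000000000000000000000000000000000000000000000000167)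 (Net.cons (nat_lit 256) (nat_lit 0x225973b0ec10f3221f354067fd2332301a406634a0d32b291226628b21f7ec60000000000000000000000000000000000000000000000000000000000000000055a6d85095bc78c3c708d584c89b826c474443784903860884c69e25e1b5243400000000000000000000000000000000000000000000000000000000000000003c94063622241604058515bb220e512c68231e3005001103ab11d2222d9351a200000000000000000000000000000000000000000000000000000000000000000000000000000000000000000000000000000000000000000000000000000344) (Net.cons (nat_lit 512) (nat_lit 0x60020298400b5e0e60a0063402a32e8aa0442441d0e142b00862020402411a0620053483a2da0681e240ce03c1408e108b303841e5969dc00b1a8029499801f8000000000000000000000000000000000000000000000000000000000000000000000000000000000000000000000000000000000000000000000000000000000000000000000000000000000000000000000000000000000000000000000000000000000000000000000000000000000000000000000000000000000000020c) (Net.cons (nat_lit 1024) (nat_lit 0x2d1f9dc3b362695f37cbfc0fc8eb3304b52791947e1cb1e408742ed700d244eb936d71ad00cdce2ad2401bd48c2329e09d1ceebe95ba8ea870b14784744c09f8c4ddc358cf2db63151218bb0be18ccdf1a427d73adef43160016512b87073fedf1580d26bb33e9f53dacd4ef4146a7f34221124d6244115dcf0ba32f3ff5e041)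 (Net.cons (nat_lit 2048) (nat_lit 1023) (Net.cons (nat_lit 1024) (nat_lit 65) (Net.cons (nat_lit 512) (nat_lit 0x92fe5cb047e1f03067a02e3dd40cb11eb46545d0aaf0abf1e534c3e016669ac8ec8bcb5b98c3f90388f734c1ed4a2cbfb34b9c05f704ca30c1ca9c9f83496778000000000000000000000000000000000000000000000000000000000000000000000000000000000000000000000000000000000000000000000000000000008278acf4733cddbcb6a0f81f699efb045451f6cfd97ee865d7b814c822df38be2b92c3223ac26ae4a76e5dbf5293a0cb2af06cb95d5a50b268fbec789d920c2c) (Net.cons (nat_lit 256) (nat_lit 0x55436b9d184c57576b23c50bdaf665fef785a567c0164b4ef65372226d0801560000000000000000000000000000000000000000000000000000000000000000e44fcbd76fcf3501236c1672d98a9a8cec758171e5b5db42735d1b2e912756800000000000000000000000000000000000000000000000000000000000000000a9e18bc2bb39aa7c924b8252ab5471c088062ff121a216e67d90162fc9762992000000000000000000000000000000000000000000000000000000000000000056abea452491754725f51e3dbef3ff412f67101897022e28a402bf5cfadec968) (Net.cons (nat_lit 128) (nat_lit 0x3a2dea8192111d337a46201ace1a298700000000000000000000000000000000b761fc36fdfb09133a78ea2366a76aa7000000000000000000000000000000009e80604fbe407a2517dda7dee172a1b200000000000000000000000000000000d24d009729d6710e9ae528256725c6910000000000000000000000000000000075bd2443021f26bed9793765f781b452000000000000000000000000000000007e6e233e8cd50a832791c5d25a417ed2000000000000000000000000000000008da36a5744051fa5e3a72232d8d9404400000000000000000000000000000000bb76d4f5033f356ea92523f778a21342)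 (Net.cons (nat_lit 64) (nat_lit 0xf9096699aaef7b5a000000000000000081a873d7d67792310000000000000000afc3042febb587650000000000000000b29149fd2a608c2700000000000000006084acb4a7bf7bbe0000000000000000a09376cd6c8d62920000000000000000b734ba1dc5a3af35000000000000000058cfdbb99767df0200000000000000008c1f9a0a2c4037530000000000000000d3298c52f91b620d0000000000000000a436598585853ece000000000000000023d35bafa66591750000000000000000151ff6b2382ea40100000000000000004e20a1c4bfa3ac0600000000000000007bf95578811992f400000000000000001845af3c717427ad) (Net.cons (nat_lit 32) (nat_lit 0x4c4d4b5b0000000028344b590000000032700c0200000000405d8e2100000000422665ae000000001c6f7d40000000002d89715600000000ff5c166000000000267c7e7900000000ac85809c00000000479ac5ac000000004830b5ac00000000ce13ada700000000a161f90700000000dfc3427400000000665f403e00000000c7e2e72800000000cf3a43c100000000ccd2d94f0000000045bf13a000000000f55867fe000000005081699b000000003edfdd3f00000000b06f7cff00000000d0cfa3cd00000000bd6e865c0000000021e2c66a000000000c8f3bda00000000efbbdfc30000000059ac1d72000000004ebdb802000000006b57381a)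 (Net.cons (nat_lit 16) (nat_lit 0x1682000027ab000025ed0000bf3b0000ea3a00008c2700009a260000149700001a6d0000f4800000d45300009713000032840000c7a20000904f0000c1a40000f19b000094e9000088fd0000fdd30000524e0000876200009bd10000ffcd0000a3190000eb6400003b740000aa23000041f2000041b00000b87b00008f55000070630000ce1b0000be980000cd1600001f730000f95e0000ea1a000005b800006f2700009f9e0000da3900006e1100005a2a0000ca0c00000d52000018790000bd270000d71600003be100008e440000f47a000093c0000061ea000000b60000e5470000228f0000c893000021360000b33700009a1f0000c8020000eb6e) (Net.cons (nat_lit 8) (nat_lit 0x3004b00ba009900c20082001600c700b2008700e7008400c000fb00fc007000d300750066004d001d00c100b3007500bf002900cb00a4005d008b0036001600d800ae000700bd001200d400dc003a000100e8006000c500190029001c005a008b0031002300eb00ec001b00fa00e3001f009000c1004100b9007a0034003200f3002000a9006f009100c800d1005300fb005900a000e600d6009b008900f6009a005a00c1009400b000ad00100004004100e600d400cb008c008500e9009e008b00780009000500e000240095005c00e3004f009300570076000e00e1003d006b00c4009700ca00dc00fa003400d2000d00da00a00051000c0091001b002c0076)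 (Net.cons (nat_lit 4) (nat_lit 0xa0003010b060b0d0d01030a0a0e0003000f0b08050a05050c0a05000e03010808060d0007000705090e0301040a0e080f00000e000b0208080e060f08010d0a0001060f05040f020d0d0b0909040a0e030903000b0d0305060e0f0207050d0b0f080b0507060b0e0008030f0006010f0f0b0e03080201010105030c09020a0f0d0504010c0c0603020004030c03050d0a08030e020f0808090d0d0f0601040e00090b020c0d070b000c0e030a030602060f010b0b0002040a0f030c0c010d07090505060a0b090d0c06020406070b090007090d0b0c0b0304000204050a0502060f020d09010e000d0a070809000b040d0c0b0207070b010008090604030c0801) (Net.cons (nat_lit 2) (nat_lit 0x3003321210021102101021320300000313222112113103231232231110002122330203133100021313312032101131100131232200131111003100011311101031331103033300200332321123300000000103301221022122323333322211330023110232333223211130100130210232022301032111203202123301303220331122022122303231131203322313112110100333321233000310121122120030303213101201031110213331303031302133210321001103110312232000231221323023303331111301212231022220132002323000300020311330111231331030230201121332333001302321112023112233132320212001210213202221)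 (Net.cons (nat_lit 1) (nat_lit 0x5045550544550404454501141145010111450550044115004405411455041444405440100554114414514455051404501504400101010004155050044511150545501150405155010051010005455510114555141545411401515100000405544415044044401445154440450504105555550004540544054141511140445054101440541454405044145054544410511455104115404500040150105540405040005050010051051445451555540455441004155454544414544514554514010000010400450115405111414004014455044554404511515411050540050141441400450401410441444545140545440410105401005444540500504545111110) Net.nil)))))))))))))))))))))))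

theorem om_ok : Net.ok 2058 om = true := by decide +kernel

/-- the networks -/
noncomputable def EA : List Net := EG ++ [om]
/-- the letter codes: `75` is the outer automorphism -/
def cA : List ℕ := code ++ [2 * 46]

theorem EA_ok : okE 2058 EA = true := okE_append EG_ok (okE_cons.2 ⟨om_ok, okE_nil _⟩)

theorem gpA (x : ℕ) :
    gp 2058 EA cA x = if x = 75 then om.toPerm 2058 else (ν x : Perm (Fin 2058)) :=
  gp_snoc om rfl rfl (by decide) (by decide) x

theorem gp75 : gp 2058 EA cA 75 = om.toPerm 2058 := by rw [gpA, if_pos rfl]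

theorem ev_in {l : List ℕ} (h : lettersIn 74 l = true) :
    ev (gp 2058 EA cA) l = ((ev ν l : Γ) : Perm (Fin 2058)) := by
  rw [← subtype_apply, map_ev]
  exact ev_congr fun x hx => by
    have := lettersIn_iff.1 h x hx
    rw [gpA, if_neg (by omega)]; rfl

/-- the model with the full labelling -/
noncomputable abbrev DF : MD := ⟨2058, 12, lab 2058 12, PB, EA, cA⟩

theorem okF : DF.Ok (MonoidHom.id _) (gp 2058 EA cA) :=
  ⟨HeZ.hn, EA_ok, det_lab (by decide) _, fun _ _ h => h, fun _ => rfl⟩

theorem π_sq : om.toPerm 2058 * om.toPerm 2058 = 1 := by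
  simpa [ev_cons, ev_nil, gp75] using okF.eq (l := [75, 75]) (r := []) (by decide +kernel)

theorem G_eq : grp 2058 HeM.E = wgen (gp 2058 EA cA) (sing [29, 31, 33, 35, 37, 39, 41]) :=
  le_antisymm (grp_le_wgen' [29, 31, 33, 35, 37, 39, 41] rfl (by decide +kernel))
    (wgen_le.2 fun s hs => by
      rw [ev_in (by revert s; decide)]; exact (ev ν s).2)

theorem π_norm : om.toPerm 2058 ∈ N[grp 2058 HeM.E] := by
  have h := le_norm (ν := gp 2058 EA cA) (fun _ _ => okF.eq) (S := [29, 31, 33, 35, 37, 39, 41])
    (K := [[2, 53, 65] ++ 75 :: [65, 54, 2]]) (W := [[[29], [31], [33], [35], [37], [41], [39]]])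
    (by decide +kernel) (mem_wgen _ _ List.mem_cons_self)
  change _ ∈ N[wgen _ (sing _)] at h
  rw [← G_eq, ev_append, ev_cons _ 75, gp75, ev_in (by decide), ev_in (by decide)] at h
  exact (mul_mem_cancel_right (le_normalizer (ev ν _).2)).1
    ((mul_mem_cancel_left (le_normalizer (ev ν _).2)).1 h)

theorem base : IsBase 2058 (zpowers (om.toPerm 2058) ⊔ grp 2058 HeM.E) HeM.lb_ch.pts := by
  intro g hg hB
  rcases (H23.D2.mem_sup_zp π_sq π_norm).1 hg with h | h
  · exact HeM.exact.isBase g h hB
  have e1 := pt_of EA_ok (code := cA) (w := [49, 23, 25, 2] ++ [75]) (a := 0) (b := 0)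
    (by decide) (by decide) (by decide +kernel)
  have e2 := pt_of EA_ok (code := cA) (w := [49, 23, 25, 2] ++ [75]) (a := 22) (b := 164)
    (by decide) (by decide) (by decide +kernel)
  rw [ev_append, ev_single, gp75, ev_in (by decide)] at e1 e2
  generalize ev ν [49, 23, 25, 2] = c at e1 e2
  obtain ⟨y, hy⟩ : c * (g * om.toPerm 2058)⁻¹ ∈ HeM.φ.range := by
    rw [HeM.range_eq]; exact mul_mem c.2 (inv_mem h)
  rw [mul_inv_rev, inv_eq_of_mul_eq_one_right π_sq, ← mul_assoc] at hy
  have k : ∀ i : Fin 2058, (i : ℕ) ∈ HeM.lb_ch.pts → g⁻¹ i = i := fun i hi =>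
    Perm.inv_eq_iff_eq.2 (hB i hi).symm
  have h1 := (HeM.act.stab y).2 (by rw [hy, Perm.mul_apply, k _ (by decide +kernel), e1])
  refine absurd (mem_orbit_subgroup_iff.2 ⟨HeM.φ y, ?_, ?_⟩) HeM.orb_ne
  · rw [← HeM.model.map_wgen (by decide)]; exact mem_map_of_mem _ h1
  · rw [Perm.smul_def, hy, Perm.mul_apply, k _ (by decide +kernel), e2]

/-- the model data for the automorphism group -/
noncomputable abbrev DA : MD := ⟨2058, 3, LB, PB, EA, cA⟩

theorem detA : Det 2058 3 LB (grp 2058 EA) :=
  (det_of_base base (by decide +kernel)).mono (grp_le_iff.2 fun o ho =>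
    (List.mem_append.1 ho).elim (fun h => mem_sup_right (EG_le (toPerm_mem_grp h)))
      fun h => List.mem_singleton.1 h ▸ mem_sup_left (mem_zpowers _))

theorem okP : DA.Ok (MonoidHom.id _) (gp 2058 EA cA) :=
  ⟨HeZ.hn, EA_ok, detA, fun _ _ h => h, fun _ => rfl⟩

/-- the outer involution normalising `T` -/
noncomputable def ω : MulAut Γ := normalizerMonoidHom _ ⟨om.toPerm 2058, π_norm⟩

theorem ω_val (x : Γ) :
    (ω x : Perm (Fin 2058)) = om.toPerm 2058 * x * (om.toPerm 2058)⁻¹ := rfl

theorem ω_sq : ω * ω = 1 := by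
  rw [ω, ← map_mul, ← map_one (normalizerMonoidHom (grp 2058 HeM.E))]
  exact congrArg _ (Subtype.ext π_sq)

theorem ω_eq (l r : List ℕ) (h : (lettersIn 74 l && lettersIn 74 r &&
    DA.eqW (75 :: l) (r ++ [75])) = true) : ω (ev ν l) = ev ν r := by
  simp only [Bool.and_eq_true] at h
  have e := okP.eq h.2
  rw [ev_cons, ev_append, ev_single, gp75, ev_in h.1.1, ev_in h.1.2] at e
  exact Subtype.ext (by rw [ω_val, e, mul_inv_cancel_right])

/-- the values of `ω` on the letters `1, …, 17` -/
def Wω : List (List ℕ) := [[], [1], [5, 3], [6, 1], [7, 5, 3], [6, 2, 1], [3, 1], [4, 2], [8],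
  [10, 8, 5, 4, 1], [9, 8, 7, 6, 2, 1], [2, 11, 7, 8], [14, 8], [3, 4, 7], [12, 8], [2, 8, 12],
  [2, 5], [1, 3, 5, 9]]

theorem ω_ν {i : ℕ} (h1 : 1 ≤ i) (h2 : i ≤ 17) : ω (ν i) = ev ν (nth [] Wω i) :=
  ev_single ν i ▸ ω_eq [i] _ (allL_iff.1 (by decide +kernel : allL (fun i => lettersIn 74 [i] &&
    lettersIn 74 (nth [] Wω i) && DA.eqW (75 :: [i]) (nth [] Wω i ++ [75]))
      (List.range' 1 17) = true) i (List.mem_range'_1.2 ⟨h1, by omega⟩))

theorem ω_z : ω (ν 1) = ν 1 := (ω_ν le_rfl (by decide)).trans (ev_single ν 1)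

theorem ω_ω (x : Γ) : ω (ω x) = x := by rw [← MulAut.mul_apply, ω_sq]; rfl

theorem ω_gen {j : ℕ} (hj : j = 7 ∨ j = 10) : ∀ t ∈ gen ν j, ω t ∈ gen ν j := fun _ ht =>
  (gen_le (K := (gen ν j).comap ω.toMonoidHom)).2 (fun i h1 h2 => by
    change ω (ν i) ∈ gen ν j
    rw [ω_ν h1 (by omega)]
    refine ev_gen ν ?_
    rcases hj with rfl | rfl <;> interval_cases i <;> decide +kernel) ht

theorem ω_L {l : Γ} (h : l ∈ Cz (ν 1)) : ω l ∈ Cz (ν 1) :=
  mem_Cz.2 (by rw [← ω_z, ← map_mul, ← map_mul, mem_Cz.1 h])

/-- no element of `L` conjugates `ω (ν 2)` to an element of `V₁` -/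
theorem ω_nV {g : Γ} (hg : g ∈ Cz (ν 1)) : g * ω (ν 2) * g⁻¹ ∉ wgen ν g1 := fun h => by
  have h1 := (mem_normalizer_iff.1 (nV1 hg) _).2 h
  rw [ω_ν (by decide) (by decide)] at h1
  refine ne (4 :: nth [] Wω 2) (nth [] Wω 2 ++ [4]) (by decide +kernel) ?_
  rw [ev_cons, ev_append, ev_single]
  exact V1_com h1 _ (ev_single ν 4 ▸ mem_wgen ν [4] (by decide))

theorem two_V1 : ν 2 ∈ wgen ν g1 := ev_single ν 2 ▸ mem_wgen ν [2] (by decide)

theorem ω_out : ¬ H46.S95.Inn ω := fun ⟨g, e⟩ => by
  have h1 : g ∈ Cz (ν 1) := mem_Cz.2 (mul_inv_eq_iff_eq_mul.1 (by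
    rw [← MulAut.conj_apply, ← e, ω_z]))
  refine ω_nV (inv_mem h1) ?_
  rw [e]
  simpa [mul_assoc] using two_V1

theorem aut_cases (α : MulAut Γ) : ∃ g, α = MulAut.conj g ∨ α = MulAut.conj g * ω :=
  cases_of_out card_out ω_out α

theorem out_case {α : MulAut Γ} (h : ¬ H46.S95.Inn α) : ∃ g, α = MulAut.conj g * ω :=
  let ⟨g, e⟩ := aut_cases α; ⟨g, e.resolve_left fun e => h ⟨g, e⟩⟩

/-- automorphisms fixing `z` -/
theorem fix_z {α : MulAut Γ} (h : α (ν 1) = ν 1) :
    ∃ g ∈ Cz (ν 1), α = MulAut.conj g ∨ α = MulAut.conj g * ω := by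
  obtain ⟨g, rfl | rfl⟩ := aut_cases α
  · exact ⟨g, mem_Cz.2 (mul_inv_eq_iff_eq_mul.1 h), .inl rfl⟩
  · exact ⟨g, mem_Cz.2 (mul_inv_eq_iff_eq_mul.1 (by simpa [ω_z] using h)), .inr rfl⟩

/-- an automorphism fixing `z` and mapping `ν 2` into `V₁` is induced by `L` -/
theorem inn_of {α : MulAut Γ} (h : α (ν 1) = ν 1) (h2 : α (ν 2) ∈ wgen ν g1) :
    ∃ g ∈ Cz (ν 1), α = MulAut.conj g := by
  obtain ⟨g, hg, rfl | rfl⟩ := fix_z h
  · exact ⟨g, hg, rfl⟩
  · exact absurd h2 (ω_nV hg)

theorem fix_Q {α : MulAut Γ} (h : α (ν 1) = ν 1) : ∀ q ∈ gen ν 7, α q ∈ gen ν 7 := by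
  intro q hq
  obtain ⟨g, hg, rfl | rfl⟩ := fix_z h
  · exact (mem_normalizer_iff.1 (nQ hg) _).1 hq
  · exact (mem_normalizer_iff.1 (nQ hg) _).1 (ω_gen (.inl rfl) q hq)

theorem out2 : He.Out2 := out2_of ω_sq aut_cases

/-- an automorphism fixing `Q` pointwise -/
theorem of_Q {α : MulAut Γ} (h : ∀ q ∈ gen ν 7, α q = q) :
    ∃ c ∈ zpowers (ν 1), α = MulAut.conj c := by
  obtain ⟨g, -, rfl⟩ := inn_of (h _ (mem_gen ν le_rfl (by decide)))
    (by rw [h _ (mem_gen ν (by decide) (by decide))]; exact two_V1)
  exact ⟨g, cQ fun q hq => (mul_inv_eq_iff_eq_mul.1 (h q hq)).symm, rfl⟩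

theorem cl : He.CL := fun _ h => of_Q fun q hq => h q (gen_L (by decide) hq)

/-! ### The model of the automorphism group -/

theorem exists_ι : ∃ ι : MulAut Γ →* Perm (Fin 2058), Function.Injective ι ∧
    (∀ g, ι (MulAut.conj g) = g) ∧ ι ω = om.toPerm 2058 :=
  exists_iota π_sq π_norm hZ ω_val ω_out aut_cases

/-- the automorphisms as permutations -/
noncomputable def ι : MulAut Γ →* Perm (Fin 2058) := exists_ι.choose

/-- the letters of the automorphism group -/
noncomputable def μ (x : ℕ) : MulAut Γ := if x = 75 then ω else MulAut.conj (ν x)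

theorem okA : DA.Ok ι μ :=
  ⟨HeZ.hn, EA_ok, detA, exists_ι.choose_spec.1, fun x => by
    change ι (μ x) = gp 2058 EA cA x
    rw [gpA, μ]
    split_ifs
    exacts [exists_ι.choose_spec.2.2, exists_ι.choose_spec.2.1 _]⟩

theorem koA : KO μ DA.eqW DA.key := ko_of okA

theorem μ75 : μ 75 = ω := if_pos rfl

theorem ev_μ {l : List ℕ} (h : lettersIn 74 l = true) : ev μ l = MulAut.conj (ev ν l) := by
  rw [map_ev]
  exact ev_congr fun x hx => by
    have := lettersIn_iff.1 h x hx
    rw [μ, if_neg (by omega)]

theorem ev_μ' {j : ℕ} (hj : j ≤ 74) {l : List ℕ} (h : l ∈ subl j) :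
    ev μ l = MulAut.conj (ev ν l) :=
  ev_μ (lettersIn_iff.2 fun x hx => let k := subl_letters l h x hx; ⟨k.1, k.2.trans hj⟩)

/-- the value of an automorphism given by a word -/
theorem app (w l r : List ℕ) (h : (lettersIn 74 l && lettersIn 74 r &&
    DA.eqW (w ++ l) (r ++ w)) = true) : ev μ w (ev ν l) = ev ν r := by
  simp only [Bool.and_eq_true] at h
  have e := okA.eq h.2
  rw [ev_append, ev_append, ev_μ h.1.1, ev_μ h.1.2] at e
  exact cinj (by rw [← conj_cj, e, mul_inv_cancel_right])

/-- the Sylow `2`-subgroup of the automorphism group -/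
noncomputable def Ts : Subgroup (MulAut Γ) := zpowers ω ⊔ (gen ν 10).map MulAut.conj

theorem ω_nT : ω ∈ N[(gen ν 10).map (MulAut.conj : Γ →* MulAut Γ)] :=
  mem_normalizer_fintype (by
    rintro _ ⟨t, ht, rfl⟩
    exact ⟨ω t, ω_gen (.inr rfl) t ht, (conj_cj ω t).symm⟩)

theorem mem_Ts {β : MulAut Γ} :
    β ∈ Ts ↔ ∃ t ∈ gen ν 10, β = MulAut.conj t ∨ β = MulAut.conj t * ω := by
  rw [Ts, H23.D2.mem_sup_zp ω_sq ω_nT]
  constructor
  · rintro (⟨t, ht, e⟩ | ⟨t, ht, e⟩)
    · exact ⟨t, ht, .inl e.symm⟩
    · exact ⟨t, ht, .inr (by rw [e, mul_assoc, ω_sq, mul_one])⟩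
  · rintro ⟨t, ht, rfl | rfl⟩
    · exact .inl ⟨t, ht, rfl⟩
    · exact .inr ⟨t, ht, by rw [mul_assoc, ω_sq, mul_one]⟩

theorem card_Ts : Nat.card Ts = 2 ^ 11 := by
  rw [Ts, card_ext ω_sq ω_nT fun ⟨t, _, e⟩ => ω_out ⟨t, e.symm⟩, card_map_of_injective cinj,
    card_gen le_rfl]
  rfl

/-- lemma (B) -/
theorem two_conj {P : Subgroup (MulAut Γ)} (hP : IsPGroup 2 P) :
    ∃ g : Γ, ∀ α ∈ P, MulAut.conj g * α * (MulAut.conj g)⁻¹ ∈ Ts := by
  have := Fact.mk Nat.prime_two
  obtain ⟨β, h⟩ := conj_into card_Ts (by rw [card_A]; norm_num) hP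
  obtain ⟨g, rfl | rfl⟩ := aut_cases β
  · exact ⟨g, h⟩
  refine ⟨ω g, fun α hα => ?_⟩
  have h1 : ω ∈ Ts := mem_sup_left (mem_zpowers _)
  have h2 := mul_mem (mul_mem h1 (h α hα)) (inv_mem h1)
  rw [← conj_cj]
  convert h2 using 1
  rw [inv_eq_of_mul_eq_one_right ω_sq, mul_inv_rev, mul_inv_rev, mul_inv_rev,
    inv_eq_of_mul_eq_one_right ω_sq]
  simp only [mul_assoc]

theorem two_conjT {P : Subgroup Γ} (hP : IsPGroup 2 P) :
    ∃ g : Γ, ∀ x ∈ P, g * x * g⁻¹ ∈ gen ν 10 :=
  haveI := Fact.mk Nat.prime_two
  conj_into (card_gen le_rfl) (by rw [card_G]; norm_num) hP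

set_option linter.unusedTactic false in
theorem eqns_HeA : True := by
  have := @iso.eq_1
  have := @g1.eq_1
  have := @g2.eq_1
  have := @om.eq_1
  have := @EA.eq_1
  have := @cA.eq_1
  have := @DF.eq_1
  have := @DA.eq_1
  have := @ω.eq_1
  have := @Wω.eq_1
  have := @ι.eq_1
  have := @μ.eq_1
  have := @Ts.eq_1
  trivial

end Cfsg.Agent.H24.HeA
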