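import Mathlib
import Cfsg.Agent.H24.PSolv
import Cfsg.Agent.H53.PSolv
import Cfsg.Agent.H92.ClassSize
import Cfsg.Agent.H94.Lift
import Cfsg.Agent.H3.Frattini
import Cfsg.Agent.H4.CoprimeAction
import Cfsg.Agent.H8.SylowIn

/-! When does a Sylow `p`-subgroup normalise a Sylow `q`-subgroup? -/

namespace Cfsg.Agent.H24

open Cfsg
open scoped Pointwise

variable {G : Type*} [Group G]

theorem exists_sylow_le_normalizer_of_not_dvd_index [Finite G] {p q : ℕ} [Fact p.Prime]
    [Fact q.Prime] (K : Subgroup G) [K.Normal] (hK : (Nat.card K).Coprime p)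
    (hq : ¬ q ∣ K.index) :
    ∃ (P : Sylow p G) (Q : Sylow q G),
      (P : Subgroup G) ≤ Subgroup.normalizer ((Q : Subgroup G) : Set G) := by
  obtain ⟨Q, hQ⟩ := H92.exists_sylow_le_of_not_dvd_index hq
  have h1 := Sylow.normalizer_sup_eq_top' Q hQ
  have h2 := H3.index_eq_relIndex_of_sup_eq_top h1
  have h3 : ¬ p ∣ (Subgroup.normalizer ((Q : Subgroup G) : Set G)).index := by
    intro h
    have h4 : p ∣ Nat.card K := (h2 ▸ h).trans (Subgroup.relIndex_dvd_card _ _)
    exact (Fact.out : p.Prime).one_lt.ne' (Nat.eq_one_of_dvd_coprimes hK h4 dvd_rfl)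
  obtain ⟨P, hP⟩ := H92.exists_sylow_le_of_not_dvd_index h3
  exact ⟨P, Q, hP⟩

theorem eq_bot_of_le_centralizer_pCore [Finite G] {p q : ℕ} [Fact p.Prime] [Fact q.Prime]
    (hpq : p ≠ q) (hs : IsPSolvable p G) (h : pPrimeCore p G = ⊥) {Q : Subgroup G}
    (hQ : IsPGroup q Q) (hc : Q ≤ Subgroup.centralizer (pCore p G : Set G)) : Q = ⊥ := by
  have h1 := hc.trans (H53.centralizer_pCore_le hs h)
  have h2 := IsPGroup.disjoint_of_ne p q hpq _ _ (H3.pCore_isPGroup p G) hQ
  exact h2.eq_bot_of_ge h1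

theorem not_dvd_index_pPrimeCore_of_le_normalizer [Finite G] {p q : ℕ} [Fact p.Prime]
    [Fact q.Prime] (hpq : p ≠ q) (hs : IsPSolvable p G) (P : Sylow p G) (Q : Sylow q G)
    (h : (P : Subgroup G) ≤ Subgroup.normalizer ((Q : Subgroup G) : Set G)) :
    ¬ q ∣ (pPrimeCore p G).index := by
  set K := pPrimeCore p G with hK
  have hf := QuotientGroup.mk'_surjective K
  have h1 : ((P.mapSurjective hf : Sylow p (G ⧸ K)) : Subgroup (G ⧸ K)) ≤
      Subgroup.normalizer ((Q.mapSurjective hf : Subgroup (G ⧸ K)) : Set (G ⧸ K)) := by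
    rw [Sylow.coe_mapSurjective, Sylow.coe_mapSurjective]
    exact (Subgroup.map_mono h).trans (Subgroup.le_normalizer_map _)
  have h2 := (H3.pCore_le_sylow (P.mapSurjective hf)).trans h1
  have h3 := H4.commutator_le_left_of_le_normalizer h2
  have h4 : ⁅((Q.mapSurjective hf : Sylow q (G ⧸ K)) : Subgroup (G ⧸ K)), pCore p (G ⧸ K)⁆ = ⊥ := by
    have h5 := IsPGroup.disjoint_of_ne p q hpq _ _ (H3.pCore_isPGroup p (G ⧸ K))
      (Q.mapSurjective hf).isPGroup'
    exact le_bot_iff.1 (h5 (Subgroup.commutator_le_right _ _) h3)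
  have h5 := eq_bot_of_le_centralizer_pCore hpq (isPSolvable_quotient Fact.out hs K)
    (H3.pPrimeCore_quotient_pPrimeCore p G) (Q.mapSurjective hf).isPGroup'
    (Subgroup.commutator_eq_bot_iff_le_centralizer.1 h4)
  have h6 := (Q.mapSurjective hf).not_dvd_index
  rw [h5, Subgroup.index_bot] at h6
  exact h6

theorem exists_sylow_le_normalizer_of_isPSolvable_left [Finite G] {p q : ℕ} [Fact p.Prime]
    [Fact q.Prime] (hpq : p ≠ q) (hs : IsPSolvable p G)
    (h : ∀ y : G, (∃ k : ℕ, orderOf y = q ^ k) →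
      ¬ p ∣ (Subgroup.centralizer ({y} : Set G)).index) :
    ∃ (P : Sylow p G) (Q : Sylow q G),
      (P : Subgroup G) ≤ Subgroup.normalizer ((Q : Subgroup G) : Set G) := by
  set K := pPrimeCore p G with hK
  refine exists_sylow_le_normalizer_of_not_dvd_index K (H3.pPrimeCore_coprime p G) ?_
  have hf := QuotientGroup.mk'_surjective K
  obtain ⟨Q⟩ : Nonempty (Sylow q (G ⧸ K)) := inferInstance
  have h5 : (Q : Subgroup (G ⧸ K)) = ⊥ := by
    refine eq_bot_of_le_centralizer_pCore hpq (isPSolvable_quotient Fact.out hs K)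
      (H3.pPrimeCore_quotient_pPrimeCore p G) Q.isPGroup' fun x hx => ?_
    obtain ⟨k, hk⟩ := IsPGroup.iff_orderOf.1 Q.isPGroup' ⟨x, hx⟩
    rw [Subgroup.orderOf_mk] at hk
    obtain ⟨y, rfl, hy⟩ := H94.exists_lift_prime_pow hf x Fact.out hk
    have h1 : ¬ p ∣ _ := fun h1 => h y hy (h1.trans (H92.cs_map_dvd hf y))
    obtain ⟨P, hP⟩ := H92.exists_sylow_le_of_not_dvd_index h1
    exact H92.le_C_iff.1 ((H3.pCore_le_sylow P).trans hP)
  have h6 := Q.not_dvd_index
  rw [h5, Subgroup.index_bot] at h6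
  exact h6

theorem exists_not_dvd_index_normalizer.{u} {p q : ℕ} [Fact p.Prime] [Fact q.Prime]
    (G : Type u) [Group G] [Finite G] (hs : IsPSolvable q G)
    (h : ∀ y : G, (∃ k : ℕ, orderOf y = q ^ k) →
      ¬ p ∣ (Subgroup.centralizer ({y} : Set G)).index) :
    ∃ Q : Sylow q G, ¬ p ∣ (Subgroup.normalizer ((Q : Subgroup G) : Set G)).index := by
  induction hn : Nat.card G using Nat.strong_induction_on generalizing G with
  | _ n ih =>
  have hp : p.Prime := Fact.out
  have hq : q.Prime := Fact.out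
  rcases subsingleton_or_nontrivial G with hG | hG
  · obtain ⟨Q⟩ : Nonempty (Sylow q G) := inferInstance
    refine ⟨Q, ?_⟩
    rw [Subsingleton.elim (Subgroup.normalizer ((Q : Subgroup G) : Set G)) ⊤, Subgroup.index_top]
    exact hp.not_dvd_one
  obtain ⟨K, hKn, hK, hK'⟩ := exists_normal_ne_bot_of_isPSolvable hs
  have hf := QuotientGroup.mk'_surjective K
  have hlt : Nat.card (G ⧸ K) < n := by
    rw [← hn, ← Subgroup.index_mul_card K]
    have h1 : 1 < Nat.card K := (Subgroup.one_lt_card_iff_ne_bot K).2 hK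
    have h2 : 0 < K.index := Nat.pos_of_ne_zero Subgroup.index_ne_zero_of_finite
    change K.index < _
    nlinarith
  obtain ⟨Q', hQ'⟩ := ih _ hlt (G ⧸ K) (isPSolvable_quotient hq hs K) (fun x ⟨k, hk⟩ => by
    obtain ⟨y, rfl, hy⟩ := H94.exists_lift_prime_pow hf x hq hk
    exact fun h1 => h y hy (h1.trans (H92.cs_map_dvd hf y))) rfl
  obtain ⟨Q, rfl⟩ := Sylow.mapSurjective_surjective hf q Q'
  refine ⟨Q, ?_⟩
  rw [← Subgroup.index_comap_of_surjective _ hf, Subgroup.comap_normalizer_eq_of_surjective _ hf,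
    Sylow.coe_mapSurjective, Subgroup.comap_map_eq, QuotientGroup.ker_mk'] at hQ'
  rcases hK' with ⟨m, hm⟩ | hK'
  · have h1 : K ≤ Q := (IsPGroup.of_card hm).le_sylow_of_normal Q
    rwa [sup_eq_left.2 h1] at hQ'
  set N := Subgroup.normalizer ((Q : Subgroup G) : Set G) with hN
  set T := Subgroup.normalizer (((Q : Subgroup G) ⊔ K : Subgroup G) : Set G) with hT
  have h1 : T = N ⊔ K := by
    apply le_antisymm
    · intro t ht
      obtain ⟨a, ha, b, hb, rfl⟩ := (H8.isSylowIn_of_le Q le_sup_left).frattini ht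
      exact Subgroup.mul_mem _ (sup_le_sup_right Subgroup.le_normalizer K ha)
        (Subgroup.mem_sup_left hb)
    · exact sup_le (H4.le_normalizer_sup le_rfl Subgroup.le_normalizer_of_normal)
        (le_sup_right.trans Subgroup.le_normalizer)
  have hcop : (Nat.card Q).Coprime (Nat.card K) := by
    obtain ⟨k, hk⟩ := IsPGroup.iff_card.1 Q.isPGroup'
    rw [hk]
    exact hK'.symm.pow_left k
  obtain ⟨R, hR⟩ := H4.exists_invariant_sylow (A := (Q : Subgroup G)) (K := K) Subgroup.le_normalizer_of_normal hcop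
    (Or.inl (H4.isSolvable_of_isPGroup Q.isPGroup')) p
  have h2 : (R : Subgroup K).map K.subtype ≤ Subgroup.centralizer ((Q : Subgroup G) : Set G) := by
    rw [Subgroup.le_centralizer_iff]
    intro y hy
    obtain ⟨k, hk⟩ := IsPGroup.iff_orderOf.1 Q.isPGroup' ⟨y, hy⟩
    rw [Subgroup.orderOf_mk] at hk
    obtain ⟨P, hP⟩ := H92.exists_sylow_le_of_not_dvd_index (h y ⟨k, hk⟩)
    obtain ⟨S, hS⟩ := H8.isSylowIn_iff_exists_sylow.1 (H8.isSylowIn_inf_normal P K)
    have hy' : Subgroup.zpowers y ≤ Q := (Subgroup.zpowers_le).2 hy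
    have h3 : (S : Subgroup K).map K.subtype ≤ Subgroup.centralizer ({y} : Set G) :=
      hS ▸ inf_le_left.trans hP
    have h4 : Subgroup.zpowers y ≤
        Subgroup.centralizer (((S : Subgroup K).map K.subtype : Subgroup G) : Set G) :=
      (Subgroup.zpowers_le).2 (H92.le_C_iff.1 h3)
    obtain ⟨c, hc, hc'⟩ := H4.invariant_sylow_conj (A := Subgroup.zpowers y) (K := K) Subgroup.le_normalizer_of_normal
      (hcop.coprime_dvd_left (Subgroup.card_dvd_of_le hy'))
      (Or.inl (H4.isSolvable_of_isPGroup (Q.isPGroup'.to_le hy'))) S R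
      (h4.trans (Subgroup.centralizer_le_normalizer _)) (hy'.trans hR)
    rw [← hc', Sylow.pointwise_smul_def, ← H4.conj_smul_map_subtype, H8.centralizer_conj_smul,
      H8.mem_conj_smul]
    have h5 : (c : G)⁻¹ * y * c = y := by
      rw [mul_assoc, hc y (Subgroup.mem_zpowers y)]
      group
    rw [h5]
    exact h4 (Subgroup.mem_zpowers y)
  have h3 : ¬ p ∣ (N ⊓ K).relIndex K := by
    intro h3
    have h4 : (R : Subgroup K).map K.subtype ≤ N ⊓ K :=
      le_inf (h2.trans (Subgroup.centralizer_le_normalizer _)) (Subgroup.map_subtype_le _)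
    exact (H8.isSylowIn_map_subtype R).not_dvd (h3.trans (Subgroup.relIndex_dvd_of_le_left K h4))
  have h4 : N.relIndex T = (N ⊓ K).relIndex K := by
    have h5 := H3.card_sup_mul_card_inf N K
    rw [← h1, ← H3.card_mul_relIndex (show N ≤ T from h1 ▸ le_sup_left),
      ← H3.card_mul_relIndex (show N ⊓ K ≤ K from inf_le_right)] at h5
    have h6 : 0 < Nat.card N := Nat.card_pos
    have h7 : 0 < Nat.card (N ⊓ K : Subgroup G) := Nat.card_pos
    apply Nat.eq_of_mul_eq_mul_left (Nat.mul_pos h6 h7)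
    linarith
  rw [← Subgroup.relIndex_mul_index (show N ≤ T from h1 ▸ le_sup_left), h4]
  exact hp.not_dvd_mul h3 hQ'

end Cfsg.Agent.H24
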